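import Mathlib

/-!
# The quasi-finite locus of a finitely presented morphism is constructible
-/

set_option autoImplicit false
universe u

open TensorProduct Topology CategoryTheory CategoryTheory.Limits AlgebraicGeometry

namespace RichLib.QFLocus

/-- quasi-finiteness at a point descends along a base change -/
theorem quasiFiniteAt_of_baseChange {A₀ A B₀ : Type u} [CommRing A₀] [CommRing A] [CommRing B₀]
    [Algebra A₀ A] [Algebra A₀ B₀] [Algebra.FiniteType A₀ B₀]
    (q : PrimeSpectrum (A ⊗[A₀] B₀)) (H : Algebra.QuasiFiniteAt A q.asIdeal) :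
    Algebra.QuasiFiniteAt A₀
      (PrimeSpectrum.comap (Algebra.TensorProduct.includeRight.toRingHom : B₀ →+* A ⊗[A₀] B₀) q).asIdeal := by
  let ι : B₀ →+* A ⊗[A₀] B₀ := Algebra.TensorProduct.includeRight.toRingHom
  set q₀ := PrimeSpectrum.comap ι q with hq₀
  let p := q.asIdeal.under A
  let p₀ := q₀.asIdeal.under A₀
  haveI : q.asIdeal.LiesOver p := ⟨rfl⟩
  haveI : p.LiesOver p₀ := ⟨by
    show q₀.asIdeal.under A₀ = p.under A₀
    ext r
    show ι (algebraMap A₀ B₀ r) ∈ q.asIdeal ↔ algebraMap A (A ⊗[A₀] B₀) (algebraMap A₀ A r) ∈ q.asIdeal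
    simp [ι, Algebra.TensorProduct.algebraMap_apply, ← Algebra.TensorProduct.tmul_one_eq_one_tmul]⟩
  letI := Localization.AtPrime.algebraOfLiesOver p q.asIdeal
  haveI : Localization.AtPrime.IsLiesOverAlgebra p q.asIdeal := ⟨rfl⟩
  letI := Localization.AtPrime.algebraOfLiesOver p₀ p
  haveI : Localization.AtPrime.IsLiesOverAlgebra p₀ p := ⟨rfl⟩
  let Φ : p.ResidueField ⊗[A] (A ⊗[A₀] B₀) →ₐ[A] q.asIdeal.ResidueField :=
    Algebra.TensorProduct.lift (IsScalarTower.toAlgHom A p.ResidueField q.asIdeal.ResidueField)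
      (IsScalarTower.toAlgHom A (A ⊗[A₀] B₀) q.asIdeal.ResidueField) (fun _ _ => Commute.all _ _)
  let Q : PrimeSpectrum (p.ResidueField ⊗[A] (A ⊗[A₀] B₀)) := ⟨RingHom.ker Φ.toRingHom, RingHom.ker_isPrime _⟩
  haveI : Q.asIdeal.IsPrime := Q.isPrime
  have hQ : q.asIdeal = Q.asIdeal.comap (Algebra.TensorProduct.includeRight :
      (A ⊗[A₀] B₀) →ₐ[A] p.ResidueField ⊗[A] (A ⊗[A₀] B₀)).toRingHom := by
    ext b
    show b ∈ q.asIdeal ↔ Φ (1 ⊗ₜ b) = 0
    rw [Algebra.TensorProduct.lift_tmul, map_one, one_mul]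
    exact Ideal.algebraMap_residueField_eq_zero.symm
  haveI : Algebra.QuasiFiniteAt A q.asIdeal := H
  haveI : Algebra.QuasiFiniteAt p.ResidueField Q.asIdeal :=
    Algebra.QuasiFiniteAt.baseChange q.asIdeal Q.asIdeal hQ
  have hopen : IsOpen {Q} := (Algebra.QuasiFiniteAt.isClopen_singleton (R := p.ResidueField) Q).isOpen
  let D := p₀.ResidueField ⊗[A₀] B₀
  let e : D ⊗[p₀.ResidueField] p.ResidueField ≃+* p.ResidueField ⊗[A] (A ⊗[A₀] B₀) :=
    ((Algebra.TensorProduct.comm p₀.ResidueField D p.ResidueField).toRingEquiv.trans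
      (Algebra.TensorProduct.cancelBaseChange A₀ p₀.ResidueField p.ResidueField p.ResidueField B₀).toRingEquiv).trans
      (Algebra.TensorProduct.cancelBaseChange A₀ A p.ResidueField p.ResidueField B₀).toRingEquiv.symm
  let Qc := (PrimeSpectrum.comapEquiv e).symm Q
  have hQc : IsOpen {Qc} := by
    have h := (PrimeSpectrum.homeomorphOfRingEquiv e).symm.isOpenMap _ hopen
    rwa [Set.image_singleton] at h
  let Q₀ := PrimeSpectrum.comap (algebraMap D (D ⊗[p₀.ResidueField] p.ResidueField)) Qc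
  have hQ₀ : IsOpen {Q₀} := by
    have h := PrimeSpectrum.isOpenMap_comap_algebraMap_tensorProduct_of_field
      (K := p₀.ResidueField) (A := D) (B := p.ResidueField) _ hQc
    rwa [Set.image_singleton] at h
  have hQ₀q : Q₀.asIdeal.comap (Algebra.TensorProduct.includeRight : B₀ →ₐ[A₀] D).toRingHom = q₀.asIdeal := by
    ext b
    show _ ↔ ι b ∈ q.asIdeal
    rw [hQ, Ideal.mem_comap]
    show e (algebraMap D _ (1 ⊗ₜ b)) ∈ Q.asIdeal ↔ _
    have : e (algebraMap D _ (1 ⊗ₜ b)) = 1 ⊗ₜ (ι b) := by simp [e, D, ι]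
    rw [this]; rfl
  refine .of_isOpen_singleton_fiber q₀ ?_
  let h := PrimeSpectrum.preimageHomeomorphFiber A₀ B₀ (q₀.comap (algebraMap A₀ B₀))
  rw [← h.isOpen_image, Set.image_singleton]
  have hh : h ⟨q₀, rfl⟩ = Q₀ := h.symm.injective (by
    rw [Homeomorph.symm_apply_apply]
    exact Subtype.ext (PrimeSpectrum.ext hQ₀q.symm))
  exact hh.symm ▸ hQ₀

theorem quasiFiniteAt_tensor_iff {A₀ A B₀ : Type u} [CommRing A₀] [CommRing A] [CommRing B₀]
    [Algebra A₀ A] [Algebra A₀ B₀] [Algebra.FiniteType A₀ B₀] (q : PrimeSpectrum (A ⊗[A₀] B₀)) :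
    Algebra.QuasiFiniteAt A q.asIdeal ↔ Algebra.QuasiFiniteAt A₀
      (PrimeSpectrum.comap (Algebra.TensorProduct.includeRight.toRingHom : B₀ →+* A ⊗[A₀] B₀) q).asIdeal :=
  ⟨quasiFiniteAt_of_baseChange q, fun H => by
    exact @Algebra.QuasiFiniteAt.baseChange A₀ B₀ _ _ _ _ _ H A _ _ q.asIdeal _ rfl⟩

theorem quasiFiniteAt_spec_iff {A B : Type u} [CommRing A] [CommRing B] [Algebra A B] (x : PrimeSpectrum B) :
    Algebra.QuasiFiniteAt A x.asIdeal ↔
      (Spec.map (CommRingCat.ofHom (algebraMap A B))).QuasiFiniteAt x := by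
  letI := Localization.AtPrime.algebraOfLiesOver (x.asIdeal.under A) x.asIdeal
  show Algebra.QuasiFinite A (Localization.AtPrime x.asIdeal) ↔ RingHom.QuasiFinite _
  symm
  trans Algebra.QuasiFinite (Localization.AtPrime (x.asIdeal.under A)) (Localization.AtPrime x.asIdeal)
  · rw [← RingHom.quasiFinite_algebraMap]
    exact RingHom.QuasiFinite.respectsIso.arrow_mk_iso_iff (Scheme.arrowStalkMapSpecIso ..)
  exact ⟨fun _ ↦ .trans _ (Localization.AtPrime (x.asIdeal.under A)) _,
    fun _ ↦ .of_restrictScalars A _ _⟩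

theorem isOpen_setOf_quasiFiniteAt (A B : Type u) [CommRing A] [CommRing B] [Algebra A B]
    [Algebra.FiniteType A B] : IsOpen {q : PrimeSpectrum B | Algebra.QuasiFiniteAt A q.asIdeal} := by
  let φ : CommRingCat.of A ⟶ CommRingCat.of B := CommRingCat.ofHom (algebraMap A B)
  haveI : LocallyOfFiniteType (Spec.map φ) := by
    rw [HasRingHomProperty.Spec_iff (P := @LocallyOfFiniteType)]
    exact RingHom.finiteType_algebraMap.mpr inferInstance
  have := (Spec.map φ).isOpen_quasiFiniteAt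
  simp only [quasiFiniteAt_spec_iff]
  exact this

theorem quasiFiniteAt_comap_iff {A B B' : Type u} [CommRing A] [CommRing B] [CommRing B'] [Algebra A B]
    [Algebra A B'] (e : B' ≃ₐ[A] B) (q : PrimeSpectrum B) :
    Algebra.QuasiFiniteAt A (PrimeSpectrum.comap e.toAlgHom.toRingHom q).asIdeal ↔
      Algebra.QuasiFiniteAt A q.asIdeal := by
  constructor
  · intro h
    obtain ⟨q', rfl⟩ : ∃ q', PrimeSpectrum.comap e.symm.toAlgHom.toRingHom q' = q :=
      ⟨PrimeSpectrum.comap e.toAlgHom.toRingHom q, by ext x; simp⟩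
    have he : PrimeSpectrum.comap e.toAlgHom.toRingHom
        (PrimeSpectrum.comap e.symm.toAlgHom.toRingHom q') = q' := by ext x; simp
    simp only [he] at h
    haveI := h
    exact Algebra.QuasiFiniteAt.comap_algEquiv q'.asIdeal e.symm
  · intro h
    exact Algebra.QuasiFiniteAt.comap_algEquiv q.asIdeal e

theorem isConstructible_setOf_quasiFiniteAt (A B : Type u) [CommRing A] [CommRing B] [Algebra A B]
    [Algebra.FinitePresentation A B] :
    IsConstructible {q : PrimeSpectrum B | Algebra.QuasiFiniteAt A q.asIdeal} := by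
  let P := Algebra.Presentation.ofFinitePresentation A B
  let A₀ := P.Core
  let B₀ := P.ModelOfHasCoeffs A₀
  haveI : Algebra.FiniteType A₀ B₀ := inferInstance
  haveI : IsNoetherianRing A₀ := Algebra.FiniteType.isNoetherianRing ℤ A₀
  haveI : IsNoetherianRing B₀ := Algebra.FiniteType.isNoetherianRing A₀ B₀
  let e : A ⊗[A₀] B₀ ≃ₐ[A] B := P.tensorModelOfHasCoeffsEquiv A₀
  let ι : B₀ →+* B := e.toRingEquiv.toRingHom.comp Algebra.TensorProduct.includeRight.toRingHom
  have heq : {q : PrimeSpectrum B | Algebra.QuasiFiniteAt A q.asIdeal} =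
      PrimeSpectrum.comap ι ⁻¹' {q₀ | Algebra.QuasiFiniteAt A₀ q₀.asIdeal} := by
    ext q
    show Algebra.QuasiFiniteAt A q.asIdeal ↔ _
    refine (quasiFiniteAt_comap_iff (B' := A ⊗[A₀] B₀) e q).symm.trans ?_
    exact quasiFiniteAt_tensor_iff _
  rw [heq]
  refine Scheme.Hom.isConstructible_preimage (Spec.map (CommRingCat.ofHom ι)) ?_
  have hr : IsRetrocompact {q₀ : PrimeSpectrum B₀ | Algebra.QuasiFiniteAt A₀ q₀.asIdeal} :=
    fun _ _ _ => TopologicalSpace.NoetherianSpace.isCompact _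
  exact hr.isConstructible (isOpen_setOf_quasiFiniteAt A₀ B₀)

/-- quasi-finiteness at a point is invariant under base change -/
theorem quasiFiniteAt_iff_of_isPullback {P X Y T : Scheme.{u}} {fst : P ⟶ X} {snd : P ⟶ T}
    {f : X ⟶ Y} {g : T ⟶ Y} (h : IsPullback fst snd f g) [LocallyOfFiniteType f] (z : P) :
    snd.QuasiFiniteAt z ↔ f.QuasiFiniteAt (fst.base z) := by
  haveI : LocallyOfFiniteType snd := MorphismProperty.of_isPullback h inferInstance
  constructor
  · intro hz
    rw [Scheme.Hom.quasiFiniteAt_iff_isOpen_singleton_asFiber] at hz ⊢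
    have hsq := isPullback_fiberToSpecResidueField_of_isPullback h (snd.base z)
    haveI : UniversallyOpen (Spec.map (g.residueFieldMap (snd.base z))) := inferInstance
    let m := pullback.map snd (T.fromSpecResidueField (snd.base z)) f (Y.fromSpecResidueField (g.base (snd.base z)))
      fst (Spec.map (g.residueFieldMap (snd.base z))) g h.w.symm (by simp)
    haveI : UniversallyOpen m := MorphismProperty.of_isPullback (P := @UniversallyOpen) hsq.flip inferInstance
    have h1 := m.isOpenMap _ hz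
    erw [Set.image_singleton] at h1
    have e : g.base (snd.base z) = f.base (fst.base z) := by
      rw [← Scheme.Hom.comp_apply, ← h.w, Scheme.Hom.comp_apply]
    have key : ∀ (y : Y) (hy : y = f.base (fst.base z)) (w : f.fiber y),
        (f.fiberι y).base w = fst.base z → IsOpen {w} → IsOpen {f.asFiber (fst.base z)} := by
      rintro y rfl w hw ho
      have : w = f.asFiber (fst.base z) := (f.fiberι _).isEmbedding.injective (by rw [hw]; simp)
      exact this ▸ ho
    refine key _ e _ ?_ h1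
    have hm : m ≫ f.fiberι _ = snd.fiberι _ ≫ fst := pullback.lift_fst _ _ _
    show (m ≫ f.fiberι (g.base (snd.base z))).base (snd.asFiber z) = _
    erw [hm]
    show fst.base ((snd.fiberι _).base (snd.asFiber z)) = _
    rw [Scheme.Hom.fiberι_asFiber]
  · intro hz
    let U := f.quasiFiniteLocus
    haveI : LocallyQuasiFinite (U.ι ≫ f) := by
      rw [← Scheme.Hom.quasiFiniteLocus_eq_top_iff, Scheme.Hom.quasiFiniteLocus_comp, eq_top_iff]
      exact fun x _ => x.2
    have hp := IsPullback.paste_horiz (IsPullback.of_hasPullback fst U.ι) h.flip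
    haveI : LocallyQuasiFinite (pullback.fst fst U.ι ≫ snd) := MorphismProperty.of_isPullback hp.flip (inferInstance : LocallyQuasiFinite (U.ι ≫ f))
    obtain ⟨w, hw, -⟩ := Scheme.exists_preimage_of_isPullback (IsPullback.of_hasPullback fst U.ι) z ⟨fst.base z, hz⟩ rfl
    have h3 := (pullback.fst fst U.ι ≫ snd).quasiFiniteAt w
    rw [Scheme.Hom.quasiFiniteAt_comp_iff_of_isOpenImmersion, hw] at h3
    exact h3

/-- the quasi-finite locus of a morphism locally of finite presentation is locally constructible -/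
theorem isLocallyConstructible_quasiFiniteLocus {X Y : Scheme.{u}} (f : X ⟶ Y)
    [LocallyOfFinitePresentation f] :
    IsLocallyConstructible (f.quasiFiniteLocus : Set X) := by
  wlog H : (∃ A, Y = Spec A) ∧ (∃ B, X = Spec B) generalizing X Y
  · intro x
    obtain ⟨_, ⟨U : Y.Opens, hU, rfl⟩, hxU, -⟩ := Y.isBasis_affineOpens.exists_subset_of_mem_open
      (Set.mem_univ (f x)) isOpen_univ
    obtain ⟨_, ⟨V : X.Opens, hV, rfl⟩, hxV, hVU⟩ := X.isBasis_affineOpens.exists_subset_of_mem_open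
      hxU (f ⁻¹ᵁ U).2
    refine ⟨V, V.2.mem_nhds hxV, V.2, ?_⟩
    let i := hV.fromSpec
    let φ := f.appLE U V hVU
    have hφ : Spec.map φ ≫ hU.fromSpec = i ≫ f := hU.SpecMap_appLE_fromSpec f hV hVU
    haveI hfp : LocallyOfFinitePresentation (Spec.map φ) := by
      rw [HasRingHomProperty.Spec_iff (P := @LocallyOfFinitePresentation)]
      exact HasRingHomProperty.appLE (P := @LocallyOfFinitePresentation) f ‹_› ⟨U, hU⟩ ⟨V, hV⟩ hVU
    have h2 : IsLocallyConstructible ((Spec.map φ).quasiFiniteLocus : Set (Spec Γ(X, V))) :=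
      this (Spec.map φ) ⟨⟨_, rfl⟩, ⟨_, rfl⟩⟩
    have h3 : ((Spec.map φ).quasiFiniteLocus : Set (Spec Γ(X, V))) = i.base ⁻¹' f.quasiFiniteLocus := by
      ext w
      show (Spec.map φ).QuasiFiniteAt w ↔ f.QuasiFiniteAt (i w)
      rw [← Scheme.Hom.quasiFiniteAt_comp_iff (g := hU.fromSpec), hφ,
        Scheme.Hom.quasiFiniteAt_comp_iff_of_isOpenImmersion]
    rw [h3] at h2
    have h4 := h2.isConstructible.preimage_of_isOpenEmbedding (hV.isoSpec.hom.isOpenEmbedding)
    rw [← Set.preimage_comp] at h4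
    have hfun : (Subtype.val : V → X) = i.base ∘ hV.isoSpec.hom.base := funext fun w => by
      show V.ι.base w = i.base (hV.isoSpec.hom.base w)
      rw [← Scheme.Hom.comp_apply, hV.isoSpec_hom_fromSpec]
    have h7 : IsConstructible ((Subtype.val : V → X) ⁻¹' (f.quasiFiniteLocus : Set X)) := by
      rw [hfun]; exact h4
    exact h7
  obtain ⟨⟨A, rfl⟩, ⟨B, rfl⟩⟩ := H
  obtain ⟨φ, rfl⟩ := Spec.map_surjective f
  letI := φ.hom.toAlgebra
  haveI : Algebra.FinitePresentation A B :=
    (HasRingHomProperty.Spec_iff (P := @LocallyOfFinitePresentation)).mp ‹_›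
  refine IsConstructible.isLocallyConstructible ?_
  have h5 := isConstructible_setOf_quasiFiniteAt A B
  simp only [quasiFiniteAt_spec_iff] at h5
  exact h5

end RichLib.QFLocus
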