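import Mathlib

/-!
# Cofiltered systems of schemes affine over a base, their base changes, and descent of properties
-/

set_option autoImplicit false
universe u

open CategoryTheory CategoryTheory.Limits AlgebraicGeometry Topology

namespace RichLib.LimBC

attribute [local simp] pullback.lift_fst pullback.lift_snd pullback.lift_fst_assoc pullback.lift_snd_assoc

/-- A cofiltered system of schemes affine over `S`, together with its limit. -/
structure Sys (I : Type u) [SmallCategory I] (S : Scheme.{u}) where
  D : I ⥤ Scheme.{u}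
  t : ∀ i, D.obj i ⟶ S
  w : ∀ {i j : I} (a : i ⟶ j), D.map a ≫ t j = t i
  c : Cone D
  hc : IsLimit c
  affine : ∀ i, IsAffineHom (t i)
  s : c.pt ⟶ S
  hs : ∀ i, c.π.app i ≫ t i = s

variable {I : Type u} [SmallCategory I] {S : Scheme.{u}} (A : Sys I S)

attribute [simp, reassoc] Sys.w Sys.hs

theorem Sys.affine_map {i j : I} (a : i ⟶ j) : IsAffineHom (A.D.map a) := by
  haveI := A.affine j
  haveI : IsAffineHom (A.D.map a ≫ A.t j) := by rw [A.w a]; exact A.affine i
  exact IsAffineHom.of_comp _ (A.t j)

theorem Sys.compactSpace_obj [CompactSpace S] (i : I) : CompactSpace (A.D.obj i) :=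
  haveI := A.affine i
  QuasiCompact.compactSpace_of_compactSpace (A.t i)

theorem Sys.quasiSeparatedSpace_obj [QuasiSeparatedSpace S] (i : I) :
    QuasiSeparatedSpace (A.D.obj i) :=
  haveI := A.affine i
  quasiSeparatedSpace_of_quasiSeparated (A.t i)

variable {W : Scheme.{u}} (g : W ⟶ S)

/-- the transition maps of the base changes -/
noncomputable def pbMap {i j : I} (a : i ⟶ j) : pullback g (A.t i) ⟶ pullback g (A.t j) :=
  pullback.lift (pullback.fst g (A.t i)) (pullback.snd g (A.t i) ≫ A.D.map a) (by simp [pullback.condition])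

@[reassoc (attr := simp)]
theorem pbMap_fst {i j : I} (a : i ⟶ j) :
    pbMap A g a ≫ pullback.fst g (A.t j) = pullback.fst g (A.t i) :=
  pullback.lift_fst _ _ _

@[reassoc (attr := simp)]
theorem pbMap_snd {i j : I} (a : i ⟶ j) :
    pbMap A g a ≫ pullback.snd g (A.t j) = pullback.snd g (A.t i) ≫ A.D.map a :=
  pullback.lift_snd _ _ _

/-- the diagram of base changes -/
noncomputable def pbD : I ⥤ Scheme.{u} where
  obj i := pullback g (A.t i)
  map a := pbMap A g a
  map_id i := by apply pullback.hom_ext <;> simp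
  map_comp {i j k} a b := by apply pullback.hom_ext <;> simp

/-- the projection to the original diagram -/
noncomputable def pbSnd : pbD A g ⟶ A.D where
  app i := pullback.snd g (A.t i)
  naturality i j a := pbMap_snd A g a

theorem isPullback_map {i j : I} (a : i ⟶ j) :
    IsPullback (pbMap A g a) (pullback.snd g (A.t i)) (pullback.snd g (A.t j)) (A.D.map a) :=
  IsPullback.of_right (by
    rw [pbMap_fst, A.w a]
    exact IsPullback.of_hasPullback _ _) (pbMap_snd A g a) (IsPullback.of_hasPullback _ _)

/-- the projections from the base-changed limit -/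
noncomputable def pbπ (i : I) : pullback g A.s ⟶ pullback g (A.t i) :=
  pullback.lift (pullback.fst g A.s) (pullback.snd g A.s ≫ A.c.π.app i) (by simp [pullback.condition])

@[reassoc (attr := simp)]
theorem pbπ_fst (i : I) : pbπ A g i ≫ pullback.fst g (A.t i) = pullback.fst g A.s :=
  pullback.lift_fst _ _ _

@[reassoc (attr := simp)]
theorem pbπ_snd (i : I) : pbπ A g i ≫ pullback.snd g (A.t i) = pullback.snd g A.s ≫ A.c.π.app i :=
  pullback.lift_snd _ _ _

theorem pbπ_map {i j : I} (a : i ⟶ j) : pbπ A g i ≫ pbMap A g a = pbπ A g j :=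
  pullback.hom_ext (by rw [Category.assoc, pbMap_fst, pbπ_fst, pbπ_fst])
    (by rw [Category.assoc, pbMap_snd, pbπ_snd, pbπ_snd_assoc, A.c.w])

/-- the cone of base changes -/
noncomputable def pbCone : Cone (pbD A g) where
  pt := pullback g A.s
  π :=
  { app i := pbπ A g i
    naturality i j a := (Category.id_comp _).trans (pbπ_map A g a).symm }

theorem isPullback_cone (i : I) :
    IsPullback (pbπ A g i) (pullback.snd g A.s) (pullback.snd g (A.t i)) (A.c.π.app i) :=
  IsPullback.of_right (by
    rw [pbπ_fst, A.hs i]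
    exact IsPullback.of_hasPullback _ _) (pbπ_snd A g i) (IsPullback.of_hasPullback _ _)

variable [IsCofiltered I]

/-- base change of a system -/
noncomputable def pb : Sys I W where
  D := pbD A g
  t i := pullback.fst g (A.t i)
  w a := pbMap_fst A g a
  c := pbCone A g
  hc := haveI := IsCofiltered.isConnected I
    isLimitOfIsPullbackOfIsConnected (pbSnd A g) _ _
    { hom := pullback.snd g A.s, w := fun i => (pbπ_snd A g i).symm } (fun i => isPullback_cone A g i) A.hc
  affine i := MorphismProperty.pullback_fst g (A.t i) (A.affine i)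
  s := pullback.fst g A.s
  hs i := pbπ_fst A g i

/-- a property holds for the base change of `g` to stage `i` -/
def At (P : MorphismProperty Scheme.{u}) (i : I) : Prop := P (pullback.snd g (A.t i))

/-- a property holds for the base change of `g` to the limit -/
def AtLim (P : MorphismProperty Scheme.{u}) : Prop := P (pullback.snd g A.s)

omit [IsCofiltered I] in
theorem at_of_hom {P : MorphismProperty Scheme.{u}} [P.IsStableUnderBaseChange] {i j : I}
    (a : j ⟶ i) (h : At A g P i) : At A g P j :=
  MorphismProperty.of_isPullback (isPullback_map A g a) h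

theorem exists_stage {ι : Type u} [Finite ι] (P : ι → I → Prop)
    (hmono : ∀ k {i j : I} (a : j ⟶ i), P k i → P k j) (h : ∀ k, ∃ i, P k i) : ∃ i, ∀ k, P k i := by
  classical
  choose i hi using h
  haveI := Fintype.ofFinite ι
  obtain ⟨j, hj⟩ := IsCofiltered.inf_objs_exists (Finset.univ.image i)
  exact ⟨j, fun k => hmono k (hj (Finset.mem_image_of_mem _ (Finset.mem_univ k))).some (hi k)⟩

omit [IsCofiltered I] in
/-- the base change of a morphism to a stage of a base-changed system -/
theorem isPullback_pb {U : Scheme.{u}} (ι : U ⟶ S) (i : I) :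
    IsPullback
      (pullback.map (pullback.snd g ι) (pullback.fst ι (A.t i)) g (A.t i)
        (pullback.fst g ι) (pullback.snd ι (A.t i)) ι pullback.condition.symm pullback.condition)
      (pullback.snd (pullback.snd g ι) (pullback.fst ι (A.t i)))
      (pullback.snd g (A.t i)) (pullback.snd ι (A.t i)) := by
  refine IsPullback.of_right ?_ (by simp) (IsPullback.of_hasPullback g (A.t i))
  rw [pullback.lift_fst, ← pullback.condition]
  exact (IsPullback.of_hasPullback _ _).paste_horiz (IsPullback.of_hasPullback g ι)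

/-- a property local on the target descends if it descends over each affine open of the base -/
theorem exists_at_of_local (P : MorphismProperty Scheme.{u}) [P.IsStableUnderBaseChange]
    [IsZariskiLocalAtTarget P] [CompactSpace S] (hlim : AtLim A g P)
    (H : ∀ {U : Scheme.{u}} (ι : U ⟶ S) [IsOpenImmersion ι] [IsAffine U],
      AtLim (pb A ι) (pullback.snd g ι) P → ∃ i, At (pb A ι) (pullback.snd g ι) P i) :
    ∃ i, At A g P i := by
  let 𝒰 := S.affineCover.finiteSubcover
  have h : ∀ k : 𝒰.I₀, ∃ i, At (pb A (𝒰.f k)) (pullback.snd g (𝒰.f k)) P i := by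
    intro k
    haveI : IsAffine (𝒰.X k) := inferInstanceAs (IsAffine (Spec _))
    refine H (𝒰.f k) ?_
    refine MorphismProperty.of_isPullback (P := P) (g := pullback.snd g A.s)
      (f := pullback.snd (𝒰.f k) A.s)
      (f' := pullback.map (pullback.snd g (𝒰.f k)) (pullback.fst (𝒰.f k) A.s)
      g A.s (pullback.fst g (𝒰.f k)) (pullback.snd (𝒰.f k) A.s) (𝒰.f k) pullback.condition.symm
      pullback.condition) ?_ hlim
    refine IsPullback.of_right (h₁₁ := pullback.map (pullback.snd g (𝒰.f k)) (pullback.fst (𝒰.f k) A.s)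
      g A.s (pullback.fst g (𝒰.f k)) (pullback.snd (𝒰.f k) A.s) (𝒰.f k) pullback.condition.symm
      pullback.condition) ?_ (pullback.lift_snd _ _ _) (IsPullback.of_hasPullback g A.s)
    rw [pullback.lift_fst, ← pullback.condition]
    exact (IsPullback.of_hasPullback _ _).paste_horiz (IsPullback.of_hasPullback g (𝒰.f k))
  obtain ⟨i, hi⟩ := exists_stage (fun k i => At (pb A (𝒰.f k)) (pullback.snd g (𝒰.f k)) P i)
    (fun k _ _ a => at_of_hom (pb A (𝒰.f k)) _ a) h
  refine ⟨i, IsZariskiLocalAtTarget.of_openCover (𝒰.pullback₁ (A.t i)) fun k => ?_⟩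
  let k' : 𝒰.I₀ := k
  have sq := (isPullback_pb A g (𝒰.f k') i).paste_horiz (IsPullback.of_hasPullback g (A.t i))
  show P (pullback.snd (pullback.snd g (A.t i)) (pullback.fst (A.t i) (𝒰.f k')))
  have sq2 : IsPullback (pullback.fst (pullback.snd g (A.t i)) (pullback.fst (A.t i) (𝒰.f k')))
      (pullback.snd (pullback.snd g (A.t i)) (pullback.fst (A.t i) (𝒰.f k')) ≫
        (pullbackSymmetry (A.t i) (𝒰.f k')).hom)
      (pullback.snd g (A.t i)) (pullback.snd (𝒰.f k') (A.t i)) :=
    (IsPullback.of_hasPullback _ _).of_iso (Iso.refl _) (Iso.refl _)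
      (pullbackSymmetry (A.t i) (𝒰.f k')) (Iso.refl _) (by simp) (by simp) (by simp) (by simp)
  rw [← MorphismProperty.cancel_right_of_respectsIso P _ (pullbackSymmetry (A.t i) (𝒰.f k')).hom,
    ← sq2.isoIsPullback_hom_snd _ _ (isPullback_pb A g (𝒰.f k') i),
    MorphismProperty.cancel_left_of_respectsIso P]
  exact hi k'

/-- the system of the stages below `i₀`, over the stage `i₀` -/
noncomputable def ofStage (D : I ⥤ Scheme.{u}) (c : Cone D) (hc : IsLimit c)
    [∀ (i j : I) (f : i ⟶ j), IsAffineHom (D.map f)] (i₀ : I) : Sys (Over i₀) (D.obj i₀) where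
  D := Over.forget i₀ ⋙ D
  t φ := D.map φ.hom
  w a := (D.map_comp _ _).symm.trans (congrArg D.map (Over.w a))
  c := c.whisker (Over.forget i₀)
  hc := (Functor.Initial.isLimitWhiskerEquiv (Over.forget i₀) c).symm hc
  affine φ := inferInstance
  s := c.π.app i₀
  hs φ := c.w φ.hom

/-- restart a system at a stage -/
noncomputable def restart (i : I) : Sys (Over i) (A.D.obj i) :=
  haveI : ∀ (j k : I) (f : j ⟶ k), IsAffineHom (A.D.map f) := fun _ _ f => A.affine_map f
  ofStage A.D A.c A.hc i

theorem atLim_restart (P : MorphismProperty Scheme.{u}) [P.IsStableUnderBaseChange] (i : I)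
    (h : AtLim A g P) : AtLim (restart A i) (pullback.snd g (A.t i)) P := by
  refine MorphismProperty.of_isPullback (P := P) (g := pullback.snd g A.s) (f := 𝟙 A.c.pt)
    (f' := pullback.lift (pullback.fst (pullback.snd g (A.t i)) (A.c.π.app i) ≫ pullback.fst g (A.t i))
      (pullback.snd (pullback.snd g (A.t i)) (A.c.π.app i)) ?_) ?_ h
  · rw [Category.assoc, pullback.condition, ← Category.assoc, pullback.condition, Category.assoc, A.hs i]
  · refine IsPullback.of_right ?_ ((pullback.lift_snd _ _ _).trans (Category.comp_id _).symm)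
      (IsPullback.of_hasPullback g A.s)
    rw [pullback.lift_fst, Category.id_comp, ← A.hs i]
    exact (IsPullback.of_hasPullback _ _).paste_horiz (IsPullback.of_hasPullback g (A.t i))

theorem at_restart {P : MorphismProperty Scheme.{u}} [P.IsStableUnderBaseChange] {i : I} {φ : Over i}
    (h : At (restart A i) (pullback.snd g (A.t i)) P φ) : At A g P φ.left := by
  have h1 : IsPullback (pbMap A g φ.hom) (pullback.snd g (A.t φ.left)) (pullback.snd g (A.t i))
      (A.D.map φ.hom) := isPullback_map A g φ.hom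
  show P (pullback.snd g (A.t φ.left))
  rw [← h1.isoPullback_hom_snd, MorphismProperty.cancel_left_of_respectsIso P]
  exact h

/-- descent of a property of `f₀` relative to a stage, from descent for systems affine over its target -/
theorem descend_of_sys (P : MorphismProperty Scheme.{u}) [P.RespectsIso]
    (D : I ⥤ Scheme.{u}) (c : Cone D) (hc : IsLimit c)
    [∀ (i j : I) (f : i ⟶ j), IsAffineHom (D.map f)] (i₀ : I) {X₀ Y₀ : Scheme.{u}} (f₀ : X₀ ⟶ Y₀)
    (g₀ : Y₀ ⟶ D.obj i₀) {X Y : Scheme.{u}} (f : X ⟶ Y) (g : Y ⟶ c.pt) (qY : Y ⟶ Y₀) (qX : X ⟶ X₀)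
    (hY : IsPullback qY g g₀ (c.π.app i₀)) (hX : IsPullback qX f f₀ qY) (hf : P f)
    (H : ∀ B : Sys (Over i₀) Y₀, AtLim B f₀ P → ∃ φ, At B f₀ P φ) :
    ∃ (i : I) (φ : i ⟶ i₀) (Xi Yi : Scheme.{u}) (fi : Xi ⟶ Yi) (gi : Yi ⟶ D.obj i) (pY : Yi ⟶ Y₀)
      (pX : Xi ⟶ X₀), IsPullback pY gi g₀ (D.map φ) ∧ IsPullback pX fi f₀ pY ∧ P fi := by
  let B := pb (ofStage D c hc i₀) g₀
  have hlim : AtLim B f₀ P := by
    show P (pullback.snd f₀ (pullback.fst g₀ (c.π.app i₀)))
    have hX' : IsPullback qX (f ≫ hY.isoPullback.hom) f₀ (pullback.fst g₀ (c.π.app i₀)) :=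
      hX.of_iso (Iso.refl _) (Iso.refl _) hY.isoPullback (Iso.refl _) (by simp) (by simp) (by simp)
        (by simp)
    rw [← hX'.isoPullback_inv_snd, MorphismProperty.cancel_left_of_respectsIso P,
      MorphismProperty.cancel_right_of_respectsIso P]
    exact hf
  obtain ⟨φ, hφ⟩ := H B hlim
  exact ⟨φ.left, φ.hom, _, _, pullback.snd f₀ (pullback.fst g₀ (D.map φ.hom)),
    pullback.snd g₀ (D.map φ.hom), pullback.fst g₀ (D.map φ.hom), pullback.fst _ _,
    IsPullback.of_hasPullback _ _, IsPullback.of_hasPullback _ _, hφ⟩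

end RichLib.LimBC
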