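import Mathlib
import Groth.Agent.RichLib.LimitBaseChange

/-!
# Descent of properties of morphisms along limits: affine, closed immersion, finite, isomorphism
-/

set_option autoImplicit false
universe u

open CategoryTheory CategoryTheory.Limits AlgebraicGeometry Topology

namespace RichLib.LimBC

theorem closure_range_union_range_of_isPushout {Z A B P : CommRingCat.{u}} {a : Z ⟶ A} {b : Z ⟶ B}
    {inl : A ⟶ P} {inr : B ⟶ P} (h : IsPushout a b inl inr) :
    Subring.closure (Set.range inl.hom ∪ Set.range inr.hom) = ⊤ := by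
  set T := Subring.closure (Set.range inl.hom ∪ Set.range inr.hom) with hT
  let l' : A ⟶ CommRingCat.of T := CommRingCat.ofHom
    (inl.hom.codRestrict T fun x => Subring.subset_closure (Or.inl ⟨x, rfl⟩))
  let r' : B ⟶ CommRingCat.of T := CommRingCat.ofHom
    (inr.hom.codRestrict T fun x => Subring.subset_closure (Or.inr ⟨x, rfl⟩))
  let k : P ⟶ CommRingCat.of T := h.desc l' r' (by
    refine CommRingCat.hom_ext (RingHom.ext fun x => Subtype.ext ?_)
    exact congr($(h.w).hom x))
  have hk : k ≫ CommRingCat.ofHom T.subtype = 𝟙 P := by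
    apply h.hom_ext <;> rw [Category.comp_id]
    · rw [← Category.assoc, h.inl_desc]; rfl
    · rw [← Category.assoc, h.inr_desc]; rfl
  rw [eq_top_iff]
  intro x _
  have hx : ((k.hom x : T) : P) = x := congr($(hk).hom x)
  rw [← hx]
  exact (k.hom x).2

variable {I : Type u} [SmallCategory I] [IsCofiltered I] {S : Scheme.{u}} (A : Sys I S)
  {W : Scheme.{u}} (g : W ⟶ S)

theorem Sys.affine_s : IsAffineHom A.s := by
  haveI : ∀ {i j : I} (f : i ⟶ j), IsAffineHom (A.D.map f) := fun f => A.affine_map f
  obtain ⟨i⟩ := IsCofiltered.nonempty (C := I)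
  haveI := A.affine i
  haveI := isAffineHom_π_app A.D A.c A.hc i
  rw [← A.hs i]
  exact MorphismProperty.comp_mem _ _ _ inferInstance (A.affine i)

/-- a property of a stage which holds over the limit as an open condition holds at a later stage -/
theorem exists_map_preimage_eq_top [CompactSpace S] {i : I} (V : (A.D.obj i).Opens)
    (hV : A.c.π.app i ⁻¹ᵁ V = ⊤) : ∃ (j : I) (a : j ⟶ i), A.D.map a ⁻¹ᵁ V = ⊤ := by
  haveI : ∀ {i j : I} (f : i ⟶ j), IsAffineHom (A.D.map f) := fun f => A.affine_map f
  haveI := A.compactSpace_obj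
  exact exists_map_eq_top A.D A.c A.hc V hV

theorem exists_at_isAffineHom [CompactSpace S] [QuasiCompact g] [QuasiSeparated g]
    (h : AtLim A g @IsAffineHom) : ∃ i, At A g @IsAffineHom i := by
  refine exists_at_of_local A g _ h fun {U} ι _ _ hU => ?_
  let B := pb A ι
  let g' := pullback.snd g ι
  haveI : CompactSpace ↥(pullback g ι) := QuasiCompact.compactSpace_of_compactSpace g'
  haveI : QuasiSeparatedSpace ↥(pullback g ι) := quasiSeparatedSpace_of_quasiSeparated g'
  let C := pb B g'
  haveI : ∀ {i j : I} (f : i ⟶ j), IsAffineHom (C.D.map f) := fun f => C.affine_map f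
  haveI := C.compactSpace_obj
  haveI := C.quasiSeparatedSpace_obj
  haveI : IsAffineHom B.s := B.affine_s
  haveI : IsAffine B.c.pt := isAffine_of_isAffineHom B.s
  haveI hU' : IsAffineHom (pullback.snd g' B.s) := hU
  haveI : IsAffine C.c.pt := @isAffine_of_isAffineHom _ _ (pullback.snd g' B.s) hU' ‹IsAffine B.c.pt›
  obtain ⟨i, hi⟩ := Scheme.exists_isAffine_of_isLimit C.D C.c C.hc
  haveI := B.affine i
  haveI : IsAffine (B.D.obj i) := isAffine_of_isAffineHom (B.t i)
  haveI : IsAffine (pullback g' (B.t i)) := hi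
  exact ⟨i, (inferInstance : IsAffineHom (pullback.snd g' (B.t i)))⟩

section Affine

variable [IsAffine S] [IsAffine W]

theorem Sys.isAffine_obj (i : I) : IsAffine (A.D.obj i) :=
  haveI := A.affine i
  isAffine_of_isAffineHom (A.t i)

theorem closure_appTop_eq_top (s : Set Γ(W, ⊤))
    (hs : Subring.closure (Set.range g.appTop.hom ∪ s) = ⊤) (i : I) :
    Subring.closure (Set.range (pullback.snd g (A.t i)).appTop.hom ∪
      (pullback.fst g (A.t i)).appTop.hom '' s) = ⊤ := by
  haveI := A.isAffine_obj i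
  have h := isPushout_appTop_of_isPullback (IsPullback.of_hasPullback g (A.t i))
  rw [eq_top_iff, ← closure_range_union_range_of_isPushout h, Subring.closure_le]
  rintro x (⟨w, rfl⟩ | ⟨a, rfl⟩)
  · have hw : w ∈ Subring.closure (Set.range g.appTop.hom ∪ s) := hs ▸ Subring.mem_top w
    have h2 : (pullback.fst g (A.t i)).appTop.hom w ∈
        (Subring.closure (Set.range g.appTop.hom ∪ s)).map (pullback.fst g (A.t i)).appTop.hom :=
      ⟨w, hw, rfl⟩
    rw [RingHom.map_closure] at h2
    refine Subring.closure_le.mpr ?_ h2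
    rintro y ⟨x, (⟨r, rfl⟩ | hx), rfl⟩
    · refine Subring.subset_closure (Or.inl ⟨(A.t i).appTop.hom r, ?_⟩)
      exact (congr($(h.w).hom r)).symm
    · exact Subring.subset_closure (Or.inr ⟨x, hx, rfl⟩)
  · exact Subring.subset_closure (Or.inl ⟨a, rfl⟩)

theorem exists_generators [LocallyOfFiniteType g] :
    ∃ s : Finset Γ(W, ⊤), Subring.closure (Set.range g.appTop.hom ∪ ↑s) = ⊤ := by
  have h : g.appTop.hom.FiniteType :=
    (HasRingHomProperty.iff_of_isAffine (P := @LocallyOfFiniteType)).mp ‹_›
  algebraize [g.appTop.hom]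
  obtain ⟨s, hs⟩ := Algebra.FiniteType.out (R := Γ(S, ⊤)) (A := Γ(W, ⊤))
  exact ⟨s, by
    have := congrArg Subalgebra.toSubring hs
    rw [Algebra.adjoin_eq_ring_closure] at this
    exact this⟩

omit [IsAffine S] [IsAffine W] [IsCofiltered I] in
theorem appTop_comp {X Y Z : Scheme.{u}} (a : X ⟶ Y) (b : Y ⟶ Z) (z : Γ(Z, ⊤)) :
    (a ≫ b).appTop.hom z = a.appTop.hom (b.appTop.hom z) := by
  rw [Scheme.Hom.comp_appTop]; rfl

omit [IsAffine S] [IsAffine W] [IsCofiltered I] in
theorem fst_appTop_map {i j : I} (a : j ⟶ i) (w : Γ(W, ⊤)) :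
    (pbMap A g a).appTop.hom ((pullback.fst g (A.t i)).appTop.hom w) =
      (pullback.fst g (A.t j)).appTop.hom w := by
  rw [← appTop_comp, pbMap_fst]

omit [IsAffine S] [IsAffine W] [IsCofiltered I] in
theorem snd_appTop_map {i j : I} (a : j ⟶ i) (x : Γ(A.D.obj i, ⊤)) :
    (pbMap A g a).appTop.hom ((pullback.snd g (A.t i)).appTop.hom x) =
      (pullback.snd g (A.t j)).appTop.hom ((A.D.map a).appTop.hom x) := by
  rw [← appTop_comp, ← appTop_comp, pbMap_snd]

theorem exists_appTop_π_eq (x : Γ(A.c.pt, ⊤)) :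
    ∃ (i : I) (y : Γ(A.D.obj i, ⊤)), (A.c.π.app i).appTop.hom y = x := by
  haveI := A.isAffine_obj
  exact exists_appTop_π_eq_of_isAffine_of_isLimit A.D A.c A.hc x

theorem exists_stage_map_eq_zero {i : I} (δ : Γ(pullback g (A.t i), ⊤))
    (hδ : (pbπ A g i).appTop.hom δ = 0) :
    ∃ (j : I) (a : j ⟶ i), (pbMap A g a).appTop.hom δ = 0 := by
  haveI := (pb A g).isAffine_obj
  exact exists_appTop_map_eq_zero_of_isAffine_of_isLimit (pb A g).D (pb A g).c (pb A g).hc i δ hδ

theorem exists_at_isClosedImmersion_affine [LocallyOfFiniteType g] (h : AtLim A g @IsClosedImmersion) :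
    ∃ i, At A g @IsClosedImmersion i := by
  haveI : IsAffineHom A.s := A.affine_s
  haveI : IsAffine A.c.pt := isAffine_of_isAffineHom A.s
  haveI : IsClosedImmersion (pullback.snd g A.s) := h
  have hsurj := (IsClosedImmersion.isAffine_surjective_of_isAffine (pullback.snd g A.s)).2
  obtain ⟨s, hs⟩ := exists_generators g
  obtain ⟨i, hi⟩ := exists_stage (ι := {b // b ∈ s})
    (fun b i => (pullback.fst g (A.t i)).appTop.hom b.1 ∈ (pullback.snd g (A.t i)).appTop.hom.range)
    (fun b i j a ⟨x, hx⟩ => ⟨(A.D.map a).appTop.hom x, by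
      rw [← snd_appTop_map A g a, hx, fst_appTop_map]⟩)
    (fun b => by
      obtain ⟨x, hx⟩ := hsurj ((pullback.fst g A.s).appTop.hom b.1)
      obtain ⟨i, y, rfl⟩ := exists_appTop_π_eq A x
      obtain ⟨j, a, hj⟩ := exists_stage_map_eq_zero A g
        ((pullback.fst g (A.t i)).appTop.hom b.1 - (pullback.snd g (A.t i)).appTop.hom y) (by
          rw [map_sub, ← appTop_comp, ← appTop_comp, pbπ_fst, pbπ_snd, appTop_comp, sub_eq_zero]
          exact hx.symm)
      refine ⟨j, (A.D.map a).appTop.hom y, ?_⟩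
      rw [map_sub, fst_appTop_map, snd_appTop_map, sub_eq_zero] at hj
      exact hj.symm)
  refine ⟨i, ?_⟩
  haveI := A.isAffine_obj i
  refine IsClosedImmersion.of_surjective_of_isAffine _ ?_
  rw [← RingHom.range_eq_top, eq_top_iff, ← closure_appTop_eq_top A g _ hs i, Subring.closure_le]
  rintro x (hx | ⟨b, hb, rfl⟩)
  · exact hx
  · exact hi ⟨b, hb⟩

theorem exists_at_isFinite_affine [LocallyOfFiniteType g] (h : AtLim A g @IsFinite) :
    ∃ i, At A g @IsFinite i := by
  haveI : IsAffineHom A.s := A.affine_s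
  haveI : IsAffine A.c.pt := isAffine_of_isAffineHom A.s
  have hfin : (pullback.snd g A.s).appTop.hom.Finite :=
    ((HasAffineProperty.iff_of_isAffine (P := @IsFinite)).mp h).2
  obtain ⟨s, hs⟩ := exists_generators g
  obtain ⟨i, hi⟩ := exists_stage (ι := {b // b ∈ s})
    (fun b i => (pullback.snd g (A.t i)).appTop.hom.IsIntegralElem
      ((pullback.fst g (A.t i)).appTop.hom b.1))
    (fun b i j a ⟨P, hP, hP'⟩ => ⟨P.map (A.D.map a).appTop.hom, hP.map _, by
      have h1 : (pullback.snd g (A.t j)).appTop.hom.comp (A.D.map a).appTop.hom =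
          (pbMap A g a).appTop.hom.comp (pullback.snd g (A.t i)).appTop.hom :=
        RingHom.ext fun x => (snd_appTop_map A g a x).symm
      rw [Polynomial.eval₂_map, h1, ← fst_appTop_map A g a, ← Polynomial.hom_eval₂, hP', map_zero]⟩)
    (fun b => by
      obtain ⟨P, hP, hP'⟩ := hfin.to_isIntegral ((pullback.fst g A.s).appTop.hom b.1)
      obtain ⟨i, hi⟩ := exists_stage (ι := ULift.{u} (Fin (P.natDegree + 1)))
        (fun k i => P.coeff k.down ∈ (A.c.π.app i).appTop.hom.range)
        (fun k i j a ⟨y, hy⟩ => ⟨(A.D.map a).appTop.hom y, by rw [← appTop_comp, A.c.w, hy]⟩)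
        (fun k => by
          obtain ⟨i, y, hy⟩ := exists_appTop_π_eq A (P.coeff k.down)
          exact ⟨i, y, hy⟩)
      choose y hy using hi
      let n := P.natDegree
      let Q : Polynomial Γ(A.D.obj i, ⊤) := Polynomial.X ^ n +
        ∑ k : Fin n, Polynomial.C (y ⟨k.castSucc⟩) * Polynomial.X ^ (k : ℕ)
      have hQm : Q.Monic := Polynomial.monic_X_pow_add (Polynomial.degree_sum_fin_lt _)
      have hQ : Q.map (A.c.π.app i).appTop.hom = P := by
        conv_rhs => rw [hP.as_sum, Finset.sum_range]
        simp [Q, n, Polynomial.map_add, Polynomial.map_pow, Polynomial.map_sum, hy]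
      have h1 : (pbπ A g i).appTop.hom.comp (pullback.snd g (A.t i)).appTop.hom =
          (pullback.snd g A.s).appTop.hom.comp (A.c.π.app i).appTop.hom :=
        RingHom.ext fun x => by
          show (pbπ A g i).appTop.hom ((pullback.snd g (A.t i)).appTop.hom x) = _
          rw [← appTop_comp, pbπ_snd, appTop_comp]; rfl
      obtain ⟨j, a, hj⟩ := exists_stage_map_eq_zero A g
        (Q.eval₂ (pullback.snd g (A.t i)).appTop.hom ((pullback.fst g (A.t i)).appTop.hom b.1)) (by
          rw [Polynomial.hom_eval₂, h1, ← appTop_comp, pbπ_fst, ← Polynomial.eval₂_map, hQ]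
          exact hP')
      refine ⟨j, Q.map (A.D.map a).appTop.hom, hQm.map _, ?_⟩
      have h2 : (pullback.snd g (A.t j)).appTop.hom.comp (A.D.map a).appTop.hom =
          (pbMap A g a).appTop.hom.comp (pullback.snd g (A.t i)).appTop.hom :=
        RingHom.ext fun x => (snd_appTop_map A g a x).symm
      rw [Polynomial.eval₂_map, h2, ← fst_appTop_map A g a, ← Polynomial.hom_eval₂]
      exact hj)
  refine ⟨i, ?_⟩
  haveI := A.isAffine_obj i
  show IsFinite (pullback.snd g (A.t i))
  rw [HasAffineProperty.iff_of_isAffine (P := @IsFinite)]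
  refine ⟨inferInstance, RingHom.finite_iff_isIntegral_and_finiteType.mpr ⟨?_, ?_⟩⟩
  · intro x
    letI := (pullback.snd g (A.t i)).appTop.hom.toAlgebra
    have hx : x ∈ Subring.closure (Set.range (pullback.snd g (A.t i)).appTop.hom ∪
        (pullback.fst g (A.t i)).appTop.hom '' ↑s) := closure_appTop_eq_top A g _ hs i ▸ Subring.mem_top x
    show x ∈ (integralClosure Γ(A.D.obj i, ⊤) Γ(pullback g (A.t i), ⊤)).toSubring
    refine Subring.closure_le.mpr ?_ hx
    rintro y (⟨r, rfl⟩ | ⟨b, hb, rfl⟩)
    · exact (integralClosure Γ(A.D.obj i, ⊤) Γ(pullback g (A.t i), ⊤)).algebraMap_mem r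
    · exact hi ⟨b, hb⟩
  · haveI : LocallyOfFiniteType (pullback.snd g (A.t i)) := inferInstance
    exact (HasRingHomProperty.iff_of_isAffine (P := @LocallyOfFiniteType)).mp this

theorem exists_at_isIso_affine [LocallyOfFinitePresentation g] [IsClosedImmersion g]
    (h : AtLim A g (MorphismProperty.isomorphisms Scheme)) :
    ∃ i, At A g (MorphismProperty.isomorphisms Scheme) i := by
  haveI : IsIso (pullback.snd g A.s) := h
  haveI : IsIso (pullback.snd g A.s).appTop := inferInstanceAs (IsIso (Scheme.Γ.map (pullback.snd g A.s).op))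
  have hbij : Function.Injective (pullback.snd g A.s).appTop.hom :=
    (ConcreteCategory.bijective_of_isIso (pullback.snd g A.s).appTop).1
  have hsurj := (IsClosedImmersion.isAffine_surjective_of_isAffine g).2
  have hfp : g.appTop.hom.FinitePresentation :=
    (HasRingHomProperty.iff_of_isAffine (P := @LocallyOfFinitePresentation)).mp ‹_›
  have hker : (RingHom.ker g.appTop.hom).FG := by
    algebraize [g.appTop.hom]
    exact Algebra.FinitePresentation.ker_fG_of_surjective (Algebra.ofId Γ(S, ⊤) Γ(W, ⊤)) hsurj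
  obtain ⟨s, hs⟩ := hker
  obtain ⟨i, hi⟩ := exists_stage (ι := {b // b ∈ s})
    (fun b i => (A.t i).appTop.hom b.1 = 0)
    (fun b i j a hb => by rw [← A.w a, appTop_comp, hb, map_zero])
    (fun b => by
      haveI := A.isAffine_obj
      obtain ⟨i⟩ := IsCofiltered.nonempty (C := I)
      obtain ⟨j, a, hj⟩ := exists_appTop_map_eq_zero_of_isAffine_of_isLimit A.D A.c A.hc i
        ((A.t i).appTop.hom b.1) (by
          show (A.c.π.app i).appTop.hom _ = 0
          rw [← appTop_comp, A.hs i]
          apply hbij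
          rw [map_zero, ← appTop_comp, ← pullback.condition, appTop_comp]
          have : g.appTop.hom b.1 = 0 := by
            rw [← RingHom.mem_ker, ← hs]; exact Ideal.subset_span b.2
          rw [this, map_zero])
      refine ⟨j, ?_⟩
      rw [← A.w a, appTop_comp]
      exact hj)
  refine ⟨i, ?_⟩
  haveI := A.isAffine_obj i
  have hpo := isPushout_appTop_of_isPullback (IsPullback.of_hasPullback g (A.t i))
  have hle : RingHom.ker g.appTop.hom ≤ RingHom.ker (A.t i).appTop.hom := by
    rw [← hs]; exact Ideal.span_le.mpr fun b hb => hi ⟨b, hb⟩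
  let r : Γ(W, ⊤) →+* Γ(A.D.obj i, ⊤) :=
    RingHom.liftOfRightInverse g.appTop.hom (Function.surjInv hsurj) (Function.rightInverse_surjInv hsurj)
      ⟨(A.t i).appTop.hom, hle⟩
  let k := hpo.desc (CommRingCat.ofHom r) (𝟙 _) (by
    ext x
    exact RingHom.liftOfRightInverse_comp_apply g.appTop.hom (Function.surjInv hsurj)
      (Function.rightInverse_surjInv hsurj) ⟨(A.t i).appTop.hom, hle⟩ x)
  haveI : IsClosedImmersion (pullback.snd g (A.t i)) := inferInstance
  show IsIso (pullback.snd g (A.t i))
  refine IsClosedImmersion.isIso_of_injective_of_isAffine fun x y hxy => ?_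
  have h2 : ∀ z, k.hom ((pullback.snd g (A.t i)).appTop.hom z) = z := fun z =>
    congr($(hpo.inr_desc (CommRingCat.ofHom r) (𝟙 _) _).hom z)
  rw [← h2 x, ← h2 y]
  exact congrArg k.hom hxy

end Affine

theorem exists_at_of_affine (P : MorphismProperty Scheme.{u}) [P.IsStableUnderBaseChange]
    [IsZariskiLocalAtTarget P] (hP : P ≤ @IsAffineHom) [CompactSpace S] [QuasiCompact g] [QuasiSeparated g]
    (h : AtLim A g P)
    (H : ∀ {J : Type u} [SmallCategory J] [IsCofiltered J] {U V : Scheme.{u}} (B : Sys J U) (k : V ⟶ U)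
      [IsAffine U] [IsAffine V],
      (∀ (Q : MorphismProperty Scheme.{u}) [Q.IsStableUnderBaseChange], Q g → Q k) →
      AtLim B k P → ∃ i, At B k P i) :
    ∃ i, At A g P i := by
  obtain ⟨i, hi⟩ := exists_at_isAffineHom A g (hP _ h)
  haveI := A.compactSpace_obj i
  haveI : IsAffineHom (pullback.snd g (A.t i)) := hi
  obtain ⟨φ, hφ⟩ := exists_at_of_local (restart A i) (pullback.snd g (A.t i)) P (atLim_restart A g P i h)
    fun {U} ι _ _ hU => by
      haveI : IsAffine (pullback (pullback.snd g (A.t i)) ι) :=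
        isAffine_of_isAffineHom (pullback.snd (pullback.snd g (A.t i)) ι)
      exact H (pb (restart A i) ι) _
        (fun Q _ hQ => MorphismProperty.pullback_snd _ _ (MorphismProperty.pullback_snd _ _ hQ)) hU
  exact ⟨φ.left, at_restart A g hφ⟩

theorem exists_at_isClosedImmersion [CompactSpace S] [QuasiCompact g] [QuasiSeparated g]
    [LocallyOfFiniteType g] (h : AtLim A g @IsClosedImmersion) : ∃ i, At A g @IsClosedImmersion i :=
  exists_at_of_affine A g _ (fun _ _ f (_ : IsClosedImmersion f) => inferInstance) h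
    fun B k _ _ hQ hk => by
      haveI : LocallyOfFiniteType k := hQ _ ‹_›
      exact exists_at_isClosedImmersion_affine B k hk

theorem exists_at_isFinite [CompactSpace S] [QuasiCompact g] [QuasiSeparated g]
    [LocallyOfFiniteType g] (h : AtLim A g @IsFinite) : ∃ i, At A g @IsFinite i :=
  exists_at_of_affine A g _ (fun _ _ f (_ : IsFinite f) => inferInstance) h fun B k _ _ hQ hk => by
    haveI : LocallyOfFiniteType k := hQ _ ‹_›
    exact exists_at_isFinite_affine B k hk

theorem exists_at_isIso_of_isClosedImmersion [CompactSpace S] [IsClosedImmersion g]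
    [LocallyOfFinitePresentation g] (h : AtLim A g (MorphismProperty.isomorphisms Scheme)) :
    ∃ i, At A g (MorphismProperty.isomorphisms Scheme) i :=
  exists_at_of_affine A g _ (fun _ _ f (_ : IsIso f) => inferInstance) h fun B k _ _ hQ hk => by
    haveI : LocallyOfFinitePresentation k := hQ _ ‹_›
    haveI : IsClosedImmersion k := hQ _ ‹_›
    exact exists_at_isIso_affine B k hk

theorem exists_at_isIso [CompactSpace S] [QuasiCompact g] [QuasiSeparated g]
    [LocallyOfFinitePresentation g] (h : AtLim A g (MorphismProperty.isomorphisms Scheme)) :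
    ∃ i, At A g (MorphismProperty.isomorphisms Scheme) i := by
  obtain ⟨i, hi⟩ := exists_at_isClosedImmersion A g (by
    haveI : IsIso (pullback.snd g A.s) := h
    exact (inferInstance : IsClosedImmersion (pullback.snd g A.s)))
  haveI : IsClosedImmersion (pullback.snd g (A.t i)) := hi
  haveI := A.compactSpace_obj i
  obtain ⟨φ, hφ⟩ := exists_at_isIso_of_isClosedImmersion (restart A i) (pullback.snd g (A.t i))
    (atLim_restart A g _ i h)
  exact ⟨φ.left, at_restart A g hφ⟩

end RichLib.LimBC
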