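import Mathlib

/-!
# The unramified locus of a morphism: invariance under base change, constructibility
-/

set_option autoImplicit false
universe u

open TensorProduct Topology CategoryTheory CategoryTheory.Limits AlgebraicGeometry

namespace RichLib.UnrLocus

/-- support of a finite module commutes with base change -/
theorem mem_support_baseChange_iff {R T M : Type u} [CommRing R] [CommRing T] [Algebra R T]
    [AddCommGroup M] [Module R M] [Module.Finite R M] (q : PrimeSpectrum T) :
    q ∈ Module.support T (T ⊗[R] M) ↔ PrimeSpectrum.comap (algebraMap R T) q ∈ Module.support R M := by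
  rw [Module.mem_support_iff_nontrivial_residueField_tensorProduct,
    Module.mem_support_iff_nontrivial_residueField_tensorProduct]
  let p := q.asIdeal.under R
  haveI : q.asIdeal.LiesOver p := ⟨rfl⟩
  show _ ↔ Nontrivial (p.ResidueField ⊗[R] M)
  letI := Localization.AtPrime.algebraOfLiesOver p q.asIdeal
  haveI : Localization.AtPrime.IsLiesOverAlgebra p q.asIdeal := ⟨rfl⟩
  let e₁ := (AlgebraTensorModule.cancelBaseChange R T q.asIdeal.ResidueField q.asIdeal.ResidueField M).toEquiv
  let e₂ := (AlgebraTensorModule.cancelBaseChange R p.ResidueField q.asIdeal.ResidueField q.asIdeal.ResidueField M).toEquiv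
  rw [(e₁.trans e₂.symm).nontrivial_congr]
  exact Module.FaithfullyFlat.nontrivial_tensorProduct_iff_right p.ResidueField q.asIdeal.ResidueField

theorem mem_unramifiedLocus_comap_iff {A B B' : Type u} [CommRing A] [CommRing B] [CommRing B']
    [Algebra A B] [Algebra A B'] (e : B' ≃ₐ[A] B) (q : PrimeSpectrum B) :
    PrimeSpectrum.comap e.toRingEquiv.toRingHom q ∈ Algebra.unramifiedLocus A B' ↔
      q ∈ Algebra.unramifiedLocus A B :=
  Algebra.FormallyUnramified.iff_of_equiv
    (Localization.localAlgEquiv (PrimeSpectrum.comap e.toRingEquiv.toRingHom q).asIdeal q.asIdeal e rfl)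

section
attribute [local instance] Algebra.TensorProduct.rightAlgebra

theorem mem_unramifiedLocus_tensor_iff {A₀ A B₀ : Type u} [CommRing A₀] [CommRing A] [CommRing B₀]
    [Algebra A₀ A] [Algebra A₀ B₀] [Algebra.EssFiniteType A₀ B₀] (q : PrimeSpectrum (A ⊗[A₀] B₀)) :
    q ∈ Algebra.unramifiedLocus A (A ⊗[A₀] B₀) ↔
      PrimeSpectrum.comap (Algebra.TensorProduct.includeRight.toRingHom : B₀ →+* A ⊗[A₀] B₀) q ∈
        Algebra.unramifiedLocus A₀ B₀ := by
  rw [Algebra.unramifiedLocus_eq_compl_support, Algebra.unramifiedLocus_eq_compl_support,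
    Set.mem_compl_iff, Set.mem_compl_iff]
  refine not_congr ?_
  rw [← (KaehlerDifferential.tensorKaehlerEquiv A₀ A B₀ (A ⊗[A₀] B₀)).support_eq]
  exact mem_support_baseChange_iff q

end

theorem unramifiedLocus_eq_preimage {A₀ A B₀ B : Type u} [CommRing A₀] [CommRing A] [CommRing B₀]
    [CommRing B] [Algebra A₀ A] [Algebra A₀ B₀] [Algebra A B] [Algebra.EssFiniteType A₀ B₀]
    (e : A ⊗[A₀] B₀ ≃ₐ[A] B) :
    Algebra.unramifiedLocus A B =
      PrimeSpectrum.comap (e.toRingEquiv.toRingHom.comp Algebra.TensorProduct.includeRight.toRingHom) ⁻¹'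
        Algebra.unramifiedLocus A₀ B₀ := by
  ext q
  refine (mem_unramifiedLocus_comap_iff e q).symm.trans ?_
  exact mem_unramifiedLocus_tensor_iff _

theorem isConstructible_unramifiedLocus (A B : Type u) [CommRing A] [CommRing B] [Algebra A B]
    [Algebra.FinitePresentation A B] : IsConstructible (Algebra.unramifiedLocus A B) := by
  let P := Algebra.Presentation.ofFinitePresentation A B
  let A₀ := P.Core
  let B₀ := P.ModelOfHasCoeffs A₀
  haveI : Algebra.FiniteType A₀ B₀ := inferInstance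
  haveI : IsNoetherianRing A₀ := Algebra.FiniteType.isNoetherianRing ℤ A₀
  haveI : IsNoetherianRing B₀ := Algebra.FiniteType.isNoetherianRing A₀ B₀
  let e : A ⊗[A₀] B₀ ≃ₐ[A] B := P.tensorModelOfHasCoeffsEquiv A₀
  let ι : B₀ →+* B := e.toRingEquiv.toRingHom.comp Algebra.TensorProduct.includeRight.toRingHom
  have heq : Algebra.unramifiedLocus A B = PrimeSpectrum.comap ι ⁻¹' Algebra.unramifiedLocus A₀ B₀ :=
    unramifiedLocus_eq_preimage e
  rw [heq]
  refine Scheme.Hom.isConstructible_preimage (Spec.map (CommRingCat.ofHom ι)) ?_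
  have hr : IsRetrocompact (Algebra.unramifiedLocus A₀ B₀) :=
    fun _ _ _ => TopologicalSpace.NoetherianSpace.isCompact _
  exact hr.isConstructible Algebra.isOpen_unramifiedLocus

/-- the unramified locus of a morphism -/
def locus {X Y : Scheme.{u}} (f : X ⟶ Y) : Set X :=
  {x | ∃ V : X.Opens, x ∈ V ∧ FormallyUnramified (V.ι ≫ f)}

theorem locus_eq_univ_iff {X Y : Scheme.{u}} (f : X ⟶ Y) :
    locus f = Set.univ ↔ FormallyUnramified f := by
  constructor
  · intro h
    choose V hxV hV using fun x => (Set.eq_univ_iff_forall.mp h x : x ∈ locus f)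
    let U : TopologicalSpace.IsOpenCover V := TopologicalSpace.IsOpenCover.mk (eq_top_iff.mpr fun x _ =>
      TopologicalSpace.Opens.mem_iSup.mpr ⟨x, hxV x⟩)
    exact (IsZariskiLocalAtSource.iff_of_openCover (P := @FormallyUnramified)
      (X.openCoverOfIsOpenCover V U)).mpr hV
  · intro h
    exact Set.eq_univ_iff_forall.mpr fun x => ⟨⊤, trivial, MorphismProperty.comp_mem _ _ _ inferInstance h⟩

theorem isOpen_locus {X Y : Scheme.{u}} (f : X ⟶ Y) : IsOpen (locus f) :=
  isOpen_iff_forall_mem_open.mpr fun _ ⟨V, hxV, hV⟩ => ⟨V, fun y hy => ⟨V, hy, hV⟩, V.2, hxV⟩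

theorem mem_locus_comp_right_iff {X Y Z : Scheme.{u}} (f : X ⟶ Y) (j : Y ⟶ Z) [IsOpenImmersion j] (x : X) :
    x ∈ locus (f ≫ j) ↔ x ∈ locus f := by
  constructor
  · rintro ⟨V, hxV, hV⟩
    refine ⟨V, hxV, ?_⟩
    haveI : FormallyUnramified ((V.ι ≫ f) ≫ j) := by rwa [Category.assoc]
    exact FormallyUnramified.of_comp _ j
  · rintro ⟨V, hxV, hV⟩
    refine ⟨V, hxV, ?_⟩
    rw [← Category.assoc]
    exact MorphismProperty.comp_mem _ _ _ hV inferInstance

theorem mem_locus_comp_left_iff {W X Y : Scheme.{u}} (i : W ⟶ X) [IsOpenImmersion i] (f : X ⟶ Y) (w : W) :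
    w ∈ locus (i ≫ f) ↔ i.base w ∈ locus f := by
  constructor
  · rintro ⟨V, hwV, hV⟩
    refine ⟨i ''ᵁ V, ⟨w, hwV, rfl⟩, ?_⟩
    haveI : FormallyUnramified ((i.isoImage V).hom ≫ (i ''ᵁ V).ι ≫ f) := by
      rw [← Category.assoc, i.isoImage_hom_ι, Category.assoc]; exact hV
    exact (MorphismProperty.cancel_left_of_respectsIso (P := @FormallyUnramified) (i.isoImage V).hom _).mp this
  · rintro ⟨V, hwV, hV⟩
    refine ⟨i ⁻¹ᵁ V, hwV, ?_⟩
    rw [← Category.assoc, ← morphismRestrict_ι, Category.assoc]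
    exact MorphismProperty.comp_mem _ _ _ inferInstance hV

theorem mem_locus_spec_iff {A B : Type u} [CommRing A] [CommRing B] [Algebra A B]
    [Algebra.EssFiniteType A B] (q : PrimeSpectrum B) :
    q ∈ locus (Spec.map (CommRingCat.ofHom (algebraMap A B))) ↔ q ∈ Algebra.unramifiedLocus A B := by
  let σ : ∀ b : B, Spec (.of (Localization.Away b)) ⟶ Spec (.of B) := fun b =>
    Spec.map (CommRingCat.ofHom (algebraMap B (Localization.Away b)))
  have key : ∀ b : B, FormallyUnramified (σ b ≫ Spec.map (CommRingCat.ofHom (algebraMap A B))) ↔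
        ↑(PrimeSpectrum.basicOpen b) ⊆ Algebra.unramifiedLocus A B := by
    intro b
    rw [Algebra.basicOpen_subset_unramifiedLocus_iff, ← RingHom.formallyUnramified_algebraMap,
      IsScalarTower.algebraMap_eq A B (Localization.Away b), ← Spec.map_comp,
      HasRingHomProperty.Spec_iff (P := @FormallyUnramified)]
    rfl
  haveI : ∀ b : B, IsOpenImmersion (σ b) := fun b => inferInstance
  have hrange : ∀ b : B, Set.range (σ b).base = (PrimeSpectrum.basicOpen b : Set (PrimeSpectrum B)) := fun b =>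
    PrimeSpectrum.localization_away_comap_range (Localization.Away b) b
  constructor
  · rintro ⟨V, hqV, hV⟩
    obtain ⟨_, ⟨_, ⟨b, rfl⟩, rfl⟩, hqb, hbV⟩ :=
      PrimeSpectrum.isBasis_basic_opens.exists_subset_of_mem_open hqV V.2
    refine (key b).mp ?_ hqb
    rw [← IsOpenImmersion.lift_fac V.ι (σ b) (by rw [Scheme.Opens.range_ι, hrange]; exact hbV), Category.assoc]
    haveI : IsOpenImmersion (IsOpenImmersion.lift V.ι (σ b) (by rw [Scheme.Opens.range_ι, hrange]; exact hbV)) := by
      haveI : IsOpenImmersion (IsOpenImmersion.lift V.ι (σ b) (by rw [Scheme.Opens.range_ι, hrange]; exact hbV) ≫ V.ι) := by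
        rw [IsOpenImmersion.lift_fac]; infer_instance
      exact IsOpenImmersion.of_comp _ V.ι
    exact MorphismProperty.comp_mem _ _ _ inferInstance hV
  · intro h
    obtain ⟨_, ⟨_, ⟨b, rfl⟩, rfl⟩, hqb, hb⟩ :=
      PrimeSpectrum.isBasis_basic_opens.exists_subset_of_mem_open h Algebra.isOpen_unramifiedLocus
    obtain ⟨w, rfl⟩ : q ∈ Set.range (σ b).base := by rw [hrange]; exact hqb
    exact (mem_locus_comp_left_iff (σ b) _ w).mp
      (Set.eq_univ_iff_forall.mp ((locus_eq_univ_iff _).mpr ((key b).mpr hb)) w)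

/-- if a base change is formally unramified, its image lies in the unramified locus -/
theorem mem_locus_of_isPullback {P X Y T : Scheme.{u}} {fst : P ⟶ X} {snd : P ⟶ T}
    {f : X ⟶ Y} {g : T ⟶ Y} (h : IsPullback fst snd f g) [LocallyOfFiniteType f]
    [FormallyUnramified snd] (z : P) : fst.base z ∈ locus f := by
  have hfg : f.base (fst.base z) = g.base (snd.base z) := by
    rw [← Scheme.Hom.comp_apply, h.w, Scheme.Hom.comp_apply]
  obtain ⟨_, ⟨U : Y.Opens, hU, rfl⟩, hxU, -⟩ := Y.isBasis_affineOpens.exists_subset_of_mem_open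
    (Set.mem_univ (f.base (fst.base z))) isOpen_univ
  obtain ⟨_, ⟨V : X.Opens, hV, rfl⟩, hxV, hVU⟩ := X.isBasis_affineOpens.exists_subset_of_mem_open
    hxU (f ⁻¹ᵁ U).2
  obtain ⟨_, ⟨W : T.Opens, hW, rfl⟩, hzW, hWU⟩ := T.isBasis_affineOpens.exists_subset_of_mem_open
    (show snd.base z ∈ g ⁻¹ᵁ U by show g.base (snd.base z) ∈ U; rw [← hfg]; exact hxU) (g ⁻¹ᵁ U).2
  letI := (f.appLE U V hVU).hom.toAlgebra
  letI := (g.appLE U W hWU).hom.toAlgebra
  haveI : Algebra.FiniteType Γ(Y, U) Γ(X, V) :=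
    HasRingHomProperty.appLE (P := @LocallyOfFiniteType) f ‹_› ⟨U, hU⟩ ⟨V, hV⟩ hVU
  have hφ := hU.SpecMap_appLE_fromSpec f hV hVU
  have hψ := hU.SpecMap_appLE_fromSpec g hW hWU
  obtain ⟨v, hv⟩ : fst.base z ∈ Set.range hV.fromSpec.base := by rw [hV.range_fromSpec]; exact hxV
  obtain ⟨w, hw⟩ : snd.base z ∈ Set.range hW.fromSpec.base := by rw [hW.range_fromSpec]; exact hzW
  let α := Spec.map (CommRingCat.ofHom (algebraMap Γ(Y, U) Γ(X, V)))
  let β := Spec.map (CommRingCat.ofHom (algebraMap Γ(Y, U) Γ(T, W)))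
  have hαβ : β.base w = α.base v := hU.fromSpec.isOpenEmbedding.injective (by
    show (β ≫ hU.fromSpec).base w = (α ≫ hU.fromSpec).base v
    erw [hψ, hφ]
    simp only [Scheme.Hom.comp_apply]
    erw [hw, hv]
    exact hfg.symm)
  let e := pullbackSpecIso Γ(Y, U) Γ(T, W) Γ(X, V)
  obtain ⟨q, hq1, hq2⟩ := Scheme.Pullback.exists_preimage_pullback (f := β) (g := α) w v hαβ
  haveI hu : FormallyUnramified (pullback.fst β α) := by
    have h0 : IsPullback (pullback.fst β α) (pullback.snd β α) (β ≫ hU.fromSpec) (α ≫ hU.fromSpec) :=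
      IsPullback.of_isLimit (pullbackIsPullbackOfCompMono β α hU.fromSpec)
    erw [hφ, hψ] at h0
    let k : pullback β α ⟶ pullback (hW.fromSpec ≫ g) f :=
      pullback.lift (pullback.fst β α) (pullback.snd β α ≫ hV.fromSpec) (by rw [Category.assoc]; exact h0.w)
    have hk1 : k ≫ pullback.fst (hW.fromSpec ≫ g) f = pullback.fst β α := pullback.lift_fst _ _ _
    have hk2 : k ≫ pullback.snd (hW.fromSpec ≫ g) f = pullback.snd β α ≫ hV.fromSpec := pullback.lift_snd _ _ _
    have hl : IsPullback k (pullback.snd β α) (pullback.snd (hW.fromSpec ≫ g) f) hV.fromSpec :=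
      IsPullback.of_right (by rw [hk1]; exact h0) hk2 (IsPullback.of_hasPullback _ _)
    haveI : IsOpenImmersion k := MorphismProperty.of_isPullback hl.flip inferInstance
    haveI : FormallyUnramified (pullback.fst (hW.fromSpec ≫ g) f) := by
      let m : pullback (hW.fromSpec ≫ g) f ⟶ P := h.lift (pullback.snd _ _)
        (pullback.fst _ _ ≫ hW.fromSpec) (by rw [Category.assoc]; exact pullback.condition.symm)
      exact MorphismProperty.of_isPullback (IsPullback.of_right (h₁₁ := m) (h₁₂ := fst)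
        (v₁₁ := pullback.fst _ _) (v₁₂ := snd) (h₂₁ := hW.fromSpec)
        (by rw [h.lift_fst]; exact (IsPullback.of_hasPullback _ _).flip) (h.lift_snd _ _ _) h) inferInstance
    rw [← hk1]
    exact MorphismProperty.comp_mem _ _ _ inferInstance this
  haveI : FormallyUnramified (Spec.map (CommRingCat.ofHom
      (algebraMap Γ(T, W) (Γ(T, W) ⊗[Γ(Y, U)] Γ(X, V))))) := by
    rw [← MorphismProperty.cancel_left_of_respectsIso (P := @FormallyUnramified) e.hom]
    have : e.hom ≫ Spec.map (CommRingCat.ofHom (algebraMap Γ(T, W) (Γ(T, W) ⊗[Γ(Y, U)] Γ(X, V)))) =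
        pullback.fst β α := pullbackSpecIso_hom_fst _ _ _
    rw [this]; exact hu
  have h2 := (mem_locus_spec_iff (e.hom.base q)).mp (Set.eq_univ_iff_forall.mp ((locus_eq_univ_iff _).mpr this) _)
  rw [mem_unramifiedLocus_tensor_iff, ← mem_locus_spec_iff] at h2
  have h3 : PrimeSpectrum.comap (Algebra.TensorProduct.includeRight.toRingHom :
      Γ(X, V) →+* Γ(T, W) ⊗[Γ(Y, U)] Γ(X, V)) (e.hom.base q) = v := by
    rw [← hq2]
    show (e.hom ≫ Spec.map (CommRingCat.ofHom Algebra.TensorProduct.includeRight.toRingHom)).base q = _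
    erw [pullbackSpecIso_hom_snd]
  replace h2 : v ∈ locus α := h3 ▸ h2
  rw [← hv, ← mem_locus_comp_left_iff]
  erw [← hφ, mem_locus_comp_right_iff]
  exact h2

/-- the unramified locus of a morphism locally of finite presentation is locally constructible -/
theorem isLocallyConstructible_locus {X Y : Scheme.{u}} (f : X ⟶ Y) [LocallyOfFinitePresentation f] :
    IsLocallyConstructible (locus f) := by
  intro x
  obtain ⟨_, ⟨U : Y.Opens, hU, rfl⟩, hxU, -⟩ := Y.isBasis_affineOpens.exists_subset_of_mem_open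
    (Set.mem_univ (f x)) isOpen_univ
  obtain ⟨_, ⟨V : X.Opens, hV, rfl⟩, hxV, hVU⟩ := X.isBasis_affineOpens.exists_subset_of_mem_open
    hxU (f ⁻¹ᵁ U).2
  refine ⟨V, V.2.mem_nhds hxV, V.2, ?_⟩
  letI := (f.appLE U V hVU).hom.toAlgebra
  haveI : Algebra.FinitePresentation Γ(Y, U) Γ(X, V) :=
    HasRingHomProperty.appLE (P := @LocallyOfFinitePresentation) f ‹_› ⟨U, hU⟩ ⟨V, hV⟩ hVU
  have hφ := hU.SpecMap_appLE_fromSpec f hV hVU
  have h2 := (isConstructible_unramifiedLocus Γ(Y, U) Γ(X, V)).preimage_of_isOpenEmbedding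
    hV.isoSpec.hom.isOpenEmbedding
  have h3 : (Subtype.val : V → X) ⁻¹' locus f =
      hV.isoSpec.hom.base ⁻¹' Algebra.unramifiedLocus Γ(Y, U) Γ(X, V) := by
    ext w
    have hw : V.ι.base w = hV.fromSpec.base (hV.isoSpec.hom.base w) := by
      rw [← Scheme.Hom.comp_apply, hV.isoSpec_hom_fromSpec]
    show V.ι.base w ∈ locus f ↔ _
    rw [hw, ← mem_locus_comp_left_iff]
    erw [← hφ, mem_locus_comp_right_iff]
    exact mem_locus_spec_iff _
  show IsConstructible ((Subtype.val : V → X) ⁻¹' locus f)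
  rw [h3]
  exact h2

end RichLib.UnrLocus
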