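import Mathlib
import Groth.Agent.RichLib.LimitDescent
import Groth.Agent.RichLib.UnramifiedLocus
import Groth.Agent.RichLib.QFLocusConstructible

/-!
# Descent along limits: separated, immersion, open immersion, formally unramified, quasi-finite
-/

set_option autoImplicit false
universe u

open CategoryTheory CategoryTheory.Limits AlgebraicGeometry Topology

namespace RichLib.LimBC

attribute [local simp] pullback.lift_fst pullback.lift_snd pullback.lift_fst_assoc pullback.lift_snd_assoc

variable {I : Type u} [SmallCategory I] [IsCofiltered I] {S : Scheme.{u}} (A : Sys I S)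
  {W : Scheme.{u}} (g : W ⟶ S)

/-- the diagonal of a base change is a base change of the diagonal -/
theorem isPullback_diagonal {X Y X' Y' : Scheme.{u}} {f : X ⟶ Y} {f' : X' ⟶ Y'} {a : X' ⟶ X}
    {b : Y' ⟶ Y} (h : IsPullback a f' f b) :
    IsPullback a (pullback.diagonal f') (pullback.diagonal f)
      (pullback.map f' f' f f a a b h.w.symm h.w.symm) := by
  have hm1 : pullback.map f' f' f f a a b h.w.symm h.w.symm ≫ pullback.fst f f =
      pullback.fst f' f' ≫ a := pullback.lift_fst _ _ _
  have hm2 : pullback.map f' f' f f a a b h.w.symm h.w.symm ≫ pullback.snd f f =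
      pullback.snd f' f' ≫ a := pullback.lift_snd _ _ _
  have hw : a ≫ pullback.diagonal f =
      pullback.diagonal f' ≫ pullback.map f' f' f f a a b h.w.symm h.w.symm := by
    apply pullback.hom_ext
    · rw [Category.assoc, Category.assoc, hm1, pullback.diagonal_fst, ← Category.assoc,
        pullback.diagonal_fst, Category.comp_id, Category.id_comp]
    · rw [Category.assoc, Category.assoc, hm2, pullback.diagonal_snd, ← Category.assoc,
        pullback.diagonal_snd, Category.comp_id, Category.id_comp]
  have key : ∀ s : PullbackCone (pullback.diagonal f)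
      (pullback.map f' f' f f a a b h.w.symm h.w.symm),
      s.snd ≫ pullback.fst f' f' ≫ a = s.fst ∧ s.snd ≫ pullback.snd f' f' ≫ a = s.fst := fun s => by
    constructor
    · rw [← hm1, ← Category.assoc, ← s.condition, Category.assoc, pullback.diagonal_fst,
        Category.comp_id]
    · rw [← hm2, ← Category.assoc, ← s.condition, Category.assoc, pullback.diagonal_snd,
        Category.comp_id]
  refine ⟨⟨hw⟩, ⟨PullbackCone.IsLimit.mk _ (fun s => s.snd ≫ pullback.fst f' f') ?_ ?_ ?_⟩⟩
  · intro s; rw [Category.assoc]; exact (key s).1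
  · intro s
    have e : s.snd ≫ pullback.fst f' f' = s.snd ≫ pullback.snd f' f' := h.hom_ext
      (by rw [Category.assoc, Category.assoc, (key s).1, (key s).2])
      (by rw [Category.assoc, Category.assoc, pullback.condition])
    apply pullback.hom_ext
    · rw [Category.assoc, pullback.diagonal_fst, Category.comp_id]
    · rw [Category.assoc, pullback.diagonal_snd, Category.comp_id, e]
  · intro s m _ hm
    rw [← hm, Category.assoc, pullback.diagonal_fst, Category.comp_id]

theorem exists_at_isSeparated [CompactSpace S] [QuasiCompact g] [QuasiSeparated g]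
    (h : AtLim A g @IsSeparated) : ∃ i, At A g @IsSeparated i := by
  let B := pb A (pullback.fst g g ≫ g)
  haveI : CompactSpace ↥(pullback g g) := QuasiCompact.compactSpace_of_compactSpace (pullback.fst g g ≫ g)
  haveI : QuasiCompact (pullback.diagonal g) := QuasiSeparated.quasiCompact_diagonal
  obtain ⟨i, hi⟩ := exists_at_isClosedImmersion B (pullback.diagonal g) (by
    haveI : IsSeparated (pullback.snd g A.s) := h
    have hd := isPullback_diagonal (IsPullback.of_hasPullback g A.s)
    let ψ : pullback (pullback.fst g g ≫ g) A.s ⟶ pullback (pullback.snd g A.s) (pullback.snd g A.s) :=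
      pullback.lift
        (pullback.lift (pullback.fst (pullback.fst g g ≫ g) A.s ≫ pullback.fst g g)
          (pullback.snd _ _) (by rw [Category.assoc]; exact pullback.condition))
        (pullback.lift (pullback.fst (pullback.fst g g ≫ g) A.s ≫ pullback.snd g g)
          (pullback.snd _ _) (by rw [Category.assoc, ← pullback.condition (f := g) (g := g)]; exact pullback.condition))
        (by rw [pullback.lift_snd, pullback.lift_snd])
    have hψ : ψ ≫ pullback.map (pullback.snd g A.s) (pullback.snd g A.s) g g (pullback.fst g A.s)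
        (pullback.fst g A.s) A.s pullback.condition.symm pullback.condition.symm =
          pullback.fst (pullback.fst g g ≫ g) A.s := by
      apply pullback.hom_ext <;> simp [ψ, pullback.map]
    let k : pullback (pullback.diagonal g) (pullback.fst (pullback.fst g g ≫ g) A.s) ⟶ pullback g A.s :=
      hd.lift (pullback.fst _ _) (pullback.snd _ _ ≫ ψ) (by rw [Category.assoc, hψ]; exact pullback.condition)
    show IsClosedImmersion (pullback.snd (pullback.diagonal g) (pullback.fst (pullback.fst g g ≫ g) A.s))
    refine MorphismProperty.of_isPullback (P := @IsClosedImmersion)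
      (g := pullback.diagonal (pullback.snd g A.s)) (f := ψ) (f' := k) ?_ inferInstance
    exact IsPullback.of_right (by rw [hd.lift_fst, hψ]; exact IsPullback.of_hasPullback _ _)
      (hd.lift_snd _ _ _) hd)
  refine ⟨i, ⟨?_⟩⟩
  have hd := isPullback_diagonal (IsPullback.of_hasPullback g (A.t i))
  set m := pullback.map (pullback.snd g (A.t i)) (pullback.snd g (A.t i)) g g (pullback.fst g (A.t i))
    (pullback.fst g (A.t i)) (A.t i) pullback.condition.symm pullback.condition.symm with hm
  let φ : pullback (pullback.snd g (A.t i)) (pullback.snd g (A.t i)) ⟶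
      pullback (pullback.fst g g ≫ g) (A.t i) :=
    pullback.lift m (pullback.fst _ _ ≫ pullback.snd g (A.t i))
      (by rw [← Category.assoc, hm, pullback.lift_fst, Category.assoc, Category.assoc, pullback.condition])
  have hφ : φ ≫ pullback.fst (pullback.fst g g ≫ g) (A.t i) = m := pullback.lift_fst _ _ _
  let k : pullback g (A.t i) ⟶ pullback (pullback.diagonal g) (pullback.fst (pullback.fst g g ≫ g) (A.t i)) :=
    pullback.lift (pullback.fst g (A.t i)) (pullback.diagonal (pullback.snd g (A.t i)) ≫ φ)
      (by rw [Category.assoc, hφ]; exact hd.w)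
  refine MorphismProperty.of_isPullback (P := @IsClosedImmersion)
    (g := pullback.snd (pullback.diagonal g) (pullback.fst (pullback.fst g g ≫ g) (A.t i)))
    (f := φ) (f' := k) ?_ hi
  exact IsPullback.of_right (by rw [pullback.lift_fst, hφ]; exact hd) (pullback.lift_snd _ _ _)
    (IsPullback.of_hasPullback _ _)

theorem exists_at_formallyUnramified [CompactSpace W] [LocallyOfFiniteType g]
    (h : AtLim A g @FormallyUnramified) : ∃ i, At A g @FormallyUnramified i := by
  obtain ⟨i⟩ := IsCofiltered.nonempty (C := I)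
  haveI : FormallyUnramified (pullback.snd g A.s) := h
  let L : W.Opens := ⟨RichLib.UnrLocus.locus g, RichLib.UnrLocus.isOpen_locus g⟩
  obtain ⟨j, a, hj⟩ := exists_map_preimage_eq_top (pb A g) (i := i)
    (pullback.fst g (A.t i) ⁻¹ᵁ L) (by
      refine eq_top_iff.mpr fun z _ => ?_
      show (pbπ A g i ≫ pullback.fst g (A.t i)).base z ∈ RichLib.UnrLocus.locus g
      rw [pbπ_fst]
      exact RichLib.UnrLocus.mem_locus_of_isPullback (IsPullback.of_hasPullback g A.s) z)
  refine ⟨j, ?_⟩
  show FormallyUnramified (pullback.snd g (A.t j))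
  rw [← RichLib.UnrLocus.locus_eq_univ_iff, Set.eq_univ_iff_forall]
  intro x
  have hx : (pbMap A g a ≫ pullback.fst g (A.t i)).base x ∈ RichLib.UnrLocus.locus g :=
    hj.ge (Set.mem_univ x)
  rw [pbMap_fst] at hx
  obtain ⟨V, hxV, hV⟩ := hx
  exact ⟨pullback.fst g (A.t j) ⁻¹ᵁ V, hxV, MorphismProperty.of_isPullback (P := @FormallyUnramified)
    ((isPullback_morphismRestrict (pullback.fst g (A.t j)) V).flip.paste_horiz
      (IsPullback.of_hasPullback g (A.t j)).flip).flip hV⟩

theorem exists_at_locallyQuasiFinite [CompactSpace W] [LocallyOfFiniteType g]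
    (h : AtLim A g @LocallyQuasiFinite) : ∃ i, At A g @LocallyQuasiFinite i := by
  obtain ⟨i⟩ := IsCofiltered.nonempty (C := I)
  haveI : LocallyQuasiFinite (pullback.snd g A.s) := h
  obtain ⟨j, a, hj⟩ := exists_map_preimage_eq_top (pb A g) (i := i)
    (pullback.fst g (A.t i) ⁻¹ᵁ g.quasiFiniteLocus) (by
      refine eq_top_iff.mpr fun z _ => ?_
      show g.QuasiFiniteAt ((pbπ A g i ≫ pullback.fst g (A.t i)).base z)
      rw [pbπ_fst]
      exact (RichLib.QFLocus.quasiFiniteAt_iff_of_isPullback (IsPullback.of_hasPullback g A.s) z).mp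
        ((pullback.snd g A.s).quasiFiniteAt z))
  refine ⟨j, ?_⟩
  show LocallyQuasiFinite (pullback.snd g (A.t j))
  rw [← Scheme.Hom.quasiFiniteLocus_eq_top_iff, eq_top_iff]
  intro x _
  refine (RichLib.QFLocus.quasiFiniteAt_iff_of_isPullback (IsPullback.of_hasPullback g (A.t j)) x).mpr ?_
  have hx : g.QuasiFiniteAt ((pbMap A g a ≫ pullback.fst g (A.t i)).base x) := hj.ge (Set.mem_univ x)
  rwa [pbMap_fst] at hx

/-- descent of factorisation through a quasi-compact open with a property -/
theorem exists_at_of_factor (P Q : MorphismProperty Scheme.{u}) [P.IsStableUnderBaseChange]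
    [Q.IsStableUnderBaseChange] (hQP : ∀ {X U Y : Scheme.{u}} (f : X ⟶ U) (ι : U ⟶ Y) [IsOpenImmersion ι],
      Q f → P (f ≫ ι))
    [CompactSpace S] [QuasiSeparatedSpace S] [QuasiCompact g] [QuasiSeparated g]
    (V₀ : A.c.pt.Opens) (hV₀ : IsCompact (V₀ : Set A.c.pt))
    (hle : Set.range (pullback.snd g A.s).base ⊆ V₀)
    (hQ : ∀ {U : Scheme.{u}} (ι : U ⟶ A.c.pt) [IsOpenImmersion ι] (f : pullback g A.s ⟶ U),
      ι.opensRange = V₀ → f ≫ ι = pullback.snd g A.s → Q f)
    (H : ∀ {J : Type u} [SmallCategory J] [IsCofiltered J] {U X : Scheme.{u}} (B : Sys J U) (k : X ⟶ U)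
      [CompactSpace U] [QuasiCompact k] [QuasiSeparated k],
      (∀ (R : MorphismProperty Scheme.{u}) [R.IsStableUnderBaseChange],
        (∀ {X U Y : Scheme.{u}} (f : X ⟶ U) (ι : U ⟶ Y) [IsOpenImmersion ι], R (f ≫ ι) → R f) →
        R g → R k) → AtLim B k Q → ∃ j, At B k Q j) :
    ∃ i, At A g P i := by
  haveI : ∀ {i j : I} (f : i ⟶ j), IsAffineHom (A.D.map f) := fun f => A.affine_map f
  haveI := A.compactSpace_obj
  haveI := A.quasiSeparatedSpace_obj
  haveI : CompactSpace W := QuasiCompact.compactSpace_of_compactSpace g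
  obtain ⟨i, Vi, hVi, hVi'⟩ := exists_preimage_eq A.D A.c A.hc V₀ hV₀
  obtain ⟨j, a, hj⟩ := exists_map_preimage_eq_top (pb A g) (i := i)
    (pullback.snd g (A.t i) ⁻¹ᵁ Vi) (by
      refine eq_top_iff.mpr fun z _ => ?_
      show (pbπ A g i ≫ pullback.snd g (A.t i)).base z ∈ Vi
      rw [pbπ_snd]
      show z ∈ pullback.snd g A.s ⁻¹ᵁ (A.c.π.app i ⁻¹ᵁ Vi)
      rw [hVi']
      exact hle ⟨z, rfl⟩)
  let V : (A.D.obj j).Opens := A.D.map a ⁻¹ᵁ Vi
  have hVc : IsCompact (V : Set (A.D.obj j)) :=
    QuasiCompact.isCompact_preimage (f := A.D.map a) _ Vi.2 hVi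
  haveI : CompactSpace ↥V.toScheme := isCompact_iff_compactSpace.mp hVc
  let g1 := pullback.snd g (A.t j)
  have hrange : Set.range g1.base ⊆ Set.range V.ι.base := by
    rw [Scheme.Opens.range_ι]
    rintro _ ⟨z, rfl⟩
    have hz : (pbMap A g a ≫ pullback.snd g (A.t i)).base z ∈ Vi := hj.ge (Set.mem_univ z)
    rw [pbMap_snd] at hz
    exact hz
  let g' : pullback g (A.t j) ⟶ V.toScheme := IsOpenImmersion.lift V.ι g1 hrange
  have hg' : g' ≫ V.ι = g1 := IsOpenImmersion.lift_fac _ _ _
  haveI : QuasiCompact g' := by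
    haveI : QuasiCompact (g' ≫ V.ι) := hg' ▸ inferInstance
    exact QuasiCompact.of_comp g' V.ι
  haveI : QuasiSeparated g' := by
    haveI : QuasiSeparated (g' ≫ V.ι) := hg' ▸ inferInstance
    exact QuasiSeparated.of_comp g' V.ι
  let R := restart A j
  let B := pb R V.ι
  have sqs := (IsPullback.of_hasPullback g' (pullback.fst V.ι R.s)).paste_vert
    (IsPullback.of_hasPullback V.ι R.s)
  rw [hg'] at sqs
  have big := sqs.paste_horiz (IsPullback.of_hasPullback g (A.t j))
  rw [show R.s ≫ A.t j = A.s from A.hs j] at big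
  obtain ⟨φ, hφ⟩ := H B g' (fun T _ hT hg => hT g' V.ι (by
    rw [hg']; exact MorphismProperty.pullback_snd _ _ hg)) (by
    show Q (pullback.snd g' (pullback.fst V.ι R.s))
    have hQ' := hQ (pullback.snd V.ι (A.c.π.app j))
      (big.isoPullback.inv ≫ pullback.snd g' (pullback.fst V.ι R.s))
      (by
        rw [Scheme.Hom.opensRange_pullbackSnd, Scheme.Opens.opensRange_ι, ← hVi', ← A.c.w a,
          Scheme.Hom.comp_preimage])
      (by rw [Category.assoc]; exact big.isoPullback_inv_snd)
    rwa [MorphismProperty.cancel_left_of_respectsIso Q] at hQ')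
  refine ⟨φ.left, at_restart A g (φ := φ) ?_⟩
  have sq := (IsPullback.of_hasPullback g' (pullback.fst V.ι (R.t φ))).paste_vert
    (IsPullback.of_hasPullback V.ι (R.t φ))
  rw [hg'] at sq
  show P (pullback.snd g1 (R.t φ))
  rw [← sq.isoPullback_inv_snd, MorphismProperty.cancel_left_of_respectsIso P]
  exact hQP _ _ hφ

theorem exists_at_isOpenImmersion [CompactSpace S] [QuasiSeparatedSpace S] [QuasiCompact g]
    [QuasiSeparated g] [LocallyOfFinitePresentation g] (h : AtLim A g @IsOpenImmersion) :
    ∃ i, At A g @IsOpenImmersion i := by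
  haveI : IsOpenImmersion (pullback.snd g A.s) := h
  haveI : CompactSpace W := QuasiCompact.compactSpace_of_compactSpace g
  haveI : IsAffineHom A.s := A.affine_s
  haveI : CompactSpace ↥(pullback g A.s) :=
    QuasiCompact.compactSpace_of_compactSpace (pullback.fst g A.s)
  refine exists_at_of_factor A g _ (MorphismProperty.isomorphisms Scheme) ?_
    (pullback.snd g A.s).opensRange (isCompact_range (pullback.snd g A.s).continuous) subset_rfl ?_ ?_
  · intro X U Y f ι _ (hf : IsIso f); infer_instance
  · intro U ι _ f hι hf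
    show IsIso f
    haveI : IsOpenImmersion (f ≫ ι) := hf ▸ inferInstance
    haveI : IsOpenImmersion f := IsOpenImmersion.of_comp f ι
    rw [isIso_iff_isOpenImmersion_and_surjective]
    refine ⟨inferInstance, ⟨fun u => ?_⟩⟩
    have hu : ι.base u ∈ ι.opensRange := ⟨u, rfl⟩
    rw [hι] at hu
    obtain ⟨z, hz⟩ := hu
    exact ⟨z, ι.isOpenEmbedding.injective (by rw [← Scheme.Hom.comp_apply, hf]; exact hz)⟩
  · intro J _ _ U X B k _ _ _ hk hlim
    haveI : LocallyOfFinitePresentation k := hk @LocallyOfFinitePresentation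
      (fun f ι _ (hh : LocallyOfFinitePresentation (f ≫ ι)) =>
        MorphismProperty.of_postcomp @LocallyOfFinitePresentation (W' := @IsOpenImmersion) f ι
          inferInstance hh) ‹_›
    exact exists_at_isIso B k hlim

theorem exists_at_isImmersion [CompactSpace S] [QuasiSeparatedSpace S] [QuasiCompact g]
    [QuasiSeparated g] [LocallyOfFiniteType g] (h : AtLim A g @IsImmersion) :
    ∃ i, At A g @IsImmersion i := by
  set f := pullback.snd g A.s with hfdef
  haveI : IsImmersion f := h
  haveI : CompactSpace W := QuasiCompact.compactSpace_of_compactSpace g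
  haveI : IsAffineHom A.s := A.affine_s
  haveI : CompactSpace ↥(pullback g A.s) :=
    QuasiCompact.compactSpace_of_compactSpace (pullback.fst g A.s)
  have hU : Set.range f.base ⊆ f.coborderRange := subset_coborder
  have : ∀ y : Set.range f.base, ∃ V : A.c.pt.affineOpens, y.1 ∈ V.1 ∧ V.1 ≤ f.coborderRange := fun y => by
    obtain ⟨_, ⟨V, hV, rfl⟩, hyV, hVU⟩ := A.c.pt.isBasis_affineOpens.exists_subset_of_mem_open
      (hU y.2) f.coborderRange.2
    exact ⟨⟨V, hV⟩, hyV, hVU⟩
  choose V hyV hVU using this
  obtain ⟨T, hT⟩ := (isCompact_range f.continuous).elim_finite_subcover (fun y => ((V y).1 : Set A.c.pt))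
    (fun y => (V y).1.2) (fun y hy => Set.mem_iUnion.mpr ⟨⟨y, hy⟩, hyV ⟨y, hy⟩⟩)
  refine exists_at_of_factor A g _ @IsClosedImmersion ?_ (⨆ y : T, (V y.1).1) ?_ ?_ ?_ ?_
  · intro X U Y f ι _ (hf : IsClosedImmersion f); infer_instance
  · rw [TopologicalSpace.Opens.coe_iSup]
    exact isCompact_iUnion fun y => (V y.1).2.isCompact
  · intro y hy
    obtain ⟨z, hz, hyz⟩ := Set.mem_iUnion₂.mp (hT hy)
    exact TopologicalSpace.Opens.mem_iSup.mpr ⟨⟨z, hz⟩, hyz⟩
  · intro U ι _ k hι hk
    haveI : IsImmersion (k ≫ ι) := hk ▸ ‹IsImmersion f›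
    haveI : IsImmersion k := IsImmersion.of_comp k ι
    apply IsClosedImmersion.of_isPreimmersion
    have heq : Set.range k.base = ι.base ⁻¹' closure (Set.range f.base) := by
      ext u
      constructor
      · rintro ⟨z, rfl⟩
        refine subset_closure ⟨z, ?_⟩
        rw [← Scheme.Hom.comp_apply, hk]
      · intro hu
        have hu' : ι.base u ∈ ι.opensRange := ⟨u, rfl⟩
        rw [hι] at hu'
        obtain ⟨y, hy⟩ := TopologicalSpace.Opens.mem_iSup.mp hu'
        have h2 : ι.base u ∈ Set.range f.base :=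
          coborder_inter_closure (s := Set.range f.base) ▸ ⟨hVU _ hy, hu⟩
        obtain ⟨z, hz⟩ := h2
        exact ⟨z, ι.isOpenEmbedding.injective (by rw [← Scheme.Hom.comp_apply, hk]; exact hz)⟩
    rw [heq]
    exact isClosed_closure.preimage ι.continuous
  · intro J _ _ U X B k _ _ _ hk hlim
    haveI : LocallyOfFiniteType k := hk @LocallyOfFiniteType
      (fun f ι _ (hh : LocallyOfFiniteType (f ≫ ι)) => locallyOfFiniteType_of_comp f ι) ‹_›
    exact exists_at_isClosedImmersion B k hlim

end RichLib.LimBC
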