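import Mathlib

/-!
# Lifting bases modulo a nilpotent ideal
-/

set_option autoImplicit false
universe u
open TensorProduct

noncomputable section

namespace RichLib.NilpLift

theorem eq_bot_of_le_smul_of_isNilpotent {R M : Type u} [CommRing R] [AddCommGroup M] [Module R M] {I : Ideal R}
    (hI : IsNilpotent I) {N : Submodule R M} (h : N ≤ I • N) : N = ⊥ := by
  obtain ⟨n, hn⟩ := hI
  have h2 : ∀ k : ℕ, N ≤ I ^ k • N := fun k => by
    induction k with
    | zero => rw [pow_zero, Ideal.one_eq_top, Submodule.top_smul]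
    | succ k ih => rw [pow_succ, Submodule.mul_smul]; exact ih.trans (Submodule.smul_mono le_rfl h)
  have h3 := h2 n
  rw [hn, Submodule.zero_eq_bot, Submodule.bot_smul] at h3
  exact le_bot_iff.mp h3

/-- a lift of a module free modulo a nilpotent ideal, with flat target, is bijective if it is so modulo the ideal -/
theorem injective_of_injective_mod {R F N : Type u} [CommRing R] [AddCommGroup F] [Module R F] [AddCommGroup N]
    [Module R N] [Module.Flat R N] (I : Ideal R) (hI : IsNilpotent I) (π : F →ₗ[R] N) (hπ : Function.Surjective π)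
    (hmod : Function.Injective (π.lTensor (R ⧸ I))) : Function.Injective π := by
  rw [← LinearMap.ker_eq_bot]
  refine eq_bot_of_le_smul_of_isNilpotent hI fun z hz => ?_
  have h1 : Function.Injective ((LinearMap.ker π).subtype.lTensor (R ⧸ I)) :=
    LinearMap.lTensor_injective_of_exact_of_flat π hπ (LinearMap.ker π).subtype Subtype.val_injective
      (LinearMap.exact_subtype_ker_map π) (R ⧸ I)
  have h2 : ((1 : R ⧸ I) ⊗ₜ[R] (⟨z, hz⟩ : LinearMap.ker π)) = 0 := by
    refine h1 ((hmod ?_).trans (map_zero _).symm)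
    rw [LinearMap.lTensor_tmul, LinearMap.lTensor_tmul, map_zero, Submodule.subtype_apply, LinearMap.mem_ker.mp hz,
      tmul_zero]
  have h3 := congrArg (TensorProduct.quotTensorEquivQuotSMul (LinearMap.ker π) I) h2
  rw [← map_one (Ideal.Quotient.mk I), TensorProduct.quotTensorEquivQuotSMul_mk_tmul, one_smul, map_zero,
    Submodule.Quotient.mk_eq_zero] at h3
  have h4 : (⟨z, hz⟩ : LinearMap.ker π) ∈ (I • ⊤ : Submodule R (LinearMap.ker π)) := h3
  have h5 := Submodule.mem_map_of_mem (f := (LinearMap.ker π).subtype) h4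
  rw [Submodule.map_smul'', Submodule.map_subtype_top] at h5
  exact h5

/-- a map which is surjective modulo a nilpotent ideal is surjective -/
theorem surjective_of_surjective_mod {R F N : Type u} [CommRing R] [AddCommGroup F] [Module R F] [AddCommGroup N]
    [Module R N] (I : Ideal R) (hI : IsNilpotent I) (π : F →ₗ[R] N)
    (hmod : Function.Surjective (π.lTensor (R ⧸ I))) : Function.Surjective π := by
  rw [← LinearMap.range_eq_top, eq_top_iff]
  have hsub : Submodule.map (LinearMap.range π).mkQ ⊤ = ⊥ := by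
    refine eq_bot_of_le_smul_of_isNilpotent hI fun z hz => ?_
    obtain ⟨x, -, rfl⟩ := hz
    obtain ⟨w, hw⟩ := hmod ((1 : R ⧸ I) ⊗ₜ[R] x)
    obtain ⟨v, rfl⟩ := TensorProduct.mk_surjective R F (R ⧸ I) Ideal.Quotient.mk_surjective w
    have h2 : ((1 : R ⧸ I) ⊗ₜ[R] (x - π v)) = 0 := by
      rw [tmul_sub, ← hw]
      exact sub_self _
    have h3 := congrArg (TensorProduct.quotTensorEquivQuotSMul N I) h2
    rw [← map_one (Ideal.Quotient.mk I), TensorProduct.quotTensorEquivQuotSMul_mk_tmul, one_smul, map_zero,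
      Submodule.Quotient.mk_eq_zero] at h3
    have h5 := Submodule.mem_map_of_mem (f := (LinearMap.range π).mkQ) h3
    rw [Submodule.map_smul'', map_sub, show (LinearMap.range π).mkQ (π v) = 0 from
      (Submodule.Quotient.mk_eq_zero _).mpr ⟨v, rfl⟩, sub_zero] at h5
    exact h5
  intro x _
  have hx : (LinearMap.range π).mkQ x ∈ (⊥ : Submodule R _) := hsub ▸ Submodule.mem_map_of_mem Submodule.mem_top
  exact (Submodule.Quotient.mk_eq_zero _).mp ((Submodule.mem_bot R).mp hx)

/-- injectivity modulo an ideal is preserved by a base change -/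
theorem injective_mod_baseChange {A A' F M : Type u} [CommRing A] [CommRing A'] [Algebra A A'] [AddCommGroup F]
    [Module A F] [AddCommGroup M] [Module A M] (J : Ideal A) (π : F →ₗ[A] M)
    (hb : Function.Bijective (π.lTensor (A ⧸ J))) :
    Function.Injective ((π.baseChange A').lTensor (A' ⧸ J.map (algebraMap A A'))) := by
  let mi := J.map (algebraMap A A')
  letI : Algebra (A ⧸ J) (A' ⧸ mi) := (Ideal.quotientMap mi (algebraMap A A') Ideal.le_comap_map).toAlgebra
  haveI : IsScalarTower A (A ⧸ J) (A' ⧸ mi) := IsScalarTower.of_algebraMap_eq fun _ => rfl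
  let eF := AlgebraTensorModule.cancelBaseChange A A' A' (A' ⧸ mi) F
  let eM := AlgebraTensorModule.cancelBaseChange A A' A' (A' ⧸ mi) M
  let gF := AlgebraTensorModule.cancelBaseChange A (A ⧸ J) (A ⧸ J) (A' ⧸ mi) F
  let gM := AlgebraTensorModule.cancelBaseChange A (A ⧸ J) (A ⧸ J) (A' ⧸ mi) M
  let π' : (A ⧸ J) ⊗[A] F →ₗ[A ⧸ J] (A ⧸ J) ⊗[A] M := π.baseChange (A ⧸ J)
  have hsq1 : ∀ z, eM ((π.baseChange A').lTensor (A' ⧸ mi) z) = π.lTensor (A' ⧸ mi) (eF z) := fun z => by
    induction z using TensorProduct.induction_on with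
    | zero => simp
    | add a b ha hb => simp only [map_add, ha, hb]
    | tmul c t =>
      induction t using TensorProduct.induction_on with
      | zero => simp
      | add a b ha hb => simp only [tmul_add, map_add, ha, hb]
      | tmul c' v => simp [eM, eF]
  have hsq2 : ∀ z, gM (π'.lTensor (A' ⧸ mi) z) = π.lTensor (A' ⧸ mi) (gF z) := fun z => by
    induction z using TensorProduct.induction_on with
    | zero => simp
    | add a b ha hb => simp only [map_add, ha, hb]
    | tmul c t =>
      induction t using TensorProduct.induction_on with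
      | zero => simp
      | add a b ha hb => simp only [tmul_add, map_add, ha, hb]
      | tmul c' v =>
        have e1 : π'.lTensor (A' ⧸ mi) (c ⊗ₜ[A ⧸ J] (c' ⊗ₜ[A] v)) = c ⊗ₜ[A ⧸ J] (c' ⊗ₜ[A] π v) :=
          congrArg (c ⊗ₜ[A ⧸ J] ·) (LinearMap.baseChange_tmul _ _ _)
        rw [e1]
        simp [gM, gF]
  have hbij : Function.Injective (π.lTensor (A' ⧸ mi)) := by
    intro a b hab
    obtain ⟨a, rfl⟩ := gF.surjective a
    obtain ⟨b, rfl⟩ := gF.surjective b
    rw [← hsq2, ← hsq2] at hab
    have h2 : Function.Injective (π'.lTensor (A' ⧸ mi)) :=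
      (LinearEquiv.lTensor (A' ⧸ mi) (LinearEquiv.ofBijective π' hb)).injective
    rw [h2 (gM.injective hab)]
  intro a b hab
  exact eF.injective (hbij (by rw [← hsq1, ← hsq1, hab]))

/-- a basis modulo an ideal lifts to a map from a free module, bijective modulo the ideal -/
theorem exists_lift_basis {A : Type u} [CommRing A] (J : Ideal A) (M : Type u) [AddCommGroup M] [Module A M]
    [Module.Free (A ⧸ J) ((A ⧸ J) ⊗[A] M)] :
    ∃ (ι : Type u) (π : (ι →₀ A) →ₗ[A] M), Function.Bijective (π.lTensor (A ⧸ J)) := by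
  classical
  let b := Module.Free.chooseBasis (A ⧸ J) ((A ⧸ J) ⊗[A] M)
  choose l hl using fun j => TensorProduct.mk_surjective A M (A ⧸ J) Ideal.Quotient.mk_surjective (b j)
  refine ⟨_, Finsupp.linearCombination A l, ?_⟩
  let bF := (Finsupp.basisSingleOne : Module.Basis _ A (Module.Free.ChooseBasisIndex (A ⧸ J) ((A ⧸ J) ⊗[A] M) →₀ A)).baseChange (A ⧸ J)
  have heq : (Finsupp.linearCombination A l).baseChange (A ⧸ J) = (bF.equiv b (Equiv.refl _)).toLinearMap := by
    refine bF.ext fun j => ?_
    rw [LinearEquiv.coe_coe, Module.Basis.equiv_apply, Equiv.refl_apply, ← hl j]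
    simp [bF]
  have h := (bF.equiv b (Equiv.refl _)).bijective
  rw [← LinearEquiv.coe_coe, ← heq] at h
  exact h

end RichLib.NilpLift
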