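import Mathlib
import Groth.Agent.RichLib.NilpLift
import Groth.Agent.FlatLib.OpenFP

/-!
# Flatness over a ring with nilpotent maximal ideal tested on a family of local algebras (EGA IV 11.4)
-/

set_option autoImplicit false
universe u
open TensorProduct

noncomputable section

namespace RichLib.FlatFamily

open FlatLib

/-- an element outside `p` moves `ξ` into all the `p ^ n • W` -/
theorem exists_notMem_pow_smul_mem {B C W : Type u} [CommRing B] [CommRing C] [Algebra B C] [AddCommGroup W]
    [Module C W] [Module B W] [IsScalarTower B C W] (p : Ideal B) [p.IsPrime] (K : Ideal C) (ξ : W)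
    (hK : ∀ c ∈ K, c • ξ = 0)
    (h : ∀ Q : PrimeSpectrum C, Q.asIdeal.comap (algebraMap B C) = p → K ≤ Q.asIdeal →
      ∃ c ∉ Q.asIdeal, c • ξ = 0) :
    ∃ t ∉ p, ∀ n : ℕ, t ^ n • ξ ∈ p ^ n • (⊤ : Submodule B W) := by
  let J : Ideal C := LinearMap.ker (LinearMap.toSpanSingleton C W ξ) ⊔ p.map (algebraMap B C)
  have hnd : ¬ Disjoint (J : Set C) (p.primeCompl.map (algebraMap B C) : Set C) := fun hd => by
    obtain ⟨Q, hQ, hJQ, hdQ⟩ := Ideal.exists_le_prime_disjoint J _ hd
    have hQp : Q.comap (algebraMap B C) = p := by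
      refine le_antisymm (fun b hb => ?_) (Ideal.map_le_iff_le_comap.mp (le_sup_right.trans hJQ))
      by_contra hbp
      exact Set.disjoint_left.mp hdQ hb (Submonoid.mem_map_of_mem _ (show b ∈ p.primeCompl from hbp))
    obtain ⟨c, hc, hcξ⟩ := h ⟨Q, hQ⟩ hQp
      fun c hc => hJQ (Submodule.mem_sup_left (LinearMap.mem_ker.mpr (hK c hc)))
    exact hc (hJQ (Submodule.mem_sup_left (LinearMap.mem_ker.mpr hcξ)))
  obtain ⟨_, hcJ, t, ht, rfl⟩ := Set.not_disjoint_iff.mp hnd
  obtain ⟨a, ha, b, hb, hab⟩ := Submodule.mem_sup.mp hcJ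
  have haξ : a • ξ = 0 := LinearMap.mem_ker.mp ha
  have htξ : t • ξ = b • ξ := by
    rw [← algebraMap_smul C t ξ, ← hab, add_smul, haξ, zero_add]
  refine ⟨t, ht, fun n => ?_⟩
  have hpow : t ^ n • ξ = b ^ n • ξ := by
    induction n with
    | zero => rw [pow_zero, pow_zero, one_smul, one_smul]
    | succ n ih => rw [pow_succ, mul_smul, htξ, smul_comm, ih, ← mul_smul, ← pow_succ']
  have hmem : b ^ n • ξ ∈ ((p ^ n).map (algebraMap B C) • (⊤ : Submodule C W)).restrictScalars B := by
    have hbn : b ^ n ∈ (p ^ n).map (algebraMap B C) := by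
      rw [Ideal.map_pow]
      exact Ideal.pow_mem_pow hb n
    exact (Submodule.restrictScalars_mem B _ _).mpr
      (Submodule.smul_mem_smul hbn (Submodule.mem_top (R := C) (x := ξ)))
  rw [Ideal.smul_restrictScalars, Submodule.restrictScalars_top] at hmem
  rw [hpow]
  exact hmem

/-- a module killed by the maximal ideal is detected by functionals to the residue field -/
theorem exists_dual_ne_zero {A V : Type u} [CommRing A] [IsLocalRing A] [AddCommGroup V] [Module A V]
    (hV : ∀ a ∈ IsLocalRing.maximalIdeal A, ∀ x : V, a • x = 0) {v : V} (hv : v ≠ 0) :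
    ∃ φ : V →ₗ[A] A ⧸ IsLocalRing.maximalIdeal A, φ v ≠ 0 := by
  let hVt : Module.IsTorsionBySet A V (IsLocalRing.maximalIdeal A) := fun x a => hV a.1 a.2 x
  letI : Module (A ⧸ IsLocalRing.maximalIdeal A) V := hVt.module
  haveI : IsScalarTower A (A ⧸ IsLocalRing.maximalIdeal A) V := hVt.isScalarTower
  haveI : Module.Free (A ⧸ IsLocalRing.maximalIdeal A) V :=
    letI := Ideal.Quotient.field (IsLocalRing.maximalIdeal A)
    Module.Free.of_divisionRing _ V
  let b := Module.Free.chooseBasis (A ⧸ IsLocalRing.maximalIdeal A) V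
  obtain ⟨i, hi⟩ : ∃ i, b.repr v i ≠ 0 := by
    by_contra hne
    push Not at hne
    exact hv (b.repr.injective (by rw [map_zero]; exact Finsupp.ext hne))
  exact ⟨(b.coord i).restrictScalars A, hi⟩

set_option maxHeartbeats 1600000 in
/-- the coefficients of a relation die in each member of the family -/
theorem relation_mem {A B : Type u} [CommRing A] [IsLocalRing A] [CommRing B] [Algebra A B]
    [IsNoetherianRing B] (p : Ideal B) [p.IsPrime] (M : Type u) [AddCommGroup M] [Module B M] [Module A M]
    [IsScalarTower A B M] [Module.Finite B M]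
    {A' B' M' : Type u} [CommRing A'] [IsLocalRing A'] [CommRing B'] [Algebra A A'] [Algebra A B']
    [Algebra B B'] [Algebra A' B'] [IsScalarTower A A' B'] [IsScalarTower A B B'] [Algebra.IsPushout A A' B B']
    [AddCommGroup M'] [Module B' M'] [Module B M'] [IsScalarTower B B' M'] [Module A' M']
    [IsScalarTower A' B' M'] [IsLocalHom (algebraMap A A')] (ι : M →ₗ[B] M') (hι : IsBaseChange B' ι)
    (hflat : ∀ Q : PrimeSpectrum B', Q.asIdeal.comap (algebraMap B B') = p →
      Q.asIdeal.comap (algebraMap A' B') = IsLocalRing.maximalIdeal A' → Q ∈ flatLocus A' B' M')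
    {σ : Type u} (l : σ → LocalizedModule p.primeCompl M)
    (hl : Function.Injective ((Finsupp.linearCombination A l).lTensor (A ⧸ IsLocalRing.maximalIdeal A)))
    (v : σ →₀ A) (hv : Finsupp.linearCombination A l v = 0) (j : σ) : algebraMap A A' (v j) = 0 := by
  classical
  let mk := LocalizedModule.mkLinearMap p.primeCompl M
  -- clear the denominators
  obtain ⟨s, x, hx, hsum⟩ : ∃ (s : p.primeCompl) (x : σ → M),
      (∀ i ∈ v.support, mk (x i) = (s : B) • l i) ∧ ∑ i ∈ v.support, v i • x i = 0 := by
    obtain ⟨s₁, hs₁⟩ := IsLocalizedModule.exist_integer_multiples p.primeCompl mk v.support l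
    choose x₁ hx₁ using hs₁
    let x : σ → M := fun i => if h : i ∈ v.support then x₁ i h else 0
    have hx : ∀ i ∈ v.support, mk (x i) = (s₁ : B) • l i := fun i hi => by
      simp only [x, dif_pos hi]
      exact hx₁ i hi
    have h0 : mk (∑ i ∈ v.support, v i • x i) = 0 := by
      have h1 : ∀ i ∈ v.support, mk (v i • x i) = (s₁ : B) • (v i • l i) := fun i hi => by
        rw [← algebraMap_smul B (v i) (x i), map_smul, hx i hi, smul_comm, algebraMap_smul]
      rw [map_sum, Finset.sum_congr rfl h1, ← Finset.smul_sum,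
        show ∑ i ∈ v.support, v i • l i = 0 from hv, smul_zero]
    obtain ⟨s₂, hs₂⟩ := (IsLocalizedModule.eq_zero_iff p.primeCompl mk).mp h0
    refine ⟨s₂ * s₁, fun i => (s₂ : B) • x i, fun i hi => ?_, ?_⟩
    · rw [map_smul, hx i hi, Submonoid.coe_mul, mul_smul]
    · rw [Submonoid.smul_def, Finset.smul_sum] at hs₂
      rw [← hs₂]
      exact Finset.sum_congr rfl fun i _ => smul_comm _ _ _
  haveI : SMulCommClass A' B M' := ⟨fun a b m => by
    rw [← algebraMap_smul B' a (b • m), ← algebraMap_smul B' b m, ← algebraMap_smul B' a m,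
      ← algebraMap_smul B' b (algebraMap A' B' a • m), smul_comm]⟩
  haveI : SMulCommClass B' A' M' := ⟨fun c a m => by
    rw [← algebraMap_smul B' a m, ← algebraMap_smul B' a (c • m), smul_comm]⟩
  haveI : SMulCommClass B A' M' := SMulCommClass.symm _ _ _
  let c : Ideal A' := Ideal.span ((v.support.image fun i => algebraMap A A' (v i)) : Set A')
  have hc : ∀ i ∈ v.support, algebraMap A A' (v i) ∈ c := fun i hi =>
    Ideal.subset_span (Finset.mem_image_of_mem (fun i => algebraMap A A' (v i)) hi)
  let V := c ⧸ (IsLocalRing.maximalIdeal A' • (⊤ : Submodule A' c))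
  let π : c →ₗ[A'] V := Submodule.mkQ _
  let ω : M' ⊗[A'] c := ∑ i ∈ v.support.attach, ι (x i.1) ⊗ₜ[A'] ⟨_, hc i.1 i.2⟩
  let ξ : M' ⊗[A'] V := ∑ i ∈ v.support.attach, ι (x i.1) ⊗ₜ[A'] π ⟨_, hc i.1 i.2⟩
  have hξω : π.lTensor M' ω = ξ := by
    rw [map_sum]
    exact Finset.sum_congr rfl fun i _ => LinearMap.lTensor_tmul _ _ _ _
  have hkill : ∀ a ∈ IsLocalRing.maximalIdeal A', ∀ w : V, a • w = 0 := by
    intro a ha w
    obtain ⟨w, rfl⟩ := Submodule.mkQ_surjective _ w
    rw [← map_smul, Submodule.mkQ_apply, Submodule.Quotient.mk_eq_zero]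
    exact Submodule.smul_mem_smul ha Submodule.mem_top
  -- the base change, read over `A`
  let e : A' ⊗[A] M ≃ₗ[A'] M' :=
    (Algebra.IsPushout.cancelBaseChange A A' B B' M).symm ≪≫ₗ hι.equiv.restrictScalars A'
  have he : ∀ (a : A') (m : M), e (a ⊗ₜ m) = a • ι m := fun a m => by
    show hι.equiv ((Algebra.IsPushout.cancelBaseChange A A' B B' M).symm (a ⊗ₜ m)) = a • ι m
    simp [IsBaseChange.equiv_tmul]
  obtain ⟨t, ht, htn⟩ : ∃ t ∉ p, ∀ n : ℕ, t ^ n • ξ ∈ p ^ n • (⊤ : Submodule B (M' ⊗[A'] V)) := by
    refine exists_notMem_pow_smul_mem p ((IsLocalRing.maximalIdeal A').map (algebraMap A' B')) ξ ?_ ?_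
    · intro c' hc'
      have hle : (IsLocalRing.maximalIdeal A').map (algebraMap A' B') ≤
          LinearMap.ker (LinearMap.toSpanSingleton B' (M' ⊗[A'] V) ξ) := by
        refine Ideal.map_le_iff_le_comap.mpr fun a ha => ?_
        show algebraMap A' B' a • ξ = 0
        rw [Finset.smul_sum]
        refine Finset.sum_eq_zero fun i _ => ?_
        rw [smul_tmul', algebraMap_smul, smul_tmul, hkill a ha, tmul_zero]
      exact LinearMap.mem_ker.mp (hle hc')
    · intro Q hQp hQm
      have hQ : Q.asIdeal.comap (algebraMap A' B') = IsLocalRing.maximalIdeal A' :=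
        (IsLocalRing.maximalIdeal.isMaximal A').eq_of_le (Ideal.IsPrime.comap _).ne_top
          (Ideal.map_le_iff_le_comap.mp hQm) |>.symm
      haveI : Module.Flat A' (LocalizedModule Q.asIdeal.primeCompl M') := hflat Q hQp hQ
      let loc := LocalizedModule.mkLinearMap Q.asIdeal.primeCompl M'
      let ψ := AlgebraTensorModule.rTensor A' c loc
      haveI : IsLocalizedModule Q.asIdeal.primeCompl ψ := inferInstance
      have h0 : ψ ω = 0 := by
        refine Module.Flat.lTensor_preserves_injective_linearMap (M := LocalizedModule Q.asIdeal.primeCompl M')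
          c.subtype Subtype.val_injective ?_
        refine (TensorProduct.rid A' _).injective ?_
        rw [map_zero, map_zero]
        have h1 : ∀ w, TensorProduct.rid A' _ (c.subtype.lTensor _ (ψ w)) =
            loc (TensorProduct.rid A' M' (c.subtype.lTensor M' w)) := fun w => by
          induction w using TensorProduct.induction_on with
          | zero => simp
          | add a b ha hb => simp only [map_add, ha, hb]
          | tmul m z => simp [ψ, LinearMap.map_smul_of_tower]
        rw [h1, map_sum, map_sum]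
        simp only [LinearMap.lTensor_tmul, Submodule.subtype_apply, TensorProduct.rid_tmul]
        rw [Finset.sum_attach v.support (fun i => algebraMap A A' (v i) • ι (x i))]
        have h2 : ∀ i, algebraMap A A' (v i) • ι (x i) = ι (v i • x i) := fun i => by
          rw [← algebraMap_smul B (v i) (x i), map_smul, ← algebraMap_smul B' (algebraMap A A' (v i)),
            ← IsScalarTower.algebraMap_apply, IsScalarTower.algebraMap_apply A B B', algebraMap_smul]
        rw [Finset.sum_congr rfl fun i _ => h2 i, ← map_sum, hsum, map_zero, map_zero]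
      obtain ⟨d, hd⟩ := (IsLocalizedModule.eq_zero_iff Q.asIdeal.primeCompl ψ).mp h0
      refine ⟨d, d.2, ?_⟩
      have h3 : ∀ w, (d : B') • π.lTensor M' w = π.lTensor M' ((d : B') • w) := fun w => by
        induction w using TensorProduct.induction_on with
        | zero => simp
        | add a b ha hb => simp only [map_add, smul_add, ha, hb]
        | tmul m z => simp [smul_tmul']
      rw [← hξω, h3, ← Submonoid.smul_def, hd, map_zero]
  -- a functional sends the relation to a relation modulo the maximal ideal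
  suffices hV : ∀ i (hi : i ∈ v.support), π ⟨_, hc i hi⟩ = 0 by
    have hle : c ≤ IsLocalRing.maximalIdeal A' • c := by
      refine Ideal.span_le.mpr fun a ha => ?_
      obtain ⟨i, hi, rfl⟩ := Finset.mem_image.mp ha
      have h4 := (Submodule.Quotient.mk_eq_zero _).mp (hV i hi)
      have h5 := Submodule.mem_map_of_mem (f := c.subtype) h4
      rw [Submodule.map_smul'', Submodule.map_subtype_top] at h5
      exact h5
    have hc0 : c = ⊥ := Submodule.eq_bot_of_le_smul_of_le_jacobson_bot _ c
      (Submodule.fg_span (Finset.finite_toSet _)) hle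
      (by rw [IsLocalRing.jacobson_eq_maximalIdeal _ bot_ne_top])
    by_cases hj : j ∈ v.support
    · exact (Submodule.mem_bot A').mp (hc0 ▸ hc j hj)
    · rw [Finsupp.notMem_support_iff.mp hj, map_zero]
  intro i hi
  haveI : IsScalarTower A A' V := inferInstance
  have hkillA : ∀ a ∈ IsLocalRing.maximalIdeal A, ∀ w : V, a • w = 0 := fun a ha w =>
    (algebraMap_smul A' a w).symm.trans (hkill _ (map_nonunit (algebraMap A A') a ha) w)
  by_contra hne
  obtain ⟨φ, hφ⟩ := exists_dual_ne_zero hkillA hne
  let k := A ⧸ IsLocalRing.maximalIdeal A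
  let N := LocalizedModule p.primeCompl M ⊗[A] k
  let g : M' ⊗[A'] V →+ N :=
    ((TensorProduct.comm A k _).toLinearMap ∘ₗ TensorProduct.map φ (mk.restrictScalars A)).toAddMonoidHom.comp
      ((AlgebraTensorModule.cancelBaseChange A A' A' V M).toLinearMap.toAddMonoidHom.comp
        (TensorProduct.comm A' M' V ≪≫ₗ LinearEquiv.lTensor V e.symm).toLinearMap.toAddMonoidHom)
  have hg : ∀ (a : A') (m : M) (w : V), g ((a • ι m) ⊗ₜ[A'] w) = mk m ⊗ₜ[A] φ (a • w) := fun a m w => by
    rw [← he]
    simp [g, N]
  have hgB : ∀ (b : B) (z : M' ⊗[A'] V), g (b • z) = b • g z := fun b z => by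
    induction z using TensorProduct.induction_on with
    | zero => simp
    | add a b' ha hb => simp only [map_add, smul_add, ha, hb]
    | tmul m' w =>
      obtain ⟨y, rfl⟩ := e.surjective m'
      induction y using TensorProduct.induction_on with
      | zero => simp
      | add a b' ha hb => simp only [add_tmul, map_add, smul_add, ha, hb]
      | tmul a m =>
        rw [he, smul_tmul', smul_comm b a, ← map_smul ι, hg, hg, map_smul, smul_tmul']
  let gB : M' ⊗[A'] V →ₗ[B] N := { toFun := g, map_add' := map_add g, map_smul' := hgB }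
  haveI : Module.Finite (Localization.AtPrime p) (LocalizedModule p.primeCompl M) :=
    Module.Finite.of_isLocalizedModule p.primeCompl mk
  haveI : Module.Finite (Localization.AtPrime p) N :=
    Module.Finite.of_surjective
      (({ toFun := fun m => m ⊗ₜ[A] (1 : k)
          map_add' := fun _ _ => add_tmul _ _ _
          map_smul' := fun _ _ => (smul_tmul' _ _ _).symm } :
        LocalizedModule p.primeCompl M →ₗ[Localization.AtPrime p] N))
      (fun z => by
        induction z using TensorProduct.induction_on with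
        | zero => exact ⟨0, by simp⟩
        | add a b ha hb =>
          obtain ⟨a', ha'⟩ := ha; obtain ⟨b', hb'⟩ := hb
          exact ⟨a' + b', by rw [map_add, ha', hb']⟩
        | tmul m r =>
          obtain ⟨r, rfl⟩ := Ideal.Quotient.mk_surjective r
          refine ⟨r • m, ?_⟩
          show (r • m) ⊗ₜ[A] (1 : k) = _
          rw [smul_tmul, ← Ideal.Quotient.algebraMap_eq, Algebra.algebraMap_eq_smul_one])
  have hgξ : gB ξ = 0 := by
    have hbot := Ideal.iInf_pow_smul_eq_bot_of_le_jacobson (M := N) (IsLocalRing.maximalIdeal (Localization.AtPrime p))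
      (by rw [IsLocalRing.jacobson_eq_maximalIdeal _ bot_ne_top])
    rw [← Submodule.mem_bot (Localization.AtPrime p), ← hbot, Submodule.mem_iInf]
    intro n
    have h1 := Submodule.mem_map_of_mem (f := gB) (htn n)
    rw [Submodule.map_smul'', map_smul] at h1
    have h2 : t ^ n • gB ξ ∈ ((p ^ n).map (algebraMap B (Localization.AtPrime p)) •
        (⊤ : Submodule (Localization.AtPrime p) N)).restrictScalars B := by
      rw [Ideal.smul_restrictScalars, Submodule.restrictScalars_top]
      exact Submodule.smul_mono le_rfl le_top h1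
    rw [Ideal.map_pow, IsLocalization.AtPrime.map_eq_maximalIdeal p (Localization.AtPrime p)] at h2
    obtain ⟨w, hw⟩ := (IsLocalization.map_units (Localization.AtPrime p) (⟨t, ht⟩ : p.primeCompl)).pow n
    rw [Submodule.restrictScalars_mem, ← algebraMap_smul (Localization.AtPrime p) (t ^ n), map_pow, ← hw] at h2
    have h3 := Submodule.smul_mem _ (↑w⁻¹ : Localization.AtPrime p) h2
    rwa [← mul_smul, Units.inv_mul, one_smul] at h3
  let w : σ → k := fun i => if h : i ∈ v.support then φ (π ⟨_, hc i h⟩) else 0
  have hsum0 : ∑ i ∈ v.support, l i ⊗ₜ[A] w i = 0 := by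
    have h4 : gB ξ = (s : B) • ∑ i ∈ v.support, l i ⊗ₜ[A] w i := by
      show g ξ = _
      rw [map_sum, Finset.smul_sum, ← Finset.sum_attach v.support (fun i => (s : B) • l i ⊗ₜ[A] w i)]
      refine Finset.sum_congr rfl fun i _ => ?_
      rw [← one_smul A' (ι (x i.1)), hg, one_smul, hx i.1 i.2, smul_tmul',
        show w i.1 = φ (π ⟨_, hc i.1 i.2⟩) from dif_pos i.2]
    rw [hgξ] at h4
    have hu : IsUnit (algebraMap B (Localization.AtPrime p) s) := IsLocalization.map_units _ s
    rw [← algebraMap_smul (Localization.AtPrime p) (s : B)] at h4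
    exact (hu.smul_left_cancel).mp (h4.symm.trans (smul_zero _).symm)
  -- the basis property
  let z : k ⊗[A] (σ →₀ A) := ∑ i ∈ v.support, w i ⊗ₜ[A] Finsupp.single i 1
  have hz : (Finsupp.linearCombination A l).lTensor k z = 0 := by
    refine (TensorProduct.comm A k _).injective ?_
    rw [map_zero, map_sum, map_sum, ← hsum0]
    refine Finset.sum_congr rfl fun i _ => ?_
    simp [Finsupp.linearCombination_single]
  have hz0 : z = 0 := hl (hz.trans (map_zero _).symm)
  have h6 := congrArg (fun y => (TensorProduct.finsuppScalarRight A A k σ y) i) hz0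
  have h7 : (TensorProduct.finsuppScalarRight A A k σ z) i = w i := by
    rw [map_sum, Finsupp.finsetSum_apply, Finset.sum_eq_single i]
    · simp [TensorProduct.finsuppScalarRight_apply_tmul_apply]
    · intro b _ hb
      simp [TensorProduct.finsuppScalarRight_apply_tmul_apply, Finsupp.single_eq_of_ne' hb]
    · exact fun hni => absurd hi hni
  apply hφ
  have h8 : w i = φ (π ⟨_, hc i hi⟩) := dif_pos hi
  rw [← h8, ← h7]
  exact h6.trans (by rw [map_zero, Finsupp.zero_apply])

/-- flatness at `p` from flatness of the family -/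
theorem mem_flatLocus_of_family {A B : Type u} [CommRing A] [IsLocalRing A] [CommRing B] [Algebra A B]
    [IsNoetherianRing B] (hm : IsNilpotent (IsLocalRing.maximalIdeal A)) (p : PrimeSpectrum B)
    (M : Type u) [AddCommGroup M] [Module B M] [Module A M] [IsScalarTower A B M] [Module.Finite B M]
    (h : ∀ {σ : Type u} (l : σ → LocalizedModule p.asIdeal.primeCompl M),
      Function.Injective ((Finsupp.linearCombination A l).lTensor (A ⧸ IsLocalRing.maximalIdeal A)) →
      ∀ v : σ →₀ A, Finsupp.linearCombination A l v = 0 → ∀ j, v j = 0) :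
    p ∈ flatLocus A B M := by
  classical
  let Mp := LocalizedModule p.asIdeal.primeCompl M
  haveI : Module.Free (A ⧸ IsLocalRing.maximalIdeal A) ((A ⧸ IsLocalRing.maximalIdeal A) ⊗[A] Mp) :=
    letI := Ideal.Quotient.field (IsLocalRing.maximalIdeal A)
    Module.Free.of_divisionRing _ _
  obtain ⟨σ, π, hb⟩ := RichLib.NilpLift.exists_lift_basis (IsLocalRing.maximalIdeal A) Mp
  have hπ : π = Finsupp.linearCombination A fun i => π (Finsupp.single i 1) := by
    refine Finsupp.lhom_ext' fun i => LinearMap.ext_ring ?_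
    simp
  have hinj : Function.Injective π := (injective_iff_map_eq_zero π).mpr fun v hv =>
    Finsupp.ext fun j => h _ (by rw [← hπ]; exact hb.1) v (by rw [← hπ]; exact hv) j
  exact Module.Flat.of_linearEquiv (LinearEquiv.ofBijective π
    ⟨hinj, RichLib.NilpLift.surjective_of_surjective_mod _ hm π hb.2⟩).symm

end RichLib.FlatFamily
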