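import Mathlib
import Groth.Agent.FlatLib.OpenFP
import Groth.Agent.FlatLib.SchemeFlat

/-!
# Flatness at a prime descends to a finitely presented algebra over the base (EGA IV 11.2.6)
-/

set_option autoImplicit false
universe u

open TensorProduct LinearMap

attribute [local instance] MvPolynomial.algebraMvPolynomial

namespace RichLib.FlatStage

open FlatLib

theorem isScalarTower_mv (σ A R R' : Type u) [CommRing A] [CommRing R] [CommRing R'] [Algebra A R]
    [Algebra A R'] [Algebra R R'] [IsScalarTower A R R'] :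
    IsScalarTower (MvPolynomial σ A) (MvPolynomial σ R) (MvPolynomial σ R') :=
  IsScalarTower.of_algebraMap_eq fun x => by
    show MvPolynomial.map (algebraMap A R') x =
      MvPolynomial.map (algebraMap R R') (MvPolynomial.map (algebraMap A R) x)
    rw [MvPolynomial.map_map, ← IsScalarTower.algebraMap_eq]

/-- The base change map is a base change. -/
theorem exists_isBaseChange_bcMap' (σ : Type u) {A : Type u} [CommRing A] (M₀ : Type u) [AddCommGroup M₀]
    [Module A M₀] [Module (MvPolynomial σ A) M₀] [IsScalarTower A (MvPolynomial σ A) M₀]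
    (R₁ R₂ : Type u) [CommRing R₁] [CommRing R₂] [Algebra A R₁] [Algebra A R₂] [Algebra R₁ R₂]
    [IsScalarTower A R₁ R₂] :
    ∃ ι : BC σ A M₀ R₁ →ₗ[R₁] BC σ A M₀ R₂, IsBaseChange R₂ ι ∧
      ∀ (t : MvPolynomial σ R₁) (x : BC σ A M₀ R₁),
        ι (t • x) = (polyMap σ (IsScalarTower.toAlgHom A R₁ R₂)).toRingHom t • ι x := by
  let φ := IsScalarTower.toAlgHom A R₁ R₂
  let ι : BC σ A M₀ R₁ →ₗ[R₁] BC σ A M₀ R₂ :=
    { toFun := bcMap σ M₀ φ
      map_add' := map_add _
      map_smul' := fun r x ↦ by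
        rw [LinearMap.map_smulₛₗ, RingHom.id_apply, ← algebraMap_smul R₂ r]
        rfl }
  have hcomp : ι.restrictScalars A ∘ₗ inc σ A M₀ R₁ = inc σ A M₀ R₂ :=
    LinearMap.ext fun m ↦ bcMap_inc σ M₀ φ m
  exact ⟨ι, IsBaseChange.of_comp (isBaseChange_inc σ A M₀ R₁) (hcomp ▸ isBaseChange_inc σ A M₀ R₂),
    bcMap_smul σ M₀ φ⟩

/-- base change of a model -/
noncomputable def bcTrans (σ : Type u) {A : Type u} [CommRing A] (M₀ : Type u) [AddCommGroup M₀]
    [Module (MvPolynomial σ A) M₀]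
    {R₀ : Type u} [CommRing R₀] [Algebra A R₀] {M : Type u} [AddCommGroup M] [Module (MvPolynomial σ R₀) M]
    (e : BC σ A M₀ R₀ ≃ₗ[MvPolynomial σ R₀] M)
    (R : Type u) [CommRing R] [Algebra A R] [Algebra R₀ R] [IsScalarTower A R₀ R] :
    BC σ R₀ M R ≃ₗ[MvPolynomial σ R] BC σ A M₀ R :=
  haveI := isScalarTower_mv σ A R₀ R
  (AlgebraTensorModule.congr (LinearEquiv.refl (MvPolynomial σ R) (MvPolynomial σ R)) e.symm) ≪≫ₗ
    AlgebraTensorModule.cancelBaseChange (MvPolynomial σ A) (MvPolynomial σ R₀) (MvPolynomial σ R)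
      (MvPolynomial σ R) M₀

theorem mem_flatLocus_of_stage (σ : Type u) {A R₀ R₁ R₂ R : Type u} [CommRing A] [CommRing R₀]
    [CommRing R₁] [CommRing R₂] [CommRing R] [Algebra A R₀] [Algebra A R₁] [Algebra A R₂] [Algebra R₀ R₂]
    [Algebra R₁ R₂] [IsScalarTower A R₀ R₂] [IsScalarTower A R₁ R₂]
    (M₀ : Type u) [AddCommGroup M₀] [Module A M₀] [Module (MvPolynomial σ A) M₀]
    [IsScalarTower A (MvPolynomial σ A) M₀]
    {M : Type u} [AddCommGroup M] [Module R₀ M] [Module (MvPolynomial σ R₀) M]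
    [IsScalarTower R₀ (MvPolynomial σ R₀) M]
    (e : BC σ A M₀ R₀ ≃ₗ[MvPolynomial σ R₀] M) (θ : R₂ →+* R) (q : PrimeSpectrum (MvPolynomial σ R))
    (h : PrimeSpectrum.comap (MvPolynomial.map (θ.comp (algebraMap R₁ R₂))) q ∈
      flatLocus R₁ (MvPolynomial σ R₁) (BC σ A M₀ R₁)) :
    PrimeSpectrum.comap (MvPolynomial.map θ) q ∈ flatLocus R₂ (MvPolynomial σ R₂) (BC σ R₀ M R₂) := by
  rw [flatLocus_congr (bcTrans σ M₀ e R₂)]
  obtain ⟨ι, hι, hsmul⟩ := exists_isBaseChange_bcMap' (A := A) σ M₀ R₁ R₂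
  refine flat_localized_baseChange
    (PrimeSpectrum.comap (MvPolynomial.map (θ.comp (algebraMap R₁ R₂))) q).asIdeal.primeCompl
    (LocalizedModule.mkLinearMap _ _)
    (PrimeSpectrum.comap (MvPolynomial.map θ) q).asIdeal.primeCompl (LocalizedModule.mkLinearMap _ _)
    (polyMap σ (IsScalarTower.toAlgHom A R₁ R₂)).toRingHom (fun t ht h => ht ?_) ι hι hsmul h
  show MvPolynomial.map (θ.comp (algebraMap R₁ R₂)) t ∈ q.asIdeal
  rw [← MvPolynomial.map_map]
  exact h

/-- flatness at a prime holds already over a finitely presented algebra -/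
theorem exists_fp_stage (σ : Type u) [Finite σ] {R₀ : Type u} [CommRing R₀] (M : Type u) [AddCommGroup M]
    [Module R₀ M] [Module (MvPolynomial σ R₀) M] [IsScalarTower R₀ (MvPolynomial σ R₀) M]
    [Module.FinitePresentation (MvPolynomial σ R₀) M]
    (R : Type u) [CommRing R] [Algebra R₀ R] (q : PrimeSpectrum (MvPolynomial σ R))
    (hq : q ∈ flatLocus R (MvPolynomial σ R) (BC σ R₀ M R)) :
    ∃ (R₂ : Type u) (_ : CommRing R₂) (_ : Algebra R₀ R₂) (_ : Algebra.FinitePresentation R₀ R₂)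
      (θ : R₂ →ₐ[R₀] R), PrimeSpectrum.comap (MvPolynomial.map θ.toRingHom) q ∈
        flatLocus R₂ (MvPolynomial σ R₂) (BC σ R₀ M R₂) := by
  obtain ⟨A, M₀, _, _, _, _, hA, _, ⟨e⟩, -⟩ := exists_model (σ := σ) (R := R₀) (M := M) ∅ (by simp)
  haveI : IsNoetherianRing A := isNoetherianRing_of_fg hA
  haveI : IsScalarTower A R₀ R := IsScalarTower.of_algebraMap_eq fun _ => rfl
  rw [flatLocus_congr (bcTrans σ M₀ e R)] at hq
  obtain ⟨F, hF⟩ := exists_stage_mem_flatLocus σ M₀ q hq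
  let R₁ := Algebra.adjoin A (F : Set R)
  haveI : Algebra.FiniteType A R₁ := ⟨(Subalgebra.fg_top _).mpr ⟨F, rfl⟩⟩
  haveI : Algebra.FinitePresentation A R₁ := Algebra.FinitePresentation.of_finiteType.mp inferInstance
  letI := Algebra.TensorProduct.rightAlgebra (R := A) (A := R₀) (B := R₁)
  let θ : R₀ ⊗[A] R₁ →ₐ[R₀] R :=
    Algebra.TensorProduct.lift (Algebra.ofId R₀ R) R₁.val (fun _ _ => Commute.all _ _)
  refine ⟨R₀ ⊗[A] R₁, inferInstance, inferInstance, inferInstance, θ, ?_⟩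
  haveI : IsScalarTower A R₁ (R₀ ⊗[A] R₁) := IsScalarTower.of_algebraMap_eq fun a => by
    show algebraMap A (R₀ ⊗[A] R₁) a = (1 : R₀) ⊗ₜ[A] algebraMap A R₁ a
    exact (Algebra.TensorProduct.includeRight (R := A) (A := R₀) (B := R₁)).commutes a |>.symm
  refine mem_flatLocus_of_stage (R₁ := R₁) (R₂ := R₀ ⊗[A] R₁) σ M₀ e θ.toRingHom q ?_
  have e' : θ.toRingHom.comp (algebraMap R₁ (R₀ ⊗[A] R₁)) = R₁.val.toRingHom :=
    RingHom.ext fun r => by
      show θ ((1 : R₀) ⊗ₜ[A] r) = (r : R)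
      simp [θ]
  rw [e']
  exact hF

theorem flatLocus_congr_algEquiv {R S S' : Type u} [CommRing R] [CommRing S] [CommRing S'] [Algebra R S]
    [Algebra R S'] (e : S ≃ₐ[R] S') (q : PrimeSpectrum S') :
    PrimeSpectrum.comap e.toRingHom q ∈ flatLocus R S S ↔ q ∈ flatLocus R S' S' := by
  letI : Algebra S S' := e.toRingHom.toAlgebra
  haveI : IsScalarTower R S S' := IsScalarTower.of_algebraMap_eq fun r => (e.commutes r).symm
  rw [flatLocus_comap (R := R) (P := S) (S := S') (M := S') (fun y => ⟨e.symm y, e.apply_symm_apply y⟩)]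
  let l : S ≃ₗ[S] S' :=
    { toFun := e, invFun := e.symm, left_inv := e.symm_apply_apply, right_inv := e.apply_symm_apply
      map_add' := map_add e
      map_smul' := fun a b => by
        show e (a * b) = e a * e b
        exact map_mul e a b }
  rw [flatLocus_congr l]
  rfl

/-- flatness of the fibres of a finitely presented algebra at a prime holds over a finitely presented stage -/
theorem exists_fp_stage_algebra {R₀ B₀ : Type u} [CommRing R₀] [CommRing B₀] [Algebra R₀ B₀]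
    [Algebra.FinitePresentation R₀ B₀] (R : Type u) [CommRing R] [Algebra R₀ R]
    (q : PrimeSpectrum (R ⊗[R₀] B₀)) (hq : q ∈ flatLocus R (R ⊗[R₀] B₀) (R ⊗[R₀] B₀)) :
    ∃ (R₂ : Type u) (_ : CommRing R₂) (_ : Algebra R₀ R₂) (_ : Algebra.FinitePresentation R₀ R₂)
      (θ : R₂ →ₐ[R₀] R),
      PrimeSpectrum.comap (Algebra.TensorProduct.map θ (AlgHom.id R₀ B₀)).toRingHom q ∈
        flatLocus R₂ (R₂ ⊗[R₀] B₀) (R₂ ⊗[R₀] B₀) := by
  obtain ⟨σ, hσ, π, hπ, hker⟩ := Algebra.FinitePresentation.iff_quotient_mvPolynomial'.{_, _, u}.mp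
    (inferInstance : Algebra.FinitePresentation R₀ B₀)
  let P := MvPolynomial σ R₀
  letI : Algebra P B₀ := π.toRingHom.toAlgebra
  haveI : IsScalarTower R₀ P B₀ := IsScalarTower.of_algebraMap_eq fun r ↦ (π.commutes r).symm
  haveI : Module.FinitePresentation P B₀ :=
    Module.finitePresentation_of_surjective (Algebra.linearMap P B₀) hπ hker
  -- `R' ⊗ B₀` is a quotient of `R'[σ]`
  have key : ∀ (R' : Type u) [CommRing R'] [Algebra R₀ R'],
      haveI := isScalarTower_mv σ R₀ R₀ R'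
      ∃ E : (MvPolynomial σ R' ⊗[P] B₀) ≃ₐ[R'] R' ⊗[R₀] B₀,
        ∀ s : σ, E ((MvPolynomial.X s) ⊗ₜ 1) = 1 ⊗ₜ π (MvPolynomial.X s) ∧
        ∀ b : B₀, E (1 ⊗ₜ b) = 1 ⊗ₜ b := by
    intro R' _ _
    haveI : Algebra.IsPushout R₀ R' P (MvPolynomial σ R') := inferInstance
    refine ⟨Algebra.IsPushout.cancelBaseChangeAlg R₀ R' P (MvPolynomial σ R') B₀, fun s => ⟨?_, fun b => ?_⟩⟩
    · have h1 : (MvPolynomial.X s : MvPolynomial σ R') ⊗ₜ[P] (1 : B₀) =
          (1 : MvPolynomial σ R') ⊗ₜ[P] π (MvPolynomial.X s) := by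
        rw [show (MvPolynomial.X s : MvPolynomial σ R') = (MvPolynomial.X s : P) • (1 : MvPolynomial σ R') by
          rw [Algebra.smul_def, mul_one]; exact (MvPolynomial.map_X _ s).symm, TensorProduct.smul_tmul,
          Algebra.smul_def, mul_one]
        rfl
      rw [h1]; simp
    · simp
  obtain ⟨E, hE⟩ := key R
  haveI := isScalarTower_mv σ R₀ R₀ R
  have hsurj : ∀ (R' : Type u) [CommRing R'] [Algebra R₀ R'],
      Function.Surjective (algebraMap (MvPolynomial σ R') (MvPolynomial σ R' ⊗[P] B₀)) :=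
    fun R' _ _ z => by
      induction z using TensorProduct.induction_on with
      | zero => exact ⟨0, map_zero _⟩
      | add a b ha hb => obtain ⟨a', rfl⟩ := ha; obtain ⟨b', rfl⟩ := hb; exact ⟨a' + b', map_add _ _ _⟩
      | tmul a b =>
        obtain ⟨p, rfl⟩ := hπ b
        refine ⟨p • a, ?_⟩
        show (p • a) ⊗ₜ[P] (1 : B₀) = a ⊗ₜ[P] π p
        rw [TensorProduct.smul_tmul, Algebra.smul_def, mul_one]; rfl
  have h1 : PrimeSpectrum.comap (algebraMap (MvPolynomial σ R) (MvPolynomial σ R ⊗[P] B₀))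
      (PrimeSpectrum.comap E.toRingHom q) ∈
        flatLocus R (MvPolynomial σ R) (BC σ R₀ B₀ R) := by
    rw [← Set.mem_preimage, ← flatLocus_comap (hsurj R)]
    exact (flatLocus_congr_algEquiv E q).mpr hq
  obtain ⟨R₂, _, _, _, θ, hθ⟩ := exists_fp_stage σ B₀ R _ h1
  refine ⟨R₂, inferInstance, inferInstance, inferInstance, θ, ?_⟩
  obtain ⟨E₂, hE₂⟩ := key R₂
  rw [← flatLocus_congr_algEquiv E₂, flatLocus_comap (R := R₂) (hsurj R₂), Set.mem_preimage]
  convert hθ using 2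
  rw [← PrimeSpectrum.comap_comp_apply, ← PrimeSpectrum.comap_comp_apply, ← PrimeSpectrum.comap_comp_apply,
    ← PrimeSpectrum.comap_comp_apply]
  refine congrArg (fun φ : MvPolynomial σ R₂ →+* R ⊗[R₀] B₀ => PrimeSpectrum.comap φ q) ?_
  apply MvPolynomial.ringHom_ext <;> intro r
  · show Algebra.TensorProduct.map θ (AlgHom.id R₀ B₀) (E₂ ((MvPolynomial.C r) ⊗ₜ 1)) =
      E ((MvPolynomial.map θ.toRingHom (MvPolynomial.C r)) ⊗ₜ 1)
    rw [MvPolynomial.map_C, ← MvPolynomial.algebraMap_eq, ← MvPolynomial.algebraMap_eq]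
    show Algebra.TensorProduct.map θ _ (E₂ (algebraMap R₂ _ r)) = E (algebraMap R _ (θ r))
    rw [E₂.commutes, E.commutes]
    simp [Algebra.TensorProduct.algebraMap_apply]
  · show Algebra.TensorProduct.map θ (AlgHom.id R₀ B₀) (E₂ ((MvPolynomial.X r) ⊗ₜ 1)) =
      E ((MvPolynomial.map θ.toRingHom (MvPolynomial.X r)) ⊗ₜ 1)
    rw [MvPolynomial.map_X, (hE r).1, (hE₂ r).1]
    simp

end RichLib.FlatStage
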