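import Mathlib
import Groth.Prelude.Def_FlatCA
import Groth.Agent.RichLib.FlatStage

/-!
# Flatness of a base change to a colimit is attained at a finite stage (EGA IV 11.2.6, affine case)
-/

set_option autoImplicit false
universe u

open TensorProduct LinearMap

attribute [local instance] MvPolynomial.algebraMvPolynomial

noncomputable section

namespace RichLib.FlatColimit

open FlatLib

theorem map_comp' (σ : Type u) {R S T : Type u} [CommRing R] [CommRing S] [CommRing T] (f : R →+* S)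
    (g : S →+* T) : (MvPolynomial.map (σ := σ) g).comp (MvPolynomial.map f) = MvPolynomial.map (g.comp f) :=
  RingHom.ext fun x => MvPolynomial.map_map f g x

section Colimit

variable {ι : Type u} [Preorder ι] {G : ι → Type u} [∀ i, CommRing (G i)]
  {g : ∀ i j, i ≤ j → G i →+* G j} {A : Type u} [CommRing A] [∀ i, Algebra (G i) A]

theorem exists_poly_lift (hc : FlatCA.IsDirectedColimitRing G g A) (σ : Type u) (i : ι)
    (x : MvPolynomial σ A) :
    ∃ (k : ι) (_ : i ≤ k) (y : MvPolynomial σ (G k)), MvPolynomial.map (algebraMap (G k) A) y = x := by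
  obtain ⟨hdir, -, -, -, hcompat, hsurj, -⟩ := hc
  induction x using MvPolynomial.induction_on with
  | C a =>
    obtain ⟨j, b, rfl⟩ := hsurj a
    obtain ⟨k, hik, hjk⟩ := hdir.directed i j
    exact ⟨k, hik, MvPolynomial.C (g j k hjk b), by rw [MvPolynomial.map_C, ← hcompat j k hjk]; rfl⟩
  | add p q hp hq =>
    obtain ⟨k₁, h₁, y₁, rfl⟩ := hp
    obtain ⟨k₂, h₂, y₂, rfl⟩ := hq
    obtain ⟨k, hk₁, hk₂⟩ := hdir.directed k₁ k₂
    refine ⟨k, h₁.trans hk₁, MvPolynomial.map (g k₁ k hk₁) y₁ + MvPolynomial.map (g k₂ k hk₂) y₂, ?_⟩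
    rw [map_add, MvPolynomial.map_map, MvPolynomial.map_map, hcompat, hcompat]
  | mul_X p s hp =>
    obtain ⟨k, hk, y, rfl⟩ := hp
    exact ⟨k, hk, y * MvPolynomial.X s, by rw [map_mul, MvPolynomial.map_X]⟩

theorem exists_kill (hc : FlatCA.IsDirectedColimitRing G g A) {κ : Type*} (S : Finset κ) (i : ι)
    (x : κ → G i) (hx : ∀ s ∈ S, algebraMap (G i) A (x s) = 0) :
    ∃ (k : ι) (h : i ≤ k), ∀ s ∈ S, g i k h (x s) = 0 := by
  classical
  obtain ⟨hdir, -, -, hcomp, -, -, hinj⟩ := hc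
  induction S using Finset.induction with
  | empty => exact ⟨i, le_rfl, by simp⟩
  | @insert a S ha ih =>
    obtain ⟨k₁, h₁, hk₁⟩ := ih fun s hs => hx s (Finset.mem_insert_of_mem hs)
    obtain ⟨k₂, h₂, hk₂⟩ := hinj i (x a) (hx a (Finset.mem_insert_self a S))
    obtain ⟨k, hk₁', hk₂'⟩ := hdir.directed k₁ k₂
    refine ⟨k, h₁.trans hk₁', fun s hs => ?_⟩
    rcases Finset.mem_insert.mp hs with rfl | hs
    · rw [← hcomp i k₂ k h₂ hk₂', RingHom.comp_apply, hk₂, map_zero]
    · rw [← hcomp i k₁ k h₁ hk₁', RingHom.comp_apply, hk₁ s hs, map_zero]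

theorem exists_poly_kill (hc : FlatCA.IsDirectedColimitRing G g A) (σ : Type u) (i : ι)
    (d : MvPolynomial σ (G i)) (hd : MvPolynomial.map (algebraMap (G i) A) d = 0) :
    ∃ (k : ι) (h : i ≤ k), MvPolynomial.map (g i k h) d = 0 := by
  obtain ⟨k, h, hk⟩ := exists_kill hc d.support i (fun m => d.coeff m) fun m _ => by
    simpa [MvPolynomial.coeff_map] using congrArg (fun p => MvPolynomial.coeff m p) hd
  refine ⟨k, h, MvPolynomial.ext _ _ fun m => ?_⟩
  rw [MvPolynomial.coeff_map, MvPolynomial.coeff_zero]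
  by_cases hm : m ∈ d.support
  · exact hk m hm
  · rw [MvPolynomial.notMem_support_iff.mp hm, map_zero]

/-- an open set covering the colimit covers some stage -/
theorem exists_preimage_eq_univ (hc : FlatCA.IsDirectedColimitRing G g A) (σ : Type u) (i : ι)
    {O : Set (PrimeSpectrum (MvPolynomial σ (G i)))} (hO : IsOpen O)
    (hcov : ∀ q, PrimeSpectrum.comap (MvPolynomial.map (algebraMap (G i) A)) q ∈ O) :
    ∃ (k : ι) (h : i ≤ k), ∀ q, PrimeSpectrum.comap (MvPolynomial.map (g i k h)) q ∈ O := by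
  obtain ⟨J, hJ⟩ := (PrimeSpectrum.isOpen_iff O).mp hO
  have htop : Ideal.span (MvPolynomial.map (algebraMap (G i) A) '' J) = ⊤ := by
    by_contra hne
    obtain ⟨q, hq, hle⟩ := Ideal.exists_le_maximal _ hne
    have h1 : PrimeSpectrum.comap (MvPolynomial.map (algebraMap (G i) A)) ⟨q, hq.isPrime⟩ ∈ Oᶜ := by
      rw [hJ]
      exact fun x hx => hle (Ideal.subset_span ⟨x, hx, rfl⟩)
    exact h1 (hcov _)
  -- the relation `1 ∈ (J)` holds at some stage
  have key : ∀ x ∈ Ideal.span (MvPolynomial.map (algebraMap (G i) A) '' J),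
      ∃ (k : ι) (h : i ≤ k) (y : MvPolynomial σ (G k)), y ∈ Ideal.span (MvPolynomial.map (g i k h) '' J) ∧
        MvPolynomial.map (algebraMap (G k) A) y = x := by
    have hc' := hc
    obtain ⟨hdir, -, hrefl, hcomp, hcompat, hsurj, -⟩ := hc'
    have push : ∀ {k k' : ι} (h : i ≤ k) (h' : k ≤ k') (y : MvPolynomial σ (G k)),
        y ∈ Ideal.span (MvPolynomial.map (g i k h) '' J) →
        MvPolynomial.map (g k k' h') y ∈ Ideal.span (MvPolynomial.map (g i k' (h.trans h')) '' J) := by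
      intro k k' h h' y hy
      have := Ideal.mem_map_of_mem (MvPolynomial.map (g k k' h')) hy
      rw [Ideal.map_span, Set.image_image] at this
      simpa only [MvPolynomial.map_map, hcomp] using this
    intro x hx
    induction hx using Submodule.span_induction with
    | mem x hx =>
      obtain ⟨y, hy, rfl⟩ := hx
      refine ⟨i, le_rfl, y, Ideal.subset_span ⟨y, hy, ?_⟩, rfl⟩
      rw [hrefl]; exact MvPolynomial.map_id y
    | zero => exact ⟨i, le_rfl, 0, zero_mem _, map_zero _⟩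
    | add a b _ _ ha hb =>
      obtain ⟨k₁, h₁, y₁, hy₁, rfl⟩ := ha
      obtain ⟨k₂, h₂, y₂, hy₂, rfl⟩ := hb
      obtain ⟨k, hk₁, hk₂⟩ := hdir.directed k₁ k₂
      exact ⟨k, h₁.trans hk₁, MvPolynomial.map (g k₁ k hk₁) y₁ + MvPolynomial.map (g k₂ k hk₂) y₂,
        add_mem (push h₁ hk₁ y₁ hy₁) (push h₂ hk₂ y₂ hy₂),
        by rw [map_add, MvPolynomial.map_map, MvPolynomial.map_map, hcompat, hcompat]⟩
    | smul r x _ hx =>
      obtain ⟨k₁, h₁, y₁, hy₁, rfl⟩ := hx
      obtain ⟨k, hk, r', rfl⟩ := exists_poly_lift hc σ k₁ r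
      exact ⟨k, h₁.trans hk, r' * MvPolynomial.map (g k₁ k hk) y₁, Ideal.mul_mem_left _ _ (push h₁ hk y₁ hy₁),
        by rw [map_mul, MvPolynomial.map_map, hcompat, smul_eq_mul]⟩
  obtain ⟨k, h, y, hy, hy1⟩ := key 1 (by rw [htop]; exact Submodule.mem_top)
  obtain ⟨k', h', hk'⟩ := exists_poly_kill hc σ k (y - 1) (by rw [map_sub, hy1, map_one, sub_self])
  refine ⟨k', h.trans h', fun q => by_contra fun hq => ?_⟩
  have hq' : PrimeSpectrum.comap (MvPolynomial.map (g i k' (h.trans h'))) q ∈ Oᶜ := hq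
  rw [hJ] at hq'
  refine q.2.ne_top ((Ideal.eq_top_iff_one _).mpr ?_)
  rw [map_sub, map_one, sub_eq_zero] at hk'
  rw [← hk', ← Ideal.mem_comap]
  refine Ideal.span_le.mpr ?_ hy
  rintro _ ⟨x, hx, rfl⟩
  show MvPolynomial.map (g k k' h') (MvPolynomial.map (g i k h) x) ∈ q.asIdeal
  rw [MvPolynomial.map_map, hc.2.2.2.1]
  exact hq' hx

end Colimit

/-- an algebra map from a finitely presented algebra factors through a stage -/
theorem exists_algHom_stage {A₀ : Type u} [CommRing A₀] {ι : Type u} [Preorder ι] {G : ι → Type u}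
    [∀ i, CommRing (G i)] [∀ i, Algebra A₀ (G i)] (g : ∀ i j, i ≤ j → G i →ₐ[A₀] G j)
    {A : Type u} [CommRing A] [Algebra A₀ A] [∀ i, Algebra (G i) A] [∀ i, IsScalarTower A₀ (G i) A]
    (hc : FlatCA.IsDirectedColimitRing G (fun i j h => (g i j h).toRingHom) A)
    {R₂ : Type u} [CommRing R₂] [Algebra A₀ R₂] [Algebra.FinitePresentation A₀ R₂] (θ : R₂ →ₐ[A₀] A) :
    ∃ (i : ι) (θ' : R₂ →ₐ[A₀] G i), (algebraMap (G i) A).comp θ'.toRingHom = θ.toRingHom := by
  classical
  obtain ⟨n, π, hπ, hker⟩ := Algebra.FinitePresentation.out (R := A₀) (A := R₂)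
  have hc' := hc
  obtain ⟨hdir, hne, -, hcomp, hcompat, hsurj, -⟩ := hc'
  choose j b hb using fun s => hsurj (θ (π (MvPolynomial.X s)))
  haveI : IsDirectedOrder ι := hdir
  haveI : Nonempty ι := hne
  obtain ⟨i, hi⟩ := (Finset.univ.image j).exists_le
  have hji : ∀ s, j s ≤ i := fun s => hi _ (Finset.mem_image_of_mem j (Finset.mem_univ s))
  let v : Fin n → G i := fun s => g (j s) i (hji s) (b s)
  have hv : (IsScalarTower.toAlgHom A₀ (G i) A).comp (MvPolynomial.aeval v) = θ.comp π :=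
    MvPolynomial.algHom_ext fun s => by
      simp only [AlgHom.comp_apply, MvPolynomial.aeval_X, IsScalarTower.coe_toAlgHom', v]
      rw [← hb s, ← hcompat (j s) i (hji s)]
      rfl
  obtain ⟨S, hS⟩ := hker
  obtain ⟨k, hik, hk⟩ := exists_kill hc S i (fun r => MvPolynomial.aeval v r) fun r hr => by
    have := AlgHom.congr_fun hv r
    have h0 : π r = 0 := hS.le (Ideal.subset_span hr)
    simp only [AlgHom.comp_apply, IsScalarTower.coe_toAlgHom', h0, map_zero] at this
    exact this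
  let ψ : MvPolynomial (Fin n) A₀ →ₐ[A₀] G k := (g i k hik).comp (MvPolynomial.aeval v)
  have hle : RingHom.ker π ≤ RingHom.ker ψ := by
    intro x hx
    have hx' : x ∈ RingHom.ker π.toRingHom := hx
    rw [← hS] at hx'
    exact Ideal.span_le.mpr (fun r hr => show r ∈ RingHom.ker ψ from hk r hr) hx'
  refine ⟨k, AlgHom.liftOfSurjective π hπ ψ hle, RingHom.ext fun x => ?_⟩
  obtain ⟨p, rfl⟩ := hπ x
  show algebraMap (G k) A (AlgHom.liftOfSurjective π hπ ψ hle (π p)) = θ (π p)
  rw [AlgHom.liftOfSurjective_apply, ← AlgHom.comp_apply θ, ← hv]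
  exact RingHom.congr_fun (hcompat i k hik) _

/-- flatness at a prime is stable under base change of the coefficient algebra -/
theorem mem_flatLocus_of_comap {A₀ : Type u} [CommRing A₀] (σ : Type u) (M₀ : Type u) [AddCommGroup M₀]
    [Module A₀ M₀] [Module (MvPolynomial σ A₀) M₀] [IsScalarTower A₀ (MvPolynomial σ A₀) M₀]
    {R₁ R₂ : Type u} [CommRing R₁] [CommRing R₂] [Algebra A₀ R₁] [Algebra A₀ R₂] (φ : R₁ →ₐ[A₀] R₂)
    {q : PrimeSpectrum (MvPolynomial σ R₂)}
    (h : PrimeSpectrum.comap (MvPolynomial.map φ.toRingHom) q ∈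
      flatLocus R₁ (MvPolynomial σ R₁) (BC σ A₀ M₀ R₁)) :
    q ∈ flatLocus R₂ (MvPolynomial σ R₂) (BC σ A₀ M₀ R₂) := by
  letI := φ.toRingHom.toAlgebra
  haveI : IsScalarTower A₀ R₁ R₂ := IsScalarTower.of_algebraMap_eq fun r => (φ.commutes r).symm
  obtain ⟨ι, hι, hsmul⟩ := RichLib.FlatStage.exists_isBaseChange_bcMap' (A := A₀) σ M₀ R₁ R₂
  exact flat_localized_baseChange
    (PrimeSpectrum.comap (MvPolynomial.map φ.toRingHom) q).asIdeal.primeCompl
    (LocalizedModule.mkLinearMap _ _) q.asIdeal.primeCompl (LocalizedModule.mkLinearMap _ _)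
    (polyMap σ (IsScalarTower.toAlgHom A₀ R₁ R₂)).toRingHom (fun t ht hmem => ht hmem) ι hι hsmul h

/-- a module over a polynomial ring is flat over the coefficients iff it is so at all primes -/
theorem flat_iff_flatLocus_eq_univ {R S M : Type u} [CommRing R] [CommRing S] [Algebra R S] [AddCommGroup M]
    [Module S M] [Module R M] [IsScalarTower R S M] :
    Module.Flat R M ↔ ∀ q, q ∈ flatLocus R S M :=
  ⟨fun _ q => flat_localized q.asIdeal.primeCompl (LocalizedModule.mkLinearMap _ M), fun h =>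
    Module.flat_of_isLocalized_maximal (R := R) (S := S) M (fun P => LocalizedModule P.primeCompl M)
      (fun _ => LocalizedModule.mkLinearMap _ _) fun P hP => h ⟨P, hP.isPrime⟩⟩

theorem flat_iff_exists_stage {A₀ : Type u} [CommRing A₀]
    {ι : Type u} [Preorder ι] (G : ι → Type u) [∀ i, CommRing (G i)] [∀ i, Algebra A₀ (G i)]
    (g : ∀ i j, i ≤ j → G i →ₐ[A₀] G j)
    (A : Type u) [CommRing A] [Algebra A₀ A] [∀ i, Algebra (G i) A] [∀ i, IsScalarTower A₀ (G i) A]
    (hc : FlatCA.IsDirectedColimitRing G (fun i j h => (g i j h).toRingHom) A)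
    {B₀ : Type u} [CommRing B₀] [Algebra A₀ B₀] [Algebra.FinitePresentation A₀ B₀]
    (M₀ : Type u) [AddCommGroup M₀] [Module B₀ M₀] [Module A₀ M₀] [IsScalarTower A₀ B₀ M₀]
    [Module.FinitePresentation B₀ M₀] :
    Module.Flat A (A ⊗[A₀] M₀) ↔ ∃ i : ι, Module.Flat (G i) (G i ⊗[A₀] M₀) := by
  classical
  constructor
  swap
  · rintro ⟨i, hi⟩
    exact Module.Flat.of_linearEquiv (AlgebraTensorModule.cancelBaseChange A₀ (G i) A A M₀).symm
  intro hflat
  obtain ⟨σ, hσ, π, hπ, hker⟩ := Algebra.FinitePresentation.iff_quotient_mvPolynomial'.{_, _, u}.mp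
    (inferInstance : Algebra.FinitePresentation A₀ B₀)
  let P := MvPolynomial σ A₀
  letI : Algebra P B₀ := π.toRingHom.toAlgebra
  haveI : Module.FinitePresentation P B₀ :=
    Module.finitePresentation_of_surjective (Algebra.linearMap P B₀) hπ hker
  letI : Module P M₀ := Module.compHom M₀ π.toRingHom
  haveI : IsScalarTower P B₀ M₀ := IsScalarTower.of_algebraMap_smul fun _ _ => rfl
  haveI : IsScalarTower A₀ P M₀ := IsScalarTower.of_algebraMap_smul fun a m => by
    show π (algebraMap A₀ P a) • m = a • m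
    rw [π.commutes, algebraMap_smul]
  haveI : Module.FinitePresentation P M₀ := Module.FinitePresentation.trans P M₀ B₀
  have e : ∀ (R : Type u) [CommRing R] [Algebra A₀ R],
      R ⊗[A₀] M₀ ≃ₗ[R] BC σ A₀ M₀ R := fun R _ _ => (isBaseChange_inc σ A₀ M₀ R).equiv
  have hall := (flat_iff_flatLocus_eq_univ (R := A) (S := MvPolynomial σ A) (M := BC σ A₀ M₀ A)).mp
    (Module.Flat.of_linearEquiv (e A).symm)
  -- each prime is good at some stage
  have hstage : ∀ q : PrimeSpectrum (MvPolynomial σ A), ∃ i,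
      PrimeSpectrum.comap (MvPolynomial.map (algebraMap (G i) A)) q ∈
        flatLocus (G i) (MvPolynomial σ (G i)) (BC σ A₀ M₀ (G i)) := fun q => by
    obtain ⟨R₂, _, _, _, θ, hθ⟩ := RichLib.FlatStage.exists_fp_stage σ M₀ A q (hall q)
    obtain ⟨i, θ', hθ'⟩ := exists_algHom_stage g hc θ
    refine ⟨i, mem_flatLocus_of_comap σ M₀ θ' ?_⟩
    rw [← PrimeSpectrum.comap_comp_apply, map_comp']
    rw [hθ']
    exact hθ
  choose i hi using hstage
  obtain ⟨T, hT⟩ := isCompact_univ.elim_finite_subcover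
    (fun q => PrimeSpectrum.comap (MvPolynomial.map (algebraMap (G (i q)) A)) ⁻¹'
      flatLocus (G (i q)) (MvPolynomial σ (G (i q))) (BC σ A₀ M₀ (G (i q))))
    (fun q => (isOpen_flatLocus_fp).preimage (PrimeSpectrum.continuous_comap _))
    fun q _ => Set.mem_iUnion.mpr ⟨q, hi q⟩
  haveI : IsDirectedOrder ι := hc.1
  haveI : Nonempty ι := hc.2.1
  obtain ⟨j, hj⟩ := (T.image i).exists_le
  obtain ⟨k, hjk, hk⟩ := exists_preimage_eq_univ hc σ j
    (isOpen_flatLocus_fp : IsOpen (flatLocus (G j) (MvPolynomial σ (G j)) (BC σ A₀ M₀ (G j)))) fun q => by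
      obtain ⟨q', hq', hq⟩ := Set.mem_iUnion₂.mp (hT (Set.mem_univ q))
      refine mem_flatLocus_of_comap σ M₀ (g (i q') j (hj _ (Finset.mem_image_of_mem i hq'))) ?_
      rw [← PrimeSpectrum.comap_comp_apply, map_comp']
      erw [hc.2.2.2.2.1 (i q') j]
      exact hq
  refine ⟨k, ?_⟩
  haveI := flat_iff_flatLocus_eq_univ.mpr fun q => mem_flatLocus_of_comap σ M₀ (g j k hjk) (hk q)
  exact Module.Flat.of_linearEquiv (e (G k))

end RichLib.FlatColimit
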