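import Mathlib
import Groth.Agent.FlatLib.QStalk
import Groth.Agent.FlatLib.SectionsFP
import Groth.Agent.KFlatLib.AffinePull
import Groth.Agent.KFlatLib.QCohPull
import Groth.Agent.RichLib.FlatColimit
import Groth.Agent.RichLib.LimitBaseChange
import Groth.Agent.RichLib.LimitDescent

/-!
# Flatness of a module at a point descends along affine limits (EGA IV 11.2.6, module case, affine charts)
-/

set_option autoImplicit false
universe u

open CategoryTheory CategoryTheory.Limits AlgebraicGeometry TensorProduct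

attribute [local instance] MvPolynomial.algebraMvPolynomial

noncomputable section

namespace RichLib.ModFlat

open FlatLib

/-- a base change of a module over an algebra is a base change over a polynomial ring -/
theorem mem_flatLocus_chart {A₀ B₀ : Type u} [CommRing A₀] [CommRing B₀] [Algebra A₀ B₀] (σ : Type u)
    (π : MvPolynomial σ A₀ →ₐ[A₀] B₀) (hπ : Function.Surjective π)
    (M₀ : Type u) [AddCommGroup M₀] [Module B₀ M₀] [Module A₀ M₀] [IsScalarTower A₀ B₀ M₀]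
    [Module (MvPolynomial σ A₀) M₀] [IsScalarTower A₀ (MvPolynomial σ A₀) M₀]
    (hPM : ∀ (p : MvPolynomial σ A₀) (m : M₀), p • m = π p • m)
    {A' B' : Type u} [CommRing A'] [CommRing B'] [Algebra A₀ A'] [Algebra A₀ B'] [Algebra B₀ B']
    [Algebra A' B'] [IsScalarTower A₀ A' B'] [IsScalarTower A₀ B₀ B'] [Algebra.IsPushout A₀ A' B₀ B']
    {M' : Type u} [AddCommGroup M'] [Module B' M'] [Module B₀ M'] [IsScalarTower B₀ B' M']
    [Module A' M'] [IsScalarTower A' B' M'] (ι : M₀ →ₗ[B₀] M') (hι : IsBaseChange B' ι)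
    (Φ : MvPolynomial σ A' →+* B') (hC : ∀ a, Φ (MvPolynomial.C a) = algebraMap A' B' a)
    (hX : ∀ s, Φ (MvPolynomial.X s) = algebraMap B₀ B' (π (MvPolynomial.X s)))
    (q : PrimeSpectrum B') :
    q ∈ flatLocus A' B' M' ↔ PrimeSpectrum.comap Φ q ∈ flatLocus A' (MvPolynomial σ A') (BC σ A₀ M₀ A') := by
  letI : Algebra (MvPolynomial σ A') B' := Φ.toAlgebra
  letI : Module (MvPolynomial σ A') M' := Module.compHom M' Φ
  haveI : IsScalarTower (MvPolynomial σ A') B' M' := IsScalarTower.of_algebraMap_smul fun _ _ => rfl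
  haveI : IsScalarTower A' (MvPolynomial σ A') B' := IsScalarTower.of_algebraMap_eq fun a => (hC a).symm
  haveI : IsScalarTower A' (MvPolynomial σ A') M' := IsScalarTower.of_algebraMap_smul fun a m => by
    show Φ (MvPolynomial.C a) • m = a • m
    rw [hC, algebraMap_smul]
  have hΦπ : ∀ p : MvPolynomial σ A₀, Φ (MvPolynomial.map (algebraMap A₀ A') p) = algebraMap B₀ B' (π p) :=
    RingHom.congr_fun (MvPolynomial.ringHom_ext (f := Φ.comp (MvPolynomial.map (algebraMap A₀ A')))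
      (g := (algebraMap B₀ B').comp π.toRingHom) (fun a => by
        show Φ (MvPolynomial.map _ (MvPolynomial.C a)) = algebraMap B₀ B' (π (MvPolynomial.C a))
        rw [MvPolynomial.map_C, hC, ← MvPolynomial.algebraMap_eq, π.commutes,
          ← IsScalarTower.algebraMap_apply, ← IsScalarTower.algebraMap_apply]) fun s => by
        show Φ (MvPolynomial.map _ (MvPolynomial.X s)) = _
        rw [MvPolynomial.map_X, hX]; rfl)
  have hsurj : Function.Surjective Φ := fun b => by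
    obtain ⟨z, rfl⟩ := (Algebra.IsPushout.equiv A₀ A' B₀ B').surjective b
    induction z using TensorProduct.induction_on with
    | zero => exact ⟨0, by simp⟩
    | add x y hx hy =>
      obtain ⟨x', hx'⟩ := hx; obtain ⟨y', hy'⟩ := hy
      exact ⟨x' + y', by rw [map_add, hx', hy', map_add]⟩
    | tmul a c =>
      obtain ⟨p, rfl⟩ := hπ c
      refine ⟨MvPolynomial.C a * MvPolynomial.map (algebraMap A₀ A') p, ?_⟩
      rw [map_mul, hC, hΦπ, Algebra.IsPushout.equiv_tmul]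
  letI : Module (MvPolynomial σ A₀) M' := Module.compHom M' (Φ.comp (MvPolynomial.map (algebraMap A₀ A')))
  haveI : IsScalarTower (MvPolynomial σ A₀) (MvPolynomial σ A') M' :=
    IsScalarTower.of_algebraMap_smul fun _ _ => rfl
  let ιP : M₀ →ₗ[MvPolynomial σ A₀] M' :=
    { toFun := ι, map_add' := map_add ι
      map_smul' := fun p m => by
        rw [hPM, map_smul, RingHom.id_apply]
        show π p • ι m = Φ (MvPolynomial.map (algebraMap A₀ A') p) • ι m
        rw [hΦπ, algebraMap_smul] }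
  let Ψ : BC σ A₀ M₀ A' →ₗ[MvPolynomial σ A'] M' := LinearMap.liftBaseChange (MvPolynomial σ A') ιP
  let e : A' ⊗[A₀] M₀ ≃ₗ[A'] M' :=
    (Algebra.IsPushout.cancelBaseChange A₀ A' B₀ B' M₀).symm ≪≫ₗ hι.equiv.restrictScalars A'
  have hcomp : ((isBaseChange_inc σ A₀ M₀ A').equiv.symm ≪≫ₗ e).toLinearMap = Ψ.restrictScalars A' :=
    (isBaseChange_inc σ A₀ M₀ A').algHom_ext _ _ fun m => by
      have h1 : (isBaseChange_inc σ A₀ M₀ A').equiv.symm (inc σ A₀ M₀ A' m) = 1 ⊗ₜ m :=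
        (isBaseChange_inc σ A₀ M₀ A').equiv_symm_apply m
      show hι.equiv ((Algebra.IsPushout.cancelBaseChange A₀ A' B₀ B' M₀).symm
        ((isBaseChange_inc σ A₀ M₀ A').equiv.symm (inc σ A₀ M₀ A' m))) = Ψ (inc σ A₀ M₀ A' m)
      rw [h1]
      simp [Ψ, ιP, inc, IsBaseChange.equiv_tmul]
  have hbij : Function.Bijective Ψ := by
    rw [← LinearMap.coe_restrictScalars A', ← hcomp]
    exact LinearEquiv.bijective _
  rw [flatLocus_comap (R := A') (P := MvPolynomial σ A') (S := B') (M := M') hsurj,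
    flatLocus_congr (LinearEquiv.ofBijective Ψ hbij)]
  rfl

/-- the polynomial chart of a base change -/
def chart {σ : Type u} {W S T : Scheme.{u}} (g : W ⟶ S) (t : T ⟶ S) (w : σ → Γ(W, ⊤)) :
    MvPolynomial σ Γ(T, ⊤) →+* Γ(pullback g t, ⊤) :=
  MvPolynomial.eval₂Hom (pullback.snd g t).appTop.hom fun s => (pullback.fst g t).appTop (w s)

theorem isFlatOverAt_chart_iff {W S T : Scheme.{u}} [IsAffine W] [IsAffine S] [IsAffine T] (g : W ⟶ S)
    (t : T ⟶ S) (G : W.Modules) [Coh.IsQCoh G] [Algebra Γ(S, ⊤) Γ(W, ⊤)] [Algebra Γ(S, ⊤) Γ(T, ⊤)]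
    (hg : algebraMap Γ(S, ⊤) Γ(W, ⊤) = g.appTop.hom) (ht : algebraMap Γ(S, ⊤) Γ(T, ⊤) = t.appTop.hom)
    (σ : Type u) (π : MvPolynomial σ Γ(S, ⊤) →ₐ[Γ(S, ⊤)] Γ(W, ⊤)) (hπ : Function.Surjective π)
    [Module Γ(S, ⊤) Γ(G, ⊤)] [IsScalarTower Γ(S, ⊤) Γ(W, ⊤) Γ(G, ⊤)]
    [Module (MvPolynomial σ Γ(S, ⊤)) Γ(G, ⊤)] [IsScalarTower Γ(S, ⊤) (MvPolynomial σ Γ(S, ⊤)) Γ(G, ⊤)]
    (hPM : ∀ (p : MvPolynomial σ Γ(S, ⊤)) (m : Γ(G, ⊤)), p • m = π p • m) (x : ↥(pullback g t)) :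
    FlatMod.IsFlatOverAt (pullback.snd g t) ((Scheme.Modules.pullback (pullback.fst g t)).obj G) x ↔
      PrimeSpectrum.comap (chart g t fun s => π (MvPolynomial.X s))
        ((isAffineOpen_top (pullback g t)).primeIdealOf ⟨x, trivial⟩) ∈
          flatLocus Γ(T, ⊤) (MvPolynomial σ Γ(T, ⊤)) (BC σ Γ(S, ⊤) Γ(G, ⊤) Γ(T, ⊤)) := by
  let M := KFlatLib.pb (pullback.fst g t) G
  haveI : Coh.IsQCoh M := KFlatLib.isQCoh_pullback (pullback.fst g t) G
  letI : Algebra Γ(T, ⊤) Γ(pullback g t, ⊤) := (pullback.snd g t).appTop.hom.toAlgebra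
  letI : Algebra Γ(W, ⊤) Γ(pullback g t, ⊤) := (pullback.fst g t).appTop.hom.toAlgebra
  letI : Algebra Γ(S, ⊤) Γ(pullback g t, ⊤) :=
    ((pullback.fst g t).appTop.hom.comp (algebraMap Γ(S, ⊤) Γ(W, ⊤))).toAlgebra
  haveI : IsScalarTower Γ(S, ⊤) Γ(W, ⊤) Γ(pullback g t, ⊤) := IsScalarTower.of_algebraMap_eq fun _ => rfl
  haveI : IsScalarTower Γ(S, ⊤) Γ(T, ⊤) Γ(pullback g t, ⊤) := IsScalarTower.of_algebraMap_eq fun s => by
    show (pullback.fst g t).appTop (algebraMap Γ(S, ⊤) Γ(W, ⊤) s) =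
      (pullback.snd g t).appTop (algebraMap Γ(S, ⊤) Γ(T, ⊤) s)
    rw [hg, ht]
    exact congrArg (fun h : pullback g t ⟶ S => h.appTop s) pullback.condition
  haveI : Algebra.IsPushout Γ(S, ⊤) Γ(T, ⊤) Γ(W, ⊤) Γ(pullback g t, ⊤) := by
    have h := isPushout_appTop_of_isPullback (IsPullback.of_hasPullback g t).flip
    refine CommRingCat.isPushout_iff_isPushout.mp ?_
    rw [hg, ht]
    exact h
  letI : Module Γ(W, ⊤) Γ(M, ⊤) := Module.compHom Γ(M, ⊤) (pullback.fst g t).appTop.hom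
  haveI : IsScalarTower Γ(W, ⊤) Γ(pullback g t, ⊤) Γ(M, ⊤) := IsScalarTower.of_algebraMap_smul fun _ _ => rfl
  letI : Module Γ(T, ⊤) Γ(M, ⊤) := Module.compHom Γ(M, ⊤) (pullback.snd g t).appTop.hom
  haveI : IsScalarTower Γ(T, ⊤) Γ(pullback g t, ⊤) Γ(M, ⊤) := IsScalarTower.of_algebraMap_smul fun _ _ => rfl
  have hle : (⊤ : (pullback g t).Opens) ≤ (pullback.fst g t) ⁻¹ᵁ ⊤ := le_top
  let ψ : Γ(G, ⊤) →ₗ[Γ(W, ⊤)] Γ(M, ⊤) :=
    { toFun := KFlatLib.puSecLE (pullback.fst g t) G hle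
      map_add' := map_add _
      map_smul' := fun r m => by
        rw [KFlatLib.puSecLE_smul, RingHom.id_apply]
        show _ = (pullback.fst g t).appTop r • (KFlatLib.puSecLE (pullback.fst g t) G hle m : Γ(M, ⊤))
        simp [Scheme.Hom.appLE, M] }
  have hψ : IsBaseChange Γ(pullback g t, ⊤) ψ :=
    KFlatLib.isBaseChange_puSec (pullback.fst g t) G (isAffineOpen_top W) (isAffineOpen_top _) hle
      (fun r => by simp [Scheme.Hom.appLE, RingHom.algebraMap_toAlgebra]) ψ fun _ => rfl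
  refine (FlatLib.isFlatOverAt_iff (pullback.snd g t) M ⊤ (isAffineOpen_top T) ⊤ (isAffineOpen_top _) le_top
    trivial (by simp [Scheme.Hom.appLE, RingHom.algebraMap_toAlgebra])).trans ?_
  exact mem_flatLocus_chart σ π hπ Γ(G, ⊤) hPM ψ hψ _ (fun a => MvPolynomial.eval₂Hom_C _ _ a)
    (fun s => MvPolynomial.eval₂Hom_X' _ _ s) _

theorem isoSpec_inv_appTop (X : Scheme.{u}) [IsAffine X] :
    X.isoSpec.inv.appTop = (Scheme.ΓSpecIso Γ(X, ⊤)).inv := by
  have h := congrArg Scheme.Hom.appTop X.isoSpec.inv_hom_id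
  rw [Scheme.Hom.comp_appTop, Scheme.isoSpec_hom, Scheme.toSpecΓ_appTop, Scheme.Hom.id_appTop] at h
  exact (Iso.inv_ext h).symm

theorem specMap_isoSpec_inv_appTop (X : Scheme.{u}) [IsAffine X] {R : CommRingCat.{u}} (φ : Γ(X, ⊤) ⟶ R) :
    (Spec.map φ ≫ X.isoSpec.inv).appTop = φ ≫ (Scheme.ΓSpecIso R).inv := by
  rw [Scheme.Hom.comp_appTop, isoSpec_inv_appTop, Scheme.ΓSpecIso_inv_naturality]

variable {I : Type u} [SmallCategory I] [IsCofiltered I] {S : Scheme.{u}} (A : RichLib.LimBC.Sys I S)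
  {W : Scheme.{u}} (g : W ⟶ S)

open RichLib.LimBC in
/-- flatness of a module at a point of the limit holds at some stage -/
theorem exists_isFlatOverAt_stage [IsAffine S] [IsAffine W] [LocallyOfFinitePresentation g]
    (G : W.Modules) [Coh.IsQCoh G] (hfp : Module.FinitePresentation Γ(W, ⊤) Γ(G, ⊤))
    (x : ↥(pullback g A.s))
    (h : FlatMod.IsFlatOverAt (pullback.snd g A.s) ((Scheme.Modules.pullback (pullback.fst g A.s)).obj G) x) :
    ∃ i, FlatMod.IsFlatOverAt (pullback.snd g (A.t i))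
      ((Scheme.Modules.pullback (pullback.fst g (A.t i))).obj G) ((pbπ A g i).base x) := by
  haveI : IsAffineHom A.s := A.affine_s
  haveI : IsAffine A.c.pt := isAffine_of_isAffineHom A.s
  have hgfp : g.appTop.hom.FinitePresentation :=
    (HasRingHomProperty.iff_of_isAffine (P := @LocallyOfFinitePresentation)).mp ‹_›
  algebraize [g.appTop.hom, A.s.appTop.hom]
  obtain ⟨σ, hσ, π, hπ, hker⟩ := Algebra.FinitePresentation.iff_quotient_mvPolynomial'.{_, _, u}.mp
    (inferInstance : Algebra.FinitePresentation Γ(S, ⊤) Γ(W, ⊤))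
  haveI : Finite σ := Finite.of_fintype σ
  letI : Algebra (MvPolynomial σ Γ(S, ⊤)) Γ(W, ⊤) := π.toRingHom.toAlgebra
  haveI : Module.FinitePresentation (MvPolynomial σ Γ(S, ⊤)) Γ(W, ⊤) :=
    Module.finitePresentation_of_surjective (Algebra.linearMap (MvPolynomial σ Γ(S, ⊤)) Γ(W, ⊤)) hπ hker
  letI : Module (MvPolynomial σ Γ(S, ⊤)) Γ(G, ⊤) := Module.compHom Γ(G, ⊤) π.toRingHom
  haveI : IsScalarTower (MvPolynomial σ Γ(S, ⊤)) Γ(W, ⊤) Γ(G, ⊤) := IsScalarTower.of_algebraMap_smul fun _ _ => rfl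
  letI : Module Γ(S, ⊤) Γ(G, ⊤) := Module.compHom Γ(G, ⊤) g.appTop.hom
  haveI : IsScalarTower Γ(S, ⊤) Γ(W, ⊤) Γ(G, ⊤) := IsScalarTower.of_algebraMap_smul fun _ _ => rfl
  haveI : IsScalarTower Γ(S, ⊤) (MvPolynomial σ Γ(S, ⊤)) Γ(G, ⊤) := IsScalarTower.of_algebraMap_smul fun a m => by
    show π (algebraMap Γ(S, ⊤) _ a) • m = a • m
    rw [π.commutes, algebraMap_smul]
  haveI : Module.FinitePresentation (MvPolynomial σ Γ(S, ⊤)) Γ(G, ⊤) :=
    Module.FinitePresentation.trans (MvPolynomial σ Γ(S, ⊤)) Γ(G, ⊤) Γ(W, ⊤)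
  have hs : RingHom.comp A.s.appTop.hom (RingHom.id _) = algebraMap Γ(S, ⊤) Γ(A.c.pt, ⊤) := rfl
  have hq := (isFlatOverAt_chart_iff g A.s G rfl rfl σ π hπ (fun _ _ => rfl) x).mp h
  obtain ⟨R₂, _, _, _, θ, hθ⟩ := RichLib.FlatStage.exists_fp_stage σ Γ(G, ⊤) Γ(A.c.pt, ⊤) _ hq
  let t₂ : Spec (CommRingCat.of R₂) ⟶ S :=
    Spec.map (CommRingCat.ofHom (algebraMap Γ(S, ⊤) R₂)) ≫ S.isoSpec.inv
  haveI : LocallyOfFinitePresentation t₂ := by
    haveI : LocallyOfFinitePresentation (Spec.map (CommRingCat.ofHom (algebraMap Γ(S, ⊤) R₂))) :=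
      (HasRingHomProperty.Spec_iff (P := @LocallyOfFinitePresentation)).mpr
        (RingHom.finitePresentation_algebraMap.mpr inferInstance)
    exact MorphismProperty.comp_mem _ _ _ this inferInstance
  let β : A.c.pt ⟶ Spec (CommRingCat.of R₂) := A.c.pt.isoSpec.hom ≫ Spec.map (CommRingCat.ofHom θ.toRingHom)
  have hβ : β ≫ t₂ = A.s := by
    have e1 : Spec.map (CommRingCat.ofHom θ.toRingHom) ≫
        Spec.map (CommRingCat.ofHom (algebraMap Γ(S, ⊤) R₂)) =
        Spec.map (CommRingCat.ofHom (algebraMap Γ(S, ⊤) Γ(A.c.pt, ⊤))) := by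
      rw [← Spec.map_comp, ← CommRingCat.ofHom_comp]
      congr 2
      exact θ.comp_algebraMap
    show (A.c.pt.isoSpec.hom ≫ _) ≫ _ ≫ _ = _
    rw [Category.assoc, reassoc_of% e1]
    exact Scheme.isoSpec_hom_naturality_assoc A.s _ ▸ by simp
  haveI : ∀ {i j : I} (a : i ⟶ j), IsAffineHom (A.D.map a) := fun a => A.affine_map a
  haveI := A.compactSpace_obj
  haveI := A.quasiSeparatedSpace_obj
  obtain ⟨i, b, hb, hbt⟩ := Scheme.exists_π_app_comp_eq_of_locallyOfFinitePresentation A.D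
    { app := fun i => A.t i, naturality := fun i j a => (A.w a).trans (Category.comp_id _).symm }
    t₂ A.c A.hc β (by ext i; exact (A.hs i).trans hβ.symm)
  obtain ⟨b, hb, hbt⟩ : ∃ b : A.D.obj i ⟶ Spec (CommRingCat.of R₂), A.c.π.app i ≫ b = β ∧ b ≫ t₂ = A.t i :=
    ⟨b, hb, hbt⟩
  haveI : IsAffineHom (A.t i) := A.affine i
  haveI : IsAffine (A.D.obj i) := isAffine_of_isAffineHom (A.t i)
  letI : Algebra Γ(S, ⊤) Γ(A.D.obj i, ⊤) := (A.t i).appTop.hom.toAlgebra
  have hbR : ∀ r, b.appTop ((Scheme.ΓSpecIso (CommRingCat.of R₂)).inv (algebraMap Γ(S, ⊤) R₂ r)) =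
      algebraMap Γ(S, ⊤) Γ(A.D.obj i, ⊤) r := fun r => by
    show _ = (A.t i).appTop r
    rw [← hbt, Scheme.Hom.comp_appTop, specMap_isoSpec_inv_appTop]
    rfl
  let φ : R₂ →ₐ[Γ(S, ⊤)] Γ(A.D.obj i, ⊤) :=
    { b.appTop.hom.comp (Scheme.ΓSpecIso (CommRingCat.of R₂)).inv.hom with commutes' := hbR }
  have hφ : (A.c.π.app i).appTop.hom.comp φ.toRingHom = θ.toRingHom := RingHom.ext fun r => by
    show (A.c.π.app i).appTop (b.appTop ((Scheme.ΓSpecIso (CommRingCat.of R₂)).inv r)) = θ r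
    rw [← CommRingCat.comp_apply, ← Scheme.Hom.comp_appTop, hb, Scheme.Hom.comp_appTop,
      Scheme.isoSpec_hom, Scheme.toSpecΓ_appTop]
    show ((Scheme.ΓSpecIso (CommRingCat.of R₂)).inv ≫ (Spec.map (CommRingCat.ofHom θ.toRingHom)).appTop ≫
      (Scheme.ΓSpecIso Γ(A.c.pt, ⊤)).hom) r = θ r
    rw [← Category.assoc, ← Scheme.ΓSpecIso_inv_naturality, Category.assoc]
    erw [Iso.inv_hom_id, Category.comp_id]
    rfl
  refine ⟨i, (isFlatOverAt_chart_iff g (A.t i) G rfl rfl σ π hπ (fun _ _ => rfl) _).mpr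
    (RichLib.FlatColimit.mem_flatLocus_of_comap σ Γ(G, ⊤) φ ?_)⟩
  convert hθ using 1
  rw [← IsAffineOpen.comap_primeIdealOf_appLE ⊤ (isAffineOpen_top (pullback g (A.t i))) ⊤
    (isAffineOpen_top (pullback g A.s)) (f := pbπ A g i) le_top trivial,
    ← PrimeSpectrum.comap_comp_apply, ← PrimeSpectrum.comap_comp_apply, ← PrimeSpectrum.comap_comp_apply]
  refine congrArg (fun ψ : MvPolynomial σ R₂ →+* Γ(pullback g A.s, ⊤) => PrimeSpectrum.comap ψ _) ?_
  have happ : ((pbπ A g i).appLE ⊤ ⊤ le_top) = (pbπ A g i).appTop := by simp [Scheme.Hom.appLE]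
  rw [happ]
  refine MvPolynomial.ringHom_ext (fun r => ?_) fun s => ?_
  · show (pbπ A g i).appTop (chart g (A.t i) _ (MvPolynomial.map φ.toRingHom (MvPolynomial.C r))) =
      chart g A.s _ (MvPolynomial.map θ.toRingHom (MvPolynomial.C r))
    rw [MvPolynomial.map_C, MvPolynomial.map_C, chart, chart, MvPolynomial.eval₂Hom_C, MvPolynomial.eval₂Hom_C,
      ← hφ]
    exact congrArg (fun h : pullback g A.s ⟶ A.D.obj i => h.appTop (φ r)) (pbπ_snd A g i)
  · show (pbπ A g i).appTop (chart g (A.t i) _ (MvPolynomial.map φ.toRingHom (MvPolynomial.X s))) =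
      chart g A.s _ (MvPolynomial.map θ.toRingHom (MvPolynomial.X s))
    rw [MvPolynomial.map_X, MvPolynomial.map_X, chart, chart, MvPolynomial.eval₂Hom_X', MvPolynomial.eval₂Hom_X']
    exact congrArg (fun h : pullback g A.s ⟶ W => h.appTop (π (MvPolynomial.X s))) (pbπ_fst A g i)

end RichLib.ModFlat

namespace RichLib.ModFlat

open FlatLib RichLib.LimBC

variable {I : Type u} [SmallCategory I] [IsCofiltered I] {S : Scheme.{u}} (A : RichLib.LimBC.Sys I S)
  {W : Scheme.{u}} (g : W ⟶ S)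

/-- flatness of a module at a point is inherited from any stage -/
theorem isFlatOverAt_of_stage [IsAffine S] [IsAffine W] [LocallyOfFiniteType g]
    (G : W.Modules) [Coh.IsQCoh G] (x : ↥(pullback g A.s)) (i : I)
    (h : FlatMod.IsFlatOverAt (pullback.snd g (A.t i))
      ((Scheme.Modules.pullback (pullback.fst g (A.t i))).obj G) ((pbπ A g i).base x)) :
    FlatMod.IsFlatOverAt (pullback.snd g A.s) ((Scheme.Modules.pullback (pullback.fst g A.s)).obj G) x := by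
  haveI : IsAffineHom A.s := A.affine_s
  haveI : IsAffine A.c.pt := isAffine_of_isAffineHom A.s
  haveI : IsAffineHom (A.t i) := A.affine i
  haveI : IsAffine (A.D.obj i) := isAffine_of_isAffineHom (A.t i)
  have hgft : g.appTop.hom.FiniteType :=
    (HasRingHomProperty.iff_of_isAffine (P := @LocallyOfFiniteType)).mp ‹_›
  algebraize [g.appTop.hom, A.s.appTop.hom, (A.t i).appTop.hom]
  obtain ⟨σ, hσ, π, hπ⟩ := Algebra.FiniteType.iff_quotient_mvPolynomial'.mp
    (inferInstance : Algebra.FiniteType Γ(S, ⊤) Γ(W, ⊤))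
  letI : Module (MvPolynomial σ Γ(S, ⊤)) Γ(G, ⊤) := Module.compHom Γ(G, ⊤) π.toRingHom
  letI : Module Γ(S, ⊤) Γ(G, ⊤) := Module.compHom Γ(G, ⊤) g.appTop.hom
  haveI : IsScalarTower Γ(S, ⊤) Γ(W, ⊤) Γ(G, ⊤) := IsScalarTower.of_algebraMap_smul fun _ _ => rfl
  haveI : IsScalarTower Γ(S, ⊤) (MvPolynomial σ Γ(S, ⊤)) Γ(G, ⊤) := IsScalarTower.of_algebraMap_smul fun a m => by
    show π (algebraMap Γ(S, ⊤) _ a) • m = a • m
    rw [π.commutes, algebraMap_smul]
  let φ : Γ(A.D.obj i, ⊤) →ₐ[Γ(S, ⊤)] Γ(A.c.pt, ⊤) :=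
    { (A.c.π.app i).appTop.hom with
      commutes' := fun r => by
        show (A.c.π.app i).appTop ((A.t i).appTop r) = A.s.appTop r
        exact congrArg (fun h : A.c.pt ⟶ S => h.appTop r) (A.hs i) }
  refine (isFlatOverAt_chart_iff g A.s G rfl rfl σ π hπ (fun _ _ => rfl) x).mpr
    (RichLib.FlatColimit.mem_flatLocus_of_comap σ Γ(G, ⊤) φ ?_)
  have h' := (isFlatOverAt_chart_iff g (A.t i) G rfl rfl σ π hπ (fun _ _ => rfl) _).mp h
  convert h' using 1
  rw [← IsAffineOpen.comap_primeIdealOf_appLE ⊤ (isAffineOpen_top (pullback g (A.t i))) ⊤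
    (isAffineOpen_top (pullback g A.s)) (f := pbπ A g i) le_top trivial,
    ← PrimeSpectrum.comap_comp_apply, ← PrimeSpectrum.comap_comp_apply]
  refine congrArg (fun ψ : MvPolynomial σ Γ(A.D.obj i, ⊤) →+* Γ(pullback g A.s, ⊤) => PrimeSpectrum.comap ψ _) ?_
  have happ : ((pbπ A g i).appLE ⊤ ⊤ le_top) = (pbπ A g i).appTop := by simp [Scheme.Hom.appLE]
  rw [happ]
  refine MvPolynomial.ringHom_ext (fun r => ?_) fun s => ?_
  · show chart g A.s _ (MvPolynomial.map φ.toRingHom (MvPolynomial.C r)) =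
      (pbπ A g i).appTop (chart g (A.t i) _ (MvPolynomial.C r))
    rw [MvPolynomial.map_C, chart, chart, MvPolynomial.eval₂Hom_C, MvPolynomial.eval₂Hom_C]
    exact (congrArg (fun h : pullback g A.s ⟶ A.D.obj i => h.appTop r) (pbπ_snd A g i)).symm
  · show chart g A.s _ (MvPolynomial.map φ.toRingHom (MvPolynomial.X s)) =
      (pbπ A g i).appTop (chart g (A.t i) _ (MvPolynomial.X s))
    rw [MvPolynomial.map_X, chart, chart, MvPolynomial.eval₂Hom_X', MvPolynomial.eval₂Hom_X']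
    exact (congrArg (fun h : pullback g A.s ⟶ W => h.appTop (π (MvPolynomial.X s))) (pbπ_fst A g i)).symm

end RichLib.ModFlat
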