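import Mathlib
import Groth.Agent.FlatLib.OpenFP
import Groth.Agent.FlatLib.QStalk
import Groth.Agent.FlatLib.SectionsFP

/-!
# Openness of flat loci of modules and of flatness over all generizations
-/

set_option autoImplicit false
universe u

open CategoryTheory AlgebraicGeometry TopologicalSpace FlatLib

noncomputable section

namespace RichLib.FlatLoci

/-- the primes all whose lifts of generizations lie in an open set form an open set -/
theorem exists_notMem_forall_mem {B C : Type u} [CommRing B] [CommRing C] (φ : B →+* C)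
    {O : Set (PrimeSpectrum C)} (hO : IsOpen O) (q : PrimeSpectrum B)
    (hq : ∀ r : PrimeSpectrum C, PrimeSpectrum.comap φ r ≤ q → r ∈ O) :
    ∃ b : B, b ∉ q.asIdeal ∧ ∀ r : PrimeSpectrum C, φ b ∉ r.asIdeal → r ∈ O := by
  obtain ⟨J, hJ⟩ := (PrimeSpectrum.isOpen_iff O).mp hO
  let J' : Ideal C := Ideal.span J
  by_contra hne
  push Not at hne
  have hdisj : Disjoint (J' : Set C) (q.asIdeal.primeCompl.map φ : Set C) := by
    rw [Set.disjoint_left]
    rintro _ hbJ ⟨b, hb, rfl⟩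
    obtain ⟨r, hr, hrO⟩ := hne b hb
    refine hr ?_
    have : r ∈ PrimeSpectrum.zeroLocus J := by
      rw [← hJ]; exact hrO
    exact Ideal.span_le.mpr this hbJ
  obtain ⟨r, hrp, hJr, hrd⟩ := Ideal.exists_le_prime_disjoint J' _ hdisj
  have hr : (⟨r, hrp⟩ : PrimeSpectrum C) ∈ O := hq ⟨r, hrp⟩ fun b hb => by
    by_contra hbq
    exact Set.disjoint_left.mp hrd hb ⟨b, hbq, rfl⟩
  have : (⟨r, hrp⟩ : PrimeSpectrum C) ∈ Oᶜ := by
    rw [hJ]
    exact fun x hx => hJr (Ideal.subset_span hx)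
  exact this hr

theorem mem_basicOpen_iff_primeIdealOf {Y : Scheme.{u}} {U : Y.Opens} (hU : IsAffineOpen U) (b : Γ(Y, U))
    (y : U) : (y : Y) ∈ Y.basicOpen b ↔ b ∉ (hU.primeIdealOf y).asIdeal := by
  have h : hU.primeIdealOf y ∈ hU.fromSpec ⁻¹ᵁ Y.basicOpen b ↔
      hU.primeIdealOf y ∈ PrimeSpectrum.basicOpen b := by rw [hU.fromSpec_preimage_basicOpen b]; rfl
  change hU.fromSpec (hU.primeIdealOf y) ∈ Y.basicOpen b ↔ _ at h
  rw [hU.fromSpec_primeIdealOf] at h
  exact h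

/-- the points all whose generizations have preimages in an open set form an open set -/
theorem isOpen_forall_generization {X Y : Scheme.{u}} (f : X ⟶ Y) [QuasiCompact f] (O : X.Opens) :
    IsOpen {y : Y | ∀ y' : Y, y' ⤳ y → ∀ x : X, f x = y' → x ∈ O} := by
  classical
  refine isOpen_iff_forall_mem_open.mpr fun y hy => ?_
  obtain ⟨U, hU, hyU⟩ : ∃ U : Y.Opens, IsAffineOpen U ∧ y ∈ U := by
    obtain ⟨_, ⟨U, hU, rfl⟩, hyU, -⟩ :=
      Y.isBasis_affineOpens.exists_subset_of_mem_open (Set.mem_univ y) isOpen_univ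
    exact ⟨U, hU, hyU⟩
  have hW : IsCompact ((f ⁻¹ᵁ U : X.Opens) : Set X) := QuasiCompact.isCompact_preimage _ U.2 hU.isCompact
  have hV0 : ∀ x : ↥(f ⁻¹ᵁ U), ∃ V : X.Opens, IsAffineOpen V ∧ x.1 ∈ V ∧ V ≤ f ⁻¹ᵁ U := fun x => by
    obtain ⟨_, ⟨V, hV, rfl⟩, hxV, hVU⟩ :=
      X.isBasis_affineOpens.exists_subset_of_mem_open x.2 (f ⁻¹ᵁ U).2
    exact ⟨V, hV, hxV, hVU⟩
  choose V hV hxV hVU using hV0
  obtain ⟨T, hT⟩ := hW.elim_finite_subcover (fun x => (V x : Set X)) (fun x => (V x).2)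
    fun x hx => Set.mem_iUnion.mpr ⟨⟨x, hx⟩, hxV ⟨x, hx⟩⟩
  have hb : ∀ k, ∃ b : Γ(Y, U), y ∈ Y.basicOpen b ∧ ∀ x ∈ V k, f x ∈ Y.basicOpen b → x ∈ O := by
    intro k
    let φ := (f.appLE U (V k) (hVU k)).hom
    obtain ⟨b, hb, hbO⟩ := exists_notMem_forall_mem φ ((O.2).preimage (hV k).fromSpec.continuous)
      (hU.primeIdealOf ⟨y, hyU⟩) fun r hr => by
        refine hy (f ((hV k).fromSpec r)) ?_ _ rfl
        have h1 : f ((hV k).fromSpec r) = hU.fromSpec (PrimeSpectrum.comap φ r) := by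
          rw [← Scheme.Hom.comp_apply, ← hU.SpecMap_appLE_fromSpec f (hV k) (hVU k), Scheme.Hom.comp_apply]
          rfl
        rw [h1]
        refine Eq.subst (motive := fun z => hU.fromSpec (PrimeSpectrum.comap φ r) ⤳ z)
          (hU.fromSpec_primeIdealOf ⟨y, hyU⟩) ?_
        exact ((PrimeSpectrum.le_iff_specializes _ _).mp hr).map hU.fromSpec.continuous
    refine ⟨b, ?_, fun x hx hfx => ?_⟩
    · exact (mem_basicOpen_iff_primeIdealOf hU b ⟨y, hyU⟩).mpr hb
    · have h2 := hbO ((hV k).primeIdealOf ⟨x, hx⟩) fun hmem => by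
        refine (mem_basicOpen_iff_primeIdealOf hU b ⟨f x, hVU k hx⟩).mp hfx ?_
        rw [← IsAffineOpen.comap_primeIdealOf_appLE U hU (V k) (hV k) (hVU k) hx]
        exact hmem
      change (hV k).fromSpec _ ∈ O at h2
      rwa [(hV k).fromSpec_primeIdealOf] at h2
  choose b hyb hbO using hb
  refine ⟨(U : Set Y) ∩ ⋂ k ∈ T, (Y.basicOpen (b k) : Set Y), ?_,
    U.2.inter (isOpen_biInter_finset fun k _ => (Y.basicOpen (b k)).2),
    hyU, Set.mem_iInter₂.mpr fun k _ => hyb k⟩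
  rintro z ⟨hzU, hz⟩ y' hy' x rfl
  obtain ⟨k, hk, hxk⟩ := Set.mem_iUnion₂.mp (hT (hy'.mem_open U.2 hzU : x ∈ f ⁻¹ᵁ U))
  exact hbO k x hxk (hy'.mem_open (Y.basicOpen (b k)).2 (Set.mem_iInter₂.mp hz k hk))

theorem isOpen_setOf_isFlatOverAt {X Y : Scheme.{u}} (f : X ⟶ Y)
    [LocallyOfFinitePresentation f] (F : X.Modules) [Coh.IsQCoh F] (hF : CohB1.IsFP F) :
    IsOpen {x : X | FlatMod.IsFlatOverAt f F x} := by
  refine isOpen_iff_forall_mem_open.mpr fun x hx => ?_
  obtain ⟨_, ⟨U, hU, rfl⟩, hxU, -⟩ :=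
    Y.isBasis_affineOpens.exists_subset_of_mem_open (Set.mem_univ (f x)) isOpen_univ
  obtain ⟨V, hV, hVU, hxV, hfp⟩ := exists_finitePresentation_nhd hF (U := f ⁻¹ᵁ U) hxU
  haveI := hfp
  have := f.finitePresentation_appLE hU hV hVU
  algebraize [(f.appLE U V hVU).hom]
  letI : Module Γ(Y, U) Γ(F, V) := Module.compHom Γ(F, V) (f.appLE U V hVU).hom
  haveI : IsScalarTower Γ(Y, U) Γ(X, V) Γ(F, V) := IsScalarTower.of_algebraMap_smul fun _ _ => rfl
  have key : ∀ (z : X) (hz : z ∈ V), FlatMod.IsFlatOverAt f F z ↔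
      hV.primeIdealOf ⟨z, hz⟩ ∈ flatLocus Γ(Y, U) Γ(X, V) Γ(F, V) :=
    fun z hz => isFlatOverAt_iff f F U hU V hV hVU hz rfl
  have hopen : IsOpen (flatLocus Γ(Y, U) Γ(X, V) Γ(F, V)) := isOpen_flatLocus_fp
  refine ⟨Subtype.val '' ((fun y : V ↦ hV.primeIdealOf y) ⁻¹' flatLocus Γ(Y, U) Γ(X, V) Γ(F, V)),
    ?_, ?_, ⟨⟨x, hxV⟩, (key x hxV).mp hx, rfl⟩⟩
  · rintro _ ⟨⟨z, hz⟩, hz', rfl⟩
    exact (key z hz).mpr hz'
  · exact V.2.isOpenMap_subtype_val _ (hopen.preimage hV.isoSpec.hom.continuous)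

theorem mem_flatLocus_base_iff {A B C : Type u} [CommRing A] [CommRing B] [CommRing C]
    [Algebra A B] [Algebra B C] [Algebra A C] [IsScalarTower A B C]
    (M : Type u) [AddCommGroup M] [Module C M] [Module B M] [Module A M]
    [IsScalarTower B C M] [IsScalarTower A C M] [IsScalarTower A B M] (q : PrimeSpectrum B) :
    q ∈ flatLocus A B M ↔
      ∀ r : PrimeSpectrum C, PrimeSpectrum.comap (algebraMap B C) r ≤ q → r ∈ flatLocus A C M := by
  constructor
  · intro h r hr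
    refine (flat_localized_iff r.asIdeal.primeCompl (LocalizedModule.mkLinearMap _ M)).mpr
      fun N _ _ K x hx => ?_
    obtain ⟨t, ht, htx⟩ := (flat_localized_iff q.asIdeal.primeCompl (LocalizedModule.mkLinearMap _ M)).mp
      h N K x hx
    exact ⟨algebraMap B C t, fun hmem => ht (hr hmem), by rw [algebraMap_smul]; exact htx⟩
  · intro h
    refine (flat_localized_iff q.asIdeal.primeCompl (LocalizedModule.mkLinearMap _ M)).mpr
      fun N _ _ K x hx => ?_
    let J : Ideal C := LinearMap.ker (LinearMap.toSpanSingleton C _ x)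
    by_contra hne
    push Not at hne
    have hdisj : Disjoint (J : Set C) (q.asIdeal.primeCompl.map (algebraMap B C) : Set C) := by
      rw [Set.disjoint_left]
      rintro _ hbJ ⟨b, hb, rfl⟩
      refine hne b hb ?_
      rw [← algebraMap_smul C b x]
      exact hbJ
    obtain ⟨r, hrp, hJr, hrd⟩ := Ideal.exists_le_prime_disjoint J _ hdisj
    obtain ⟨t, ht, htx⟩ := (flat_localized_iff r.primeCompl (LocalizedModule.mkLinearMap _ M)).mp
      (h ⟨r, hrp⟩ fun b hb => by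
        by_contra hbq
        exact Set.disjoint_left.mp hrd hb ⟨b, hbq, rfl⟩) N K x hx
    exact ht (hJr (show t ∈ J from htx))

theorem isOpen_setOf_flat_base {A B C : Type u} [CommRing A] [CommRing B] [CommRing C]
    [Algebra A B] [Algebra B C] [Algebra A C] [IsScalarTower A B C]
    [Algebra.FinitePresentation A B] [Algebra.FinitePresentation B C]
    (M : Type u) [AddCommGroup M] [Module C M] [Module B M] [Module A M]
    [IsScalarTower B C M] [IsScalarTower A C M] [IsScalarTower A B M] [Module.FinitePresentation C M] :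
    IsOpen (flatLocus A B M) := by
  haveI : Algebra.FinitePresentation A C := Algebra.FinitePresentation.trans A B C
  refine isOpen_iff_forall_mem_open.mpr fun q hq => ?_
  obtain ⟨b, hb, hbO⟩ := exists_notMem_forall_mem (algebraMap B C)
    (isOpen_flatLocus_fp : IsOpen (flatLocus A C M)) q ((mem_flatLocus_base_iff M q).mp hq)
  exact ⟨PrimeSpectrum.basicOpen b, fun q' hq' => (mem_flatLocus_base_iff M q').mpr
    fun r hr => hbO r fun hmem => hq' (hr hmem), PrimeSpectrum.isOpen_basicOpen, hb⟩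

end RichLib.FlatLoci
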