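import Mathlib
import Groth.Agent.S12442

/-!
# Surjectivity and universal injectivity of base changes in terms of constructible sets of the base
-/

set_option autoImplicit false
universe u

open CategoryTheory CategoryTheory.Limits AlgebraicGeometry Topology

namespace RichLib.FibreRange

theorem isLocallyConstructible_compl {X : Type*} [TopologicalSpace X] {s : Set X}
    (hs : IsLocallyConstructible s) : IsLocallyConstructible sᶜ := fun x => by
  obtain ⟨U, hU, hUo, hc⟩ := hs x
  exact ⟨U, hU, hUo, by rw [Set.preimage_compl]; exact hc.compl⟩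

variable {X₀ Y₀ S T Xi Yi : Scheme.{u}} (f₀ : X₀ ⟶ Y₀) (g₀ : Y₀ ⟶ S) (t : T ⟶ S)
  {fi : Xi ⟶ Yi} {gi : Yi ⟶ T} {pY : Yi ⟶ Y₀} {pX : Xi ⟶ X₀}

/-- the bad set for surjectivity -/
def badSurj : Set S := g₀.base '' (Set.range f₀.base)ᶜ

/-- the bad set for universal injectivity -/
def badUI : Set S :=
  (pullback.fst f₀ f₀ ≫ f₀ ≫ g₀).base '' (Set.range (pullback.diagonal f₀).base)ᶜ

variable {f₀ g₀ t} (hY : IsPullback pY gi g₀ t) (hX : IsPullback pX fi f₀ pY)
include hY hX

theorem surjective_iff : Surjective fi ↔ t.base ⁻¹' badSurj f₀ g₀ = ∅ := by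
  constructor
  · intro h
    rw [Set.eq_empty_iff_forall_notMem]
    rintro c ⟨y₀, hy₀, hc⟩
    obtain ⟨y, hy1, -⟩ := Scheme.exists_preimage_of_isPullback hY y₀ c hc
    obtain ⟨x, rfl⟩ := fi.surjective y
    exact hy₀ ⟨pX.base x, by rw [← Scheme.Hom.comp_apply, hX.w, Scheme.Hom.comp_apply, hy1]⟩
  · intro h
    refine ⟨fun y => ?_⟩
    by_contra hy
    have h2 : pY.base y ∉ Set.range f₀.base := fun ⟨x₀, hx₀⟩ => by
      obtain ⟨x, -, hx⟩ := Scheme.exists_preimage_of_isPullback hX x₀ y hx₀
      exact hy ⟨x, hx⟩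
    exact Set.eq_empty_iff_forall_notMem.mp h (gi.base y)
      ⟨pY.base y, h2, by rw [← Scheme.Hom.comp_apply, hY.w, Scheme.Hom.comp_apply]⟩

theorem universallyInjective_iff : UniversallyInjective fi ↔ t.base ⁻¹' badUI f₀ g₀ = ∅ := by
  rw [UniversallyInjective.iff_diagonal]
  constructor
  · intro h
    rw [Set.eq_empty_iff_forall_notMem]
    rintro c ⟨p, hp, hc⟩
    let k := pullback.fst f₀ f₀ ≫ f₀ ≫ g₀
    obtain ⟨q, hq1, -⟩ := Scheme.exists_preimage_of_isPullback (IsPullback.of_hasPullback k t) p c hc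
    let yy : pullback k t ⟶ Yi := hY.lift (pullback.fst k t ≫ pullback.fst f₀ f₀ ≫ f₀) (pullback.snd k t)
      (by simp only [Category.assoc]; exact pullback.condition)
    let a : pullback k t ⟶ Xi := hX.lift (pullback.fst k t ≫ pullback.fst f₀ f₀) yy (by simp [yy])
    let b : pullback k t ⟶ Xi := hX.lift (pullback.fst k t ≫ pullback.snd f₀ f₀) yy (by
      simp only [yy, Category.assoc, IsPullback.lift_fst, pullback.condition])
    let r : pullback k t ⟶ pullback fi fi := pullback.lift a b (by simp [a, b])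
    let m : pullback fi fi ⟶ pullback f₀ f₀ := pullback.map fi fi f₀ f₀ pX pX pY hX.w.symm hX.w.symm
    have hm1 : m ≫ pullback.fst f₀ f₀ = pullback.fst fi fi ≫ pX := pullback.lift_fst _ _ _
    have hm2 : m ≫ pullback.snd f₀ f₀ = pullback.snd fi fi ≫ pX := pullback.lift_snd _ _ _
    have hr1 : r ≫ pullback.fst fi fi = a := pullback.lift_fst _ _ _
    have hr2 : r ≫ pullback.snd fi fi = b := pullback.lift_snd _ _ _
    have hrm : r ≫ m = pullback.fst k t := by
      apply pullback.hom_ext <;> simp [reassoc_of% hr1, reassoc_of% hr2, a, b, hm1, hm2]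
    have hm : pullback.diagonal fi ≫ m = pX ≫ pullback.diagonal f₀ := by
      apply pullback.hom_ext <;> simp [hm1, hm2]
    obtain ⟨x, hx⟩ := h.surj (r.base q)
    refine hp ⟨pX.base x, ?_⟩
    rw [← Scheme.Hom.comp_apply, ← hm, Scheme.Hom.comp_apply, hx, ← Scheme.Hom.comp_apply, hrm, hq1]
  · intro h
    refine ⟨fun z => ?_⟩
    let m : pullback fi fi ⟶ pullback f₀ f₀ := pullback.map fi fi f₀ f₀ pX pX pY hX.w.symm hX.w.symm
    have hm1 : m ≫ pullback.fst f₀ f₀ = pullback.fst fi fi ≫ pX := pullback.lift_fst _ _ _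
    have hm2 : m ≫ pullback.snd f₀ f₀ = pullback.snd fi fi ≫ pX := pullback.lift_snd _ _ _
    by_cases hz : m.base z ∈ Set.range (pullback.diagonal f₀).base
    · obtain ⟨x₀, hx₀⟩ := hz
      obtain ⟨q, -, hq2⟩ := Scheme.exists_preimage_of_isPullback
        (IsPullback.of_hasPullback (pullback.diagonal f₀) m) x₀ z hx₀
      have hab : pullback.snd (pullback.diagonal f₀) m ≫ pullback.fst fi fi =
          pullback.snd (pullback.diagonal f₀) m ≫ pullback.snd fi fi := by
        apply hX.hom_ext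
        · have h1 := congrArg (· ≫ pullback.fst f₀ f₀) (pullback.condition (f := pullback.diagonal f₀) (g := m))
          have h2 := congrArg (· ≫ pullback.snd f₀ f₀) (pullback.condition (f := pullback.diagonal f₀) (g := m))
          simp only [Category.assoc, pullback.diagonal_fst, pullback.diagonal_snd, hm1, hm2, Category.comp_id] at h1 h2 ⊢
          exact h1.symm.trans h2
        · simp [pullback.condition]
      refine ⟨(pullback.snd (pullback.diagonal f₀) m ≫ pullback.fst fi fi).base q, ?_⟩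
      have h3 : (pullback.snd (pullback.diagonal f₀) m ≫ pullback.fst fi fi) ≫ pullback.diagonal fi =
          pullback.snd (pullback.diagonal f₀) m := by
        apply pullback.hom_ext <;> simp [hab]
      rw [← Scheme.Hom.comp_apply, h3, hq2]
    · exfalso
      refine Set.eq_empty_iff_forall_notMem.mp h ((pullback.fst fi fi ≫ fi ≫ gi).base z) ⟨m.base z, hz, ?_⟩
      rw [← Scheme.Hom.comp_apply, ← Scheme.Hom.comp_apply]
      congr 2
      rw [reassoc_of% hm1, reassoc_of% hX.w, hY.w]; simp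

omit hY hX

variable (f₀ g₀)
variable [LocallyOfFinitePresentation g₀] [QuasiCompact g₀] [QuasiSeparated g₀]
  [LocallyOfFinitePresentation (f₀ ≫ g₀)] [QuasiCompact (f₀ ≫ g₀)] [QuasiSeparated (f₀ ≫ g₀)]

theorem isLocallyConstructible_badSurj : IsLocallyConstructible (badSurj f₀ g₀) := by
  haveI : LocallyOfFinitePresentation f₀ := Groth.Agent.S12442.result f₀ g₀
  haveI : QuasiCompact f₀ := .of_comp f₀ g₀
  refine g₀.isLocallyConstructible_image ?_
  rw [← Set.image_univ]
  exact isLocallyConstructible_compl (f₀.isLocallyConstructible_image IsLocallyConstructible.univ)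

theorem isLocallyConstructible_badUI : IsLocallyConstructible (badUI f₀ g₀) := by
  haveI : LocallyOfFinitePresentation f₀ := Groth.Agent.S12442.result f₀ g₀
  haveI : QuasiCompact f₀ := .of_comp f₀ g₀
  haveI : QuasiSeparated f₀ := .of_comp f₀ g₀
  haveI : LocallyOfFinitePresentation (pullback.diagonal f₀) := by
    haveI : LocallyOfFinitePresentation (pullback.diagonal f₀ ≫ pullback.fst f₀ f₀) := by
      rw [pullback.diagonal_fst]; infer_instance
    exact Groth.Agent.S12442.result (pullback.diagonal f₀) (pullback.fst f₀ f₀)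
  haveI : QuasiCompact (pullback.diagonal f₀) := QuasiSeparated.quasiCompact_diagonal
  refine (pullback.fst f₀ f₀ ≫ f₀ ≫ g₀).isLocallyConstructible_image ?_
  rw [← Set.image_univ]
  exact isLocallyConstructible_compl ((pullback.diagonal f₀).isLocallyConstructible_image IsLocallyConstructible.univ)

/-- a constructible set of a stage not meeting the limit disappears at a later stage -/
theorem exists_preimage_eq_empty {I : Type u} [SmallCategory I] [IsCofiltered I]
    (D : I ⥤ Scheme.{u}) (c : Cone D) (hc : IsLimit c)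
    [∀ (i j : I) (f : i ⟶ j), IsAffineHom (D.map f)] {i : I} [CompactSpace (D.obj i)]
    {E : Set (D.obj i)} (hE : IsConstructible E) (h : (c.π.app i).base ⁻¹' E = ∅) :
    ∃ (j : I) (φ : j ⟶ i), (D.map φ).base ⁻¹' E = ∅ := by
  induction E, hE using BooleanSubalgebra.closure_sdiff_sup_induction with
  | isSublattice =>
    exact ⟨fun s hs t ht ↦ ⟨hs.1.union ht.1, hs.2.union ht.2⟩,
      fun s hs t ht ↦ ⟨hs.1.inter ht.1, hs.2.inter_isOpen ht.2 ht.1⟩⟩
  | bot_mem => exact ⟨isOpen_empty, .empty⟩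
  | top_mem => exact ⟨isOpen_univ, .univ⟩
  | sdiff U hU V hV =>
    haveI : ∀ {i j} (f : i ⟶ j), IsAffineHom (D.map f) := fun f => inferInstance
    obtain ⟨j, φ, hj⟩ := exists_map_preimage_le_map_preimage D c hc (i := i) (U := ⟨U, hU.1⟩)
      (V := ⟨V, hV.1⟩) hU.2.isCompact (fun x hx => by
        by_contra hxV
        exact Set.eq_empty_iff_forall_notMem.mp h x ⟨hx, hxV⟩)
    exact ⟨j, φ, Set.eq_empty_iff_forall_notMem.mpr fun x hx => hx.2 (hj hx.1)⟩
  | sup A _ B _ hA hB =>
    obtain ⟨j₁, φ₁, h₁⟩ := hA (by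
      rw [Set.eq_empty_iff_forall_notMem] at h ⊢; exact fun x hx => h x (Or.inl hx))
    obtain ⟨j₂, φ₂, h₂⟩ := hB (by
      rw [Set.eq_empty_iff_forall_notMem] at h ⊢; exact fun x hx => h x (Or.inr hx))
    obtain ⟨j, ψ₁, ψ₂, hψ⟩ := IsCofiltered.cospan φ₁ φ₂
    refine ⟨j, ψ₁ ≫ φ₁, ?_⟩
    rw [Set.eq_empty_iff_forall_notMem] at h₁ h₂ ⊢
    intro x hx
    have e : (D.map (ψ₁ ≫ φ₁)).base x = (D.map φ₁).base ((D.map ψ₁).base x) := by
      rw [Functor.map_comp]; rfl
    rcases hx with hx | hx
    · exact h₁ _ (e ▸ hx)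
    · refine h₂ ((D.map ψ₂).base x) ?_
      rw [hψ] at hx
      rw [Set.mem_preimage, ← Scheme.Hom.comp_apply, ← Functor.map_comp]
      exact hx

theorem setOf_preimage_fromSpec (E : Set S) :
    {s : S | (S.fromSpecResidueField s).base ⁻¹' E = ∅} = Eᶜ := by
  ext s
  rw [Set.mem_setOf_eq, Set.preimage_eq_empty_iff, Scheme.range_fromSpecResidueField, Set.mem_compl_iff,
    Set.disjoint_singleton_right]

omit [LocallyOfFinitePresentation g₀] [QuasiCompact g₀] [QuasiSeparated g₀]
  [LocallyOfFinitePresentation (f₀ ≫ g₀)] [QuasiCompact (f₀ ≫ g₀)] [QuasiSeparated (f₀ ≫ g₀)] in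
/-- the fibre of `f₀` over a point of the base is a base change of `f₀` -/
theorem isPullback_fiber (s : S) :
    IsPullback (pullback.fst (f₀ ≫ g₀) (S.fromSpecResidueField s))
      (pullback.lift (pullback.fst (f₀ ≫ g₀) (S.fromSpecResidueField s) ≫ f₀) (pullback.snd (f₀ ≫ g₀) (S.fromSpecResidueField s))
        ((Category.assoc _ _ _).trans pullback.condition))
      f₀ (pullback.fst g₀ (S.fromSpecResidueField s)) :=
  IsPullback.of_bot (by rw [pullback.lift_snd]; exact IsPullback.of_hasPullback (f₀ ≫ g₀) (S.fromSpecResidueField s))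
    (pullback.lift_fst _ _ _).symm (IsPullback.of_hasPullback g₀ (S.fromSpecResidueField s))

end RichLib.FibreRange
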