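import Mathlib
import Groth.Agent.RichLib.LimitBaseChange
import Groth.Agent.RichLib.LimitDescent
import Groth.Agent.RichLib.FlatStage
import Groth.Agent.FlatLib.FlatLocusScheme

/-!
# Flatness descends along affine limits (EGA IV 11.2.6)
-/

set_option autoImplicit false
universe u

open CategoryTheory CategoryTheory.Limits AlgebraicGeometry Topology TensorProduct

noncomputable section

namespace RichLib.LimBC

open FlatLib

theorem flatAt_specMap_iff {R S : Type u} [CommRing R] [CommRing S] [Algebra R S] (p : PrimeSpectrum S) :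
    FlatAt (Spec.map (CommRingCat.ofHom (algebraMap R S))) p ↔ p ∈ flatLocus R S S := by
  refine Iff.trans ?_ (mem_flatLocus_self_iff p).symm
  let P := PrimeSpectrum.comap (algebraMap R S) p
  haveI : p.asIdeal.LiesOver P.asIdeal := ⟨rfl⟩
  letI := Localization.AtPrime.algebraOfLiesOver P.asIdeal p.asIdeal
  refine Iff.trans ?_ (Module.flat_iff_of_isLocalization (Localization.AtPrime P.asIdeal)
    P.asIdeal.primeCompl _)
  rw [← RingHom.flat_algebraMap_iff]
  exact RingHom.Flat.respectsIso.arrow_mk_iso_iff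
    (Scheme.arrowStalkMapSpecIso (CommRingCat.ofHom (algebraMap R S)) p)

theorem flatAt_iso_comp {X' X Y : Scheme.{u}} (e : X' ⟶ X) [IsIso e] (f : X ⟶ Y) (x : X') :
    FlatAt (e ≫ f) x ↔ FlatAt f (e.base x) :=
  ⟨fun h => flatAt_of_comp (flatAt_of_flat e x) h, fun h => flatAt_comp (flatAt_of_flat e x) h⟩

theorem isPullback_spec {W S : Scheme.{u}} [IsAffine W] [IsAffine S] (g : W ⟶ S) (R : Type u) [CommRing R]
    [Algebra Γ(S, ⊤) R] [Algebra Γ(S, ⊤) Γ(W, ⊤)]
    (hg : g.appTop.hom = algebraMap Γ(S, ⊤) Γ(W, ⊤)) :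
    IsPullback (Spec.map (CommRingCat.ofHom
        (Algebra.TensorProduct.includeRight : Γ(W, ⊤) →ₐ[Γ(S, ⊤)] R ⊗[Γ(S, ⊤)] Γ(W, ⊤)).toRingHom) ≫ W.isoSpec.inv)
      (Spec.map (CommRingCat.ofHom (Algebra.TensorProduct.includeLeftRingHom : R →+* R ⊗[Γ(S, ⊤)] Γ(W, ⊤))))
      g (Spec.map (CommRingCat.ofHom (algebraMap Γ(S, ⊤) R)) ≫ S.isoSpec.inv) := by
  refine (isPullback_SpecMap_of_isPushout _ _ _ _
    (CommRingCat.isPushout_tensorProduct Γ(S, ⊤) R Γ(W, ⊤))).flip.paste_horiz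
    (IsPullback.of_horiz_isIso ⟨?_⟩)
  have e : CommRingCat.ofHom (algebraMap Γ(S, ⊤) Γ(W, ⊤)) = g.appTop := by
    rw [← hg, CommRingCat.ofHom_hom]
  rw [e, Scheme.isoSpec_inv_naturality]

variable {I : Type u} [SmallCategory I] {S : Scheme.{u}} (A : Sys I S) [IsCofiltered I]
  {W : Scheme.{u}} (g : W ⟶ S)

/-- flatness at a point of the limit holds at some stage (pointwise hypothesis) -/
theorem exists_flatAt_stage_of_flatAt [IsAffine S] [IsAffine W] [LocallyOfFinitePresentation g]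
    (x : ↥(pullback g A.s)) (hx : FlatAt (pullback.snd g A.s) x) :
    ∃ i, FlatAt (pullback.snd g (A.t i)) ((pbπ A g i).base x) := by
  haveI : IsAffineHom A.s := A.affine_s
  haveI : IsAffine A.c.pt := isAffine_of_isAffineHom A.s
  let R := Γ(A.c.pt, ⊤)
  have hg : g.appTop.hom.FinitePresentation :=
    (HasRingHomProperty.iff_of_isAffine (P := @LocallyOfFinitePresentation)).mp ‹_›
  algebraize [g.appTop.hom, A.s.appTop.hom]
  have hs : A.c.pt.isoSpec.inv ≫ A.s =
      Spec.map (CommRingCat.ofHom (algebraMap Γ(S, ⊤) R)) ≫ S.isoSpec.inv :=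
    (Scheme.isoSpec_inv_naturality A.s).symm
  have hR := isPullback_spec g R rfl
  rw [← hs] at hR
  let ρ : Spec (CommRingCat.of (R ⊗[Γ(S, ⊤)] Γ(W, ⊤))) ⟶ pullback g A.s :=
    hR.isoPullback.hom ≫ pullback.map g (A.c.pt.isoSpec.inv ≫ A.s) g A.s (𝟙 W) A.c.pt.isoSpec.inv (𝟙 S)
      (by simp) (by simp)
  let ψ := Spec.map (CommRingCat.ofHom
    (Algebra.TensorProduct.includeLeftRingHom : R →+* R ⊗[Γ(S, ⊤)] Γ(W, ⊤)))
  haveI : IsIso ρ := by
    haveI : IsIso (pullback.map g (A.c.pt.isoSpec.inv ≫ A.s) g A.s (𝟙 W) A.c.pt.isoSpec.inv (𝟙 S)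
      (by simp) (by simp)) := inferInstance
    infer_instance
  have hρ : ρ ≫ pullback.snd g A.s = ψ ≫ A.c.pt.isoSpec.inv := by
    simp only [ρ, Category.assoc, pullback.map, pullback.lift_snd, IsPullback.isoPullback_hom_snd_assoc]
    rfl
  obtain ⟨q, rfl⟩ := ρ.surjective x
  -- flatness at the prime
  have hq : q ∈ flatLocus R (R ⊗[Γ(S, ⊤)] Γ(W, ⊤)) (R ⊗[Γ(S, ⊤)] Γ(W, ⊤)) := by
    refine (flatAt_specMap_iff q).mp ?_
    have h1 : FlatAt (ψ ≫ A.c.pt.isoSpec.inv) q :=
      (flatAt_congr hρ q).mp ((flatAt_iso_comp ρ _ q).mpr hx)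
    have h2 : FlatAt ((ψ ≫ A.c.pt.isoSpec.inv) ≫ A.c.pt.isoSpec.hom) q :=
      flatAt_comp h1 (flatAt_of_flat _ _)
    exact (flatAt_congr (by rw [Category.assoc, Iso.inv_hom_id, Category.comp_id]) q).mp h2
  obtain ⟨R₂, _, _, _, θ, hθ⟩ := RichLib.FlatStage.exists_fp_stage_algebra R q hq
  let t₂ : Spec (CommRingCat.of R₂) ⟶ S :=
    Spec.map (CommRingCat.ofHom (algebraMap Γ(S, ⊤) R₂)) ≫ S.isoSpec.inv
  haveI : LocallyOfFinitePresentation t₂ := by
    haveI : LocallyOfFinitePresentation (Spec.map (CommRingCat.ofHom (algebraMap Γ(S, ⊤) R₂))) :=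
      (HasRingHomProperty.Spec_iff (P := @LocallyOfFinitePresentation)).mpr
        (RingHom.finitePresentation_algebraMap.mpr inferInstance)
    exact MorphismProperty.comp_mem _ _ _ this inferInstance
  let β : A.c.pt ⟶ Spec (CommRingCat.of R₂) := A.c.pt.isoSpec.hom ≫ Spec.map (CommRingCat.ofHom θ.toRingHom)
  have hβ : β ≫ t₂ = A.s := by
    have e1 : Spec.map (CommRingCat.ofHom θ.toRingHom) ≫
        Spec.map (CommRingCat.ofHom (algebraMap Γ(S, ⊤) R₂)) =
        Spec.map (CommRingCat.ofHom (algebraMap Γ(S, ⊤) R)) := by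
      rw [← Spec.map_comp, ← CommRingCat.ofHom_comp]
      congr 2
      exact θ.comp_algebraMap
    show (A.c.pt.isoSpec.hom ≫ _) ≫ _ ≫ _ = _
    rw [Category.assoc, reassoc_of% e1, ← hs, Iso.hom_inv_id_assoc]
  haveI : ∀ {i j : I} (a : i ⟶ j), IsAffineHom (A.D.map a) := fun a => A.affine_map a
  haveI := A.compactSpace_obj
  haveI := A.quasiSeparatedSpace_obj
  obtain ⟨i, b, hb, hbt⟩ := Scheme.exists_π_app_comp_eq_of_locallyOfFinitePresentation A.D
    { app := fun i => A.t i, naturality := fun i j a => (A.w a).trans (Category.comp_id _).symm }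
    t₂ A.c A.hc β (by ext i; exact (A.hs i).trans hβ.symm)
  obtain ⟨b, hb, hbt⟩ : ∃ b : A.D.obj i ⟶ Spec (CommRingCat.of R₂), A.c.π.app i ≫ b = β ∧ b ≫ t₂ = A.t i :=
    ⟨b, hb, hbt⟩
  refine ⟨i, ?_⟩
  have h2 := isPullback_spec g R₂ rfl
  let c : pullback g (A.t i) ⟶ Spec (CommRingCat.of (R₂ ⊗[Γ(S, ⊤)] Γ(W, ⊤))) :=
    h2.lift (pullback.fst g (A.t i)) (pullback.snd g (A.t i) ≫ b) (by
      rw [Category.assoc, hbt, pullback.condition])
  have sqc : IsPullback c (pullback.snd g (A.t i)) (Spec.map (CommRingCat.ofHom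
      (Algebra.TensorProduct.includeLeftRingHom : R₂ →+* R₂ ⊗[Γ(S, ⊤)] Γ(W, ⊤)))) b := by
    refine IsPullback.of_right ?_ (IsPullback.lift_snd _ _ _ _) h2
    rw [IsPullback.lift_fst, hbt]
    exact IsPullback.of_hasPullback _ _
  haveI : LocallyOfFinitePresentation (Spec.map (CommRingCat.ofHom
      (Algebra.TensorProduct.includeLeftRingHom : R₂ →+* R₂ ⊗[Γ(S, ⊤)] Γ(W, ⊤)))) :=
    MorphismProperty.of_isPullback h2 ‹LocallyOfFinitePresentation g›
  refine flatAt_baseChange sqc ?_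
  have key : ρ ≫ pbπ A g i ≫ c = Spec.map (CommRingCat.ofHom
      (Algebra.TensorProduct.map θ (AlgHom.id Γ(S, ⊤) Γ(W, ⊤))).toRingHom) := by
    refine h2.hom_ext ?_ ?_
    · simp only [ρ, c, Category.assoc, IsPullback.lift_fst, pbπ_fst, pullback.map, pullback.lift_fst,
        Category.comp_id, IsPullback.isoPullback_hom_fst]
      rw [← Category.assoc (Spec.map _) (Spec.map _), ← Spec.map_comp, ← CommRingCat.ofHom_comp]
      congr 3
      refine RingHom.ext fun w => ?_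
      simp
    · simp only [c, Category.assoc, IsPullback.lift_snd, pbπ_snd_assoc, hb, reassoc_of% hρ]
      simp only [β, ψ, Iso.inv_hom_id_assoc, ← Spec.map_comp, ← CommRingCat.ofHom_comp]
      congr 2
  rw [← Scheme.Hom.comp_apply, ← Scheme.Hom.comp_apply, key]
  exact (flatAt_specMap_iff _).mpr hθ

/-- flatness at a point of the limit holds at some stage -/
theorem exists_flatAt_stage [IsAffine S] [IsAffine W] [LocallyOfFinitePresentation g]
    (h : AtLim A g @Flat) (x : ↥(pullback g A.s)) :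
    ∃ i, FlatAt (pullback.snd g (A.t i)) ((pbπ A g i).base x) :=
  haveI : Flat (pullback.snd g A.s) := h
  exists_flatAt_stage_of_flatAt A g x (flatAt_of_flat _ _)

theorem flat_of_flatAt {X Y : Scheme.{u}} (f : X ⟶ Y) (h : ∀ x, FlatAt f x) : Flat f :=
  (Flat.iff_flat_stalkMap f).mpr h

theorem exists_at_flat_affine [IsAffine S] [IsAffine W] [LocallyOfFinitePresentation g]
    (h : AtLim A g @Flat) : ∃ i, At A g @Flat i := by
  choose i hi using exists_flatAt_stage A g h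
  let O : ∀ j, (pullback g (A.t j)).Opens := fun j =>
    ⟨{y | FlatAt (pullback.snd g (A.t j)) y}, isOpen_setOf_flat_stalkMap _⟩
  haveI : CompactSpace ↥(pullback g A.s) := by
    haveI : IsAffineHom A.s := A.affine_s
    haveI : IsAffine A.c.pt := isAffine_of_isAffineHom A.s
    infer_instance
  obtain ⟨T, hT⟩ := isCompact_univ.elim_finite_subcover
    (fun x => ((pbπ A g (i x)) ⁻¹ᵁ O (i x) : Set ↥(pullback g A.s))) (fun x => TopologicalSpace.Opens.isOpen _)
    fun x _ => Set.mem_iUnion.mpr ⟨x, hi x⟩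
  classical
  obtain ⟨j, hj⟩ := IsCofiltered.inf_objs_exists (T.image i)
  have hmem : ∀ x : T, i x.1 ∈ T.image i := fun x => Finset.mem_image_of_mem i x.2
  let V : (pullback g (A.t j)).Opens := ⨆ x : T, pbMap A g (hj (hmem x)).some ⁻¹ᵁ O (i x.1)
  have hV : pbπ A g j ⁻¹ᵁ V = ⊤ := eq_top_iff.mpr fun x _ => by
    obtain ⟨y, hyT, hy⟩ := Set.mem_iUnion₂.mp (hT (Set.mem_univ x))
    refine TopologicalSpace.Opens.mem_iSup.mpr ⟨⟨y, hyT⟩, ?_⟩
    show (pbMap A g _).base ((pbπ A g j).base x) ∈ O (i y)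
    rw [← Scheme.Hom.comp_apply, pbπ_map]
    exact hy
  haveI := (pb A g).compactSpace_obj
  haveI : ∀ {a b : I} (φ : a ⟶ b), IsAffineHom ((pb A g).D.map φ) := fun φ => (pb A g).affine_map φ
  obtain ⟨k, φ, hk⟩ := exists_map_eq_top (pb A g).D (pb A g).c (pb A g).hc V hV
  refine ⟨k, flat_of_flatAt _ fun y => ?_⟩
  have hy : (pbMap A g φ).base y ∈ V := hk.ge (Set.mem_univ y)
  obtain ⟨x, hx⟩ := TopologicalSpace.Opens.mem_iSup.mp hy
  exact flatAt_baseChange (isPullback_map A g φ) (flatAt_baseChange (isPullback_map A g (hj (hmem x)).some) hx)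

/-- flatness descends along affine limits -/
theorem exists_at_flat [CompactSpace S] [QuasiCompact g] [LocallyOfFinitePresentation g]
    (h : AtLim A g @Flat) : ∃ i, At A g @Flat i := by
  refine exists_at_of_local A g @Flat h fun {U} ι _ _ hU => ?_
  let k := pullback.snd g ι
  haveI : CompactSpace ↥(pullback g ι) := QuasiCompact.compactSpace_of_compactSpace k
  let B := pb A ι
  let 𝒰 := (pullback g ι).affineCover.finiteSubcover
  haveI : Finite 𝒰.I₀ := inferInstance
  have hp : ∀ l : 𝒰.I₀, ∃ i, At B (𝒰.f l ≫ k) @Flat i := fun l => by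
    haveI : IsAffine (𝒰.X l) := inferInstanceAs (IsAffine (Spec _))
    refine exists_at_flat_affine B _ ?_
    show Flat (pullback.snd (𝒰.f l ≫ k) B.s)
    haveI : Flat (pullback.snd k B.s) := hU
    rw [← pullbackRightPullbackFstIso_inv_snd_snd]
    infer_instance
  obtain ⟨i, hi⟩ := exists_stage (fun l i => At B (𝒰.f l ≫ k) @Flat i)
    (fun l _ _ a => at_of_hom B (𝒰.f l ≫ k) a) hp
  refine ⟨i, IsZariskiLocalAtSource.of_openCover (𝒰.pullback₁ (pullback.fst k (B.t i))) fun l => ?_⟩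
  let l' : 𝒰.I₀ := l
  show Flat (pullback.fst (pullback.fst k (B.t i)) (𝒰.f l') ≫ pullback.snd k (B.t i))
  have hl : Flat (pullback.snd (𝒰.f l') (pullback.fst k (B.t i)) ≫ pullback.snd k (B.t i)) := by
    haveI : Flat (pullback.snd (𝒰.f l' ≫ k) (B.t i)) := hi l'
    rw [← pullbackRightPullbackFstIso_hom_snd]
    infer_instance
  haveI := hl
  rw [← pullbackSymmetry_hom_comp_snd (pullback.fst k (B.t i)) (𝒰.f l'), Category.assoc]
  infer_instance

end RichLib.LimBC
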