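import Mathlib
import Groth.Agent.RichLib.ModFlatStage
import Groth.Agent.KFlatLib.StalkPull
import Groth.Agent.QCohLib.Coherent

/-!
# Flatness of a module at a point of a limit is attained at a stage
-/

set_option autoImplicit false
universe u

open CategoryTheory CategoryTheory.Limits AlgebraicGeometry TensorProduct

noncomputable section

namespace RichLib.ModFlat

open FlatLib RichLib.LimBC

/-- flatness transports along a semilinear bijection over an isomorphism of rings -/
theorem flat_iff_of_semilinear {R R' M M' : Type u} [CommRing R] [CommRing R'] [AddCommGroup M]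
    [AddCommGroup M'] [Module R M] [Module R' M'] (e : R ≃+* R') (ψ : M ≃+ M')
    (h : ∀ (r : R) (m : M), ψ (r • m) = e r • ψ m) : Module.Flat R M ↔ Module.Flat R' M' := by
  have key : ∀ {R R' M M' : Type u} [CommRing R] [CommRing R'] [AddCommGroup M] [AddCommGroup M']
      [Module R M] [Module R' M'] (e : R ≃+* R') (ψ : M ≃+ M'),
      (∀ (r : R) (m : M), ψ (r • m) = e r • ψ m) → Module.Flat R M → Module.Flat R' M' := by
    intro R R' M M' _ _ _ _ _ _ e ψ h hM
    letI : Algebra R R' := e.toRingHom.toAlgebra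
    letI : Module R M' := Module.compHom M' e.toRingHom
    haveI : IsScalarTower R R' M' := IsScalarTower.of_algebraMap_smul fun _ _ => rfl
    let l : M ≃ₗ[R] M' := { ψ with map_smul' := h }
    haveI : Module.Flat R M' := Module.Flat.of_linearEquiv l.symm
    haveI : IsLocalization (⊥ : Submonoid R) R' :=
      { map_units := fun y => by rw [show (y : R) = 1 from Submonoid.mem_bot.mp y.2, map_one]; exact isUnit_one
        surj := fun z => ⟨(e.symm z, 1), by simp [RingHom.algebraMap_toAlgebra]⟩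
        exists_of_eq := fun {a b} hab => ⟨1, by rw [show a = b from e.injective hab]⟩ }
    exact (Module.flat_iff_of_isLocalization R' (⊥ : Submonoid R) M').mpr inferInstance
  refine ⟨key e ψ h, key e.symm ψ.symm fun r m => ?_⟩
  apply ψ.injective
  rw [h, AddEquiv.apply_symm_apply, AddEquiv.apply_symm_apply, RingEquiv.apply_symm_apply]

theorem isFlatOverAt_iso {X Y : Scheme.{u}} (f : X ⟶ Y) {M N : X.Modules} (e : M ≅ N) (x : X) :
    FlatMod.IsFlatOverAt f M x ↔ FlatMod.IsFlatOverAt f N x := by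
  let ex : M.presheaf.stalk x ≃ₗ[X.presheaf.stalk x] N.presheaf.stalk x :=
    ((DerSch.stalkFunctor X x).mapIso e).toLinearEquiv
  letI := FlatMod.moduleStalkOver f M x
  letI := FlatMod.moduleStalkOver f N x
  exact flat_iff_of_semilinear (RingEquiv.refl _) ex.toAddEquiv fun r m => ex.map_smul _ m

theorem isFlatOverAt_comp_target {X T Y : Scheme.{u}} (f : X ⟶ T) (l : T ⟶ Y) [IsOpenImmersion l]
    (M : X.Modules) (x : X) :
    FlatMod.IsFlatOverAt (f ≫ l) M x ↔ FlatMod.IsFlatOverAt f M x := by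
  letI := FlatMod.moduleStalkOver (f ≫ l) M x
  letI := FlatMod.moduleStalkOver f M x
  refine flat_iff_of_semilinear (asIso (l.stalkMap (f x))).commRingCatIsoToRingEquiv (AddEquiv.refl _)
    fun r m => ?_
  show (f ≫ l).stalkMap x r • m = f.stalkMap x (l.stalkMap (f x) r) • m
  rw [Scheme.Hom.stalkMap_comp]
  rfl

theorem isFlatOverAt_comp_source {X' X Y : Scheme.{u}} (j : X' ⟶ X) [IsOpenImmersion j] (f : X ⟶ Y)
    (M : X.Modules) (x : X') :
    FlatMod.IsFlatOverAt (j ≫ f) ((Scheme.Modules.pullback j).obj M) x ↔ FlatMod.IsFlatOverAt f M (j x) := by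
  letI : Algebra (X.presheaf.stalk (j x)) (X'.presheaf.stalk x) := (j.stalkMap x).hom.toAlgebra
  let e : X'.presheaf.stalk x ⊗[X.presheaf.stalk (j x)] M.presheaf.stalk (j x) ≃ₗ[X'.presheaf.stalk x]
      ((Scheme.Modules.pullback j).obj M).presheaf.stalk x :=
    ((KFlatLib.stalkPullIso j x).symm.app M).toLinearEquiv
  let c : X.presheaf.stalk (j x) ≃ₗ[X.presheaf.stalk (j x)] X'.presheaf.stalk x :=
    LinearEquiv.ofBijective (Algebra.linearMap _ _) (asIso (j.stalkMap x)).commRingCatIsoToRingEquiv.bijective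
  let m₀ : M.presheaf.stalk (j x) ≃ₗ[X.presheaf.stalk (j x)]
      X'.presheaf.stalk x ⊗[X.presheaf.stalk (j x)] M.presheaf.stalk (j x) :=
    (TensorProduct.lid _ _).symm ≪≫ₗ TensorProduct.congr c (LinearEquiv.refl _ _)
  letI := FlatMod.moduleStalkOver (j ≫ f) ((Scheme.Modules.pullback j).obj M) x
  letI := FlatMod.moduleStalkOver f M (j x)
  refine (@flat_iff_of_semilinear _ _ _ _ _ _ _ _ (FlatMod.moduleStalkOver f M (j x))
    (FlatMod.moduleStalkOver (j ≫ f) ((Scheme.Modules.pullback j).obj M) x)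
    (RingEquiv.refl (Y.presheaf.stalk (f (j x)))) (m₀.toAddEquiv.trans e.toAddEquiv) fun r m => ?_).symm
  show e (m₀ (f.stalkMap (j x) r • m)) = (j ≫ f).stalkMap x r • e (m₀ m)
  rw [map_smul, ← algebraMap_smul (X'.presheaf.stalk x) (f.stalkMap (j x) r), map_smul,
    Scheme.Hom.stalkMap_comp]
  rfl

variable {I : Type u} [SmallCategory I] [IsCofiltered I] {Y : Scheme.{u}} (B : RichLib.LimBC.Sys I Y)
  {X : Scheme.{u}} (f : X ⟶ Y)

/-- flatness of a module at a point of the limit is flatness at some stage -/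
theorem isFlatOverAt_iff_exists_stage [LocallyOfFinitePresentation f] (M : X.Modules) [Coh.IsQCoh M]
    (hM : CohB1.IsFP M) (x : ↥(pullback f B.s)) :
    FlatMod.IsFlatOverAt (pullback.snd f B.s) ((Scheme.Modules.pullback (pullback.fst f B.s)).obj M) x ↔
      ∃ i, FlatMod.IsFlatOverAt (pullback.snd f (B.t i))
        ((Scheme.Modules.pullback (pullback.fst f (B.t i))).obj M) ((pbπ B f i).base x) := by
  let x₀ := pullback.fst f B.s x
  obtain ⟨U, hU, hyU⟩ : ∃ U : Y.Opens, IsAffineOpen U ∧ f x₀ ∈ U := by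
    obtain ⟨_, ⟨U, hU, rfl⟩, hyU, -⟩ :=
      Y.isBasis_affineOpens.exists_subset_of_mem_open (Set.mem_univ (f x₀)) isOpen_univ
    exact ⟨U, hU, hyU⟩
  obtain ⟨V, hV, hVU, hxV, hfp⟩ := exists_finitePresentation_nhd hM (U := f ⁻¹ᵁ U) hyU
  haveI : IsAffine U.toScheme := hU
  haveI : IsAffine V.toScheme := hV
  let C := pb B U.ι
  let k : V.toScheme ⟶ U.toScheme := f.resLE U V hVU
  have hk : k ≫ U.ι = V.ι ≫ f := Scheme.Hom.resLE_comp_ι _ _
  haveI : LocallyOfFinitePresentation k := inferInstance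
  let G := (Scheme.Modules.pullback V.ι).obj M
  haveI : Coh.IsQCoh G := KFlatLib.isQCoh_pullback V.ι M
  have hG : Module.FinitePresentation Γ(V.toScheme, ⊤) Γ(G, ⊤) := by
    letI : Algebra Γ(X, V) Γ(V.toScheme, ⊤) := (V.ι.appLE V ⊤ (by simp)).hom.toAlgebra
    letI : Module Γ(X, V) Γ(KFlatLib.pb V.ι M, ⊤) := Module.compHom _ (V.ι.appLE V ⊤ (by simp)).hom
    haveI : IsScalarTower Γ(X, V) Γ(V.toScheme, ⊤) Γ(KFlatLib.pb V.ι M, ⊤) :=
      IsScalarTower.of_algebraMap_smul fun _ _ => rfl
    let ψ : Γ(M, V) →ₗ[Γ(X, V)] Γ(KFlatLib.pb V.ι M, ⊤) :=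
      { toFun := KFlatLib.puSecLE V.ι M (by simp)
        map_add' := map_add _
        map_smul' := fun r m => KFlatLib.puSecLE_smul V.ι M (by simp) r m }
    have hψ := KFlatLib.isBaseChange_puSec V.ι M hV (isAffineOpen_top _) (by simp) (fun _ => rfl) ψ fun _ => rfl
    haveI := hfp
    haveI : Module.FinitePresentation Γ(V.toScheme, ⊤) (Γ(V.toScheme, ⊤) ⊗[Γ(X, V)] Γ(M, V)) := inferInstance
    exact Module.FinitePresentation.of_equiv hψ.equiv
  let lt : ∀ i, C.D.obj i ⟶ B.D.obj i := fun i => pullback.snd U.ι (B.t i)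
  let jt : ∀ i, pullback k (C.t i) ⟶ pullback f (B.t i) := fun i =>
    pullback.map k (C.t i) f (B.t i) V.ι (lt i) U.ι hk pullback.condition
  let ls : C.c.pt ⟶ B.c.pt := pullback.snd U.ι B.s
  let js : pullback k C.s ⟶ pullback f B.s :=
    pullback.map k C.s f B.s V.ι ls U.ι hk pullback.condition
  haveI : ∀ i, IsOpenImmersion (lt i) := fun i => inferInstanceAs (IsOpenImmersion (pullback.snd U.ι (B.t i)))
  haveI : IsOpenImmersion ls := inferInstanceAs (IsOpenImmersion (pullback.snd U.ι B.s))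
  -- transfer to the chart
  have trans : ∀ {T T' : Scheme.{u}} (t : T ⟶ Y) (t' : T' ⟶ U.toScheme) (l : T' ⟶ T) [IsOpenImmersion l]
      (e : t' ≫ U.ι = l ≫ t) (z : ↥(pullback k t')),
      FlatMod.IsFlatOverAt (pullback.snd k t') ((Scheme.Modules.pullback (pullback.fst k t')).obj G) z ↔
      FlatMod.IsFlatOverAt (pullback.snd f t) ((Scheme.Modules.pullback (pullback.fst f t)).obj M)
        ((pullback.map k t' f t V.ι l U.ι hk e).base z) := by
    intro T T' t t' l _ e z
    let j := pullback.map k t' f t V.ι l U.ι hk e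
    have h1 : j ≫ pullback.snd f t = pullback.snd k t' ≫ l := pullback.lift_snd _ _ _
    have h2 : j ≫ pullback.fst f t = pullback.fst k t' ≫ V.ι := pullback.lift_fst _ _ _
    let eM : (Scheme.Modules.pullback (pullback.fst k t')).obj G ≅
        (Scheme.Modules.pullback j).obj ((Scheme.Modules.pullback (pullback.fst f t)).obj M) :=
      (Scheme.Modules.pullbackComp _ _).app M ≪≫ (Scheme.Modules.pullbackCongr h2.symm).app M ≪≫
        ((Scheme.Modules.pullbackComp _ _).app M).symm
    rw [← isFlatOverAt_comp_target (pullback.snd k t') l, isFlatOverAt_iso _ eM, ← h1,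
      isFlatOverAt_comp_source j (pullback.snd f t)]
  obtain ⟨z, rfl⟩ : x ∈ Set.range js.base := by
    rw [show Set.range js.base = _ from Scheme.Pullback.range_map k C.s f B.s V.ι ls U.ι hk pullback.condition]
    refine ⟨⟨⟨x₀, hxV⟩, rfl⟩, ?_⟩
    show pullback.snd f B.s x ∈ Set.range (pullback.snd U.ι B.s).base
    rw [IsOpenImmersion.range_pullbackSnd]
    show B.s (pullback.snd f B.s x) ∈ U.ι.opensRange
    rw [Scheme.Opens.opensRange_ι, ← Scheme.Hom.comp_apply, ← pullback.condition]
    exact hyU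
  have hπ : ∀ i, pbπ C k i ≫ jt i = js ≫ pbπ B f i := fun i => by
    apply pullback.hom_ext <;>
      simp only [jt, js, Category.assoc, pbπ_fst, pbπ_snd, pbπ_fst_assoc, pbπ_snd_assoc, pullback.map,
        pullback.lift_fst, pullback.lift_snd, pullback.lift_fst_assoc, pullback.lift_snd_assoc]
    exact congrArg (pullback.snd k C.s ≫ ·) (pbπ_snd B U.ι i)
  have hpt : ∀ i, (pbπ B f i).base (js.base z) = (jt i).base ((pbπ C k i).base z) := fun i => by
    rw [← Scheme.Hom.comp_apply, ← hπ, Scheme.Hom.comp_apply]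
  constructor
  · intro h
    obtain ⟨i, hi⟩ := exists_isFlatOverAt_stage C k G hG z ((trans B.s C.s ls pullback.condition z).mpr h)
    exact ⟨i, hpt i ▸ (trans (B.t i) (C.t i) (lt i) pullback.condition _).mp hi⟩
  · rintro ⟨i, hi⟩
    rw [hpt i] at hi
    exact (trans B.s C.s ls pullback.condition z).mp
      (isFlatOverAt_of_stage C k G z i ((trans (B.t i) (C.t i) (lt i) pullback.condition _).mpr hi))

end RichLib.ModFlat

namespace RichLib.ModFlat

/-- finite presentation is preserved by pullback -/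
theorem isFP_pullback {X Y : Scheme.{u}} (g : X ⟶ Y) {M : Y.Modules} (h : CohB1.IsFP M) :
    CohB1.IsFP ((Scheme.Modules.pullback g).obj M) := by
  choose O P hO hP using fun y : Y => FlatLib.exists_presentation_nhd h y
  let Q : ∀ x : X, (((Scheme.Modules.pullback g).obj M).restrict (g ⁻¹ᵁ O (g x)).ι).Presentation :=
    fun x => KFlatLib.pullPresentation g M (O (g x)) (P (g x))
  have hQ : ∀ x, (Q x).IsFinite := fun x => by
    haveI := (hP (g x)).isFiniteType_generators
    haveI := (hP (g x)).isFiniteType_relations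
    exact { isFiniteType_generators := ⟨(inferInstance : Finite (P (g x)).generators.I)⟩
            isFiniteType_relations := ⟨(inferInstance : Finite (P (g x)).relations.I)⟩ }
  refine SheafOfModules.IsFinitePresentation.mk (R := X.ringCatSheaf)
    ⟨({ I := X
        X := fun x => g ⁻¹ᵁ O (g x)
        coversTop := (Opens.coversTop_iff (X : Type u) fun x => g ⁻¹ᵁ O (g x)).mpr
          (eq_top_iff.mpr fun p _ => TopologicalSpace.Opens.mem_iSup.mpr ⟨p, hO (g p)⟩)
        presentation := fun x => QCohLib.overPresentation _ (g ⁻¹ᵁ O (g x)) (Q x) } :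
        SheafOfModules.QuasicoherentData.{u} (R := X.ringCatSheaf) ((Scheme.Modules.pullback g).obj M)), ?_⟩
  exact SheafOfModules.QuasicoherentData.IsFinitePresentation.mk (R := X.ringCatSheaf)
    fun x => QCohLib.isFinite_overPresentation _ _ (Q x) (hQ x)

end RichLib.ModFlat
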