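import Mathlib
import Groth.Prelude.Def_Mor2

/-!
# Basic properties of quasi-affine morphisms
-/

set_option autoImplicit false
universe u

open CategoryTheory CategoryTheory.Limits AlgebraicGeometry TopologicalSpace

noncomputable section

namespace RichLib.QA

variable {X Y Z : Scheme.{u}}

theorem isQuasiAffine_of_iso {X Y : Scheme.{u}} (e : X ⟶ Y) [IsIso e] [Y.IsQuasiAffine] :
    X.IsQuasiAffine :=
  .of_isAffineHom e

/-- a compact open of a quasi-affine open is quasi-affine -/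
theorem isQuasiAffine_of_le {U V : X.Opens} (h : U ≤ V) (hU : IsCompact (U : Set X))
    (hV : Scheme.IsQuasiAffine (V : Scheme.{u})) : Scheme.IsQuasiAffine (U : Scheme.{u}) := by
  haveI := hV
  haveI : CompactSpace U.toScheme := isCompact_iff_compactSpace.mp hU
  exact .of_isImmersion (X.homOfLE h)

theorem isSeparated_of_cover (f : X ⟶ Y) {ι : Type*} (V : ι → Y.Opens) (hV : iSup V = ⊤)
    (hq : ∀ i, Scheme.IsQuasiAffine (f ⁻¹ᵁ V i : Scheme.{u})) : IsSeparated f :=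
  IsZariskiLocalAtTarget.of_iSup_eq_top V hV fun i => by
    haveI := hq i
    haveI : IsSeparated ((f ∣_ V i) ≫ terminal.from _) := by
      rw [terminal.comp_from]; infer_instance
    exact IsSeparated.of_comp (f ∣_ V i) (terminal.from _)

/-- quasi-affineness is local over a quasi-affine base -/
theorem isQuasiAffine_of_cover [Y.IsQuasiAffine] (f : X ⟶ Y) {ι : Type*} (V : ι → Y.Opens)
    (hV : iSup V = ⊤) (hq : ∀ i, Scheme.IsQuasiAffine (f ⁻¹ᵁ V i : Scheme.{u})) : X.IsQuasiAffine := by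
  obtain ⟨t, ht⟩ := isCompact_univ.elim_finite_subcover (fun i => (V i : Set Y)) (fun i => (V i).2)
    (fun y _ => by
      obtain ⟨i, hi⟩ := TopologicalSpace.Opens.mem_iSup.mp (hV.ge (Set.mem_univ y) : y ∈ iSup V)
      exact Set.mem_iUnion.mpr ⟨i, hi⟩)
  haveI : CompactSpace X := by
    refine ⟨?_⟩
    have : (Set.univ : Set X) = ⋃ i ∈ t, ((f ⁻¹ᵁ V i : X.Opens) : Set X) := by
      refine (Set.eq_univ_of_forall fun x => ?_).symm
      obtain ⟨i, hi, hxi⟩ := Set.mem_iUnion₂.mp (ht (Set.mem_univ (f.base x)))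
      exact Set.mem_iUnion₂.mpr ⟨i, hi, hxi⟩
    rw [this]
    exact t.isCompact_biUnion fun i _ => isCompact_iff_compactSpace.mpr (hq i).toCompactSpace
  haveI := isSeparated_of_cover f V hV hq
  haveI : QuasiSeparatedSpace X := quasiSeparatedSpace_of_quasiSeparated f
  refine Scheme.IsQuasiAffine.of_forall_exists_mem_basicOpen X fun x => ?_
  obtain ⟨i, hi⟩ := TopologicalSpace.Opens.mem_iSup.mp (hV.ge (Set.mem_univ (f.base x)) : f.base x ∈ iSup V)
  obtain ⟨_, ⟨_, ⟨a, haff, rfl⟩, rfl⟩, hxa, haV⟩ :=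
    (Scheme.IsQuasiAffine.isBasis_basicOpen Y).exists_subset_of_mem_open hi (V i).2
  let b := f.appTop a
  let W := X.basicOpen b
  have hW : W = f ⁻¹ᵁ Y.basicOpen a := (Scheme.preimage_basicOpen_top f a).symm
  have hxW : x ∈ W := by rw [hW]; exact hxa
  haveI : Scheme.IsQuasiAffine (W : Scheme.{u}) :=
    isQuasiAffine_of_le (V := f ⁻¹ᵁ V i) (hW ▸ fun y hy => haV hy)
      (isCompact_basicOpen X isCompact_univ b) (hq i)
  obtain ⟨_, ⟨_, ⟨r, hr, rfl⟩, rfl⟩, hxr, -⟩ :=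
    (Scheme.IsQuasiAffine.isBasis_basicOpen (W : Scheme.{u})).exists_subset_of_mem_open
      (Set.mem_univ (⟨x, hxW⟩ : W.toScheme)) isOpen_univ
  let r' : Γ(X, W.ι ''ᵁ ⊤) := (W.ι.appIso ⊤).inv r
  let e₀ : Opposite.op (W.ι ''ᵁ ⊤) ⟶ Opposite.op W := eqToHom (by rw [Scheme.Opens.ι_image_top])
  let s : Γ(X, W) := X.presheaf.map e₀ r'
  have hs : W.ι ''ᵁ (W.toScheme.basicOpen r) = X.basicOpen s :=
    (Scheme.image_basicOpen W.ι r).trans (Scheme.basicOpen_res_eq (X := X) r' e₀).symm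
  clear_value s
  have hsaff : IsAffineOpen (X.basicOpen s) := hs ▸ hr.image_of_isOpenImmersion W.ι
  have hxs : x ∈ X.basicOpen s := hs ▸ ⟨⟨x, hxW⟩, hxr, rfl⟩
  haveI := isLocalization_basicOpen_of_qcqs (X := X) (U := ⊤) isCompact_univ
    (.of_quasiSeparatedSpace _) b
  obtain ⟨⟨h, ⟨_, n, rfl⟩⟩, hh⟩ := IsLocalization.surj (Submonoid.powers b) (S := Γ(X, W)) s
  have e : X.basicOpen (h * b) = X.basicOpen s := by
    rw [Scheme.basicOpen_mul]
    have h1 := congrArg X.basicOpen hh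
    rw [Scheme.basicOpen_mul] at h1
    change _ ⊓ X.basicOpen (X.presheaf.map _ (b ^ n)) = X.basicOpen (X.presheaf.map _ h) at h1
    rw [Scheme.basicOpen_res, Scheme.basicOpen_res] at h1
    rw [inf_comm (X.basicOpen h), ← show W ⊓ X.basicOpen h = X.basicOpen b ⊓ X.basicOpen h from rfl,
      ← h1]
    refine le_antisymm inf_le_left (le_inf le_rfl ?_)
    refine le_inf (X.basicOpen_le s) ?_
    rcases n with _ | n
    · rw [pow_zero, Scheme.basicOpen_one]; exact le_top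
    · rw [Scheme.basicOpen_pow _ _ n.succ_pos]; exact X.basicOpen_le s
  exact ⟨h * b, e ▸ hsaff, e ▸ hxs⟩

/-- quasi-affineness of a morphism may be checked on an open cover by quasi-affines -/
theorem of_cover (f : X ⟶ Y) {ι : Type*} (V : ι → Y.Opens) (hV : iSup V = ⊤)
    (hVa : ∀ i, IsAffineOpen (V i)) (hq : ∀ i, Scheme.IsQuasiAffine (f ⁻¹ᵁ V i : Scheme.{u})) :
    Mor2.IsQuasiAffine f := by
  haveI : QuasiCompact f := IsZariskiLocalAtTarget.of_iSup_eq_top V hV fun i => by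
    haveI : IsAffine (V i).toScheme := hVa i
    haveI : CompactSpace ↥((f ⁻¹ᵁ V i).toScheme) := (hq i).toCompactSpace
    exact quasiCompact_of_compactSpace _
  refine ⟨‹_›, fun W hW => ?_⟩
  haveI : IsAffine W.toScheme := hW
  choose i hi using fun w : W.toScheme =>
    TopologicalSpace.Opens.mem_iSup.mp (hV.ge (Set.mem_univ (W.ι.base w)) : W.ι.base w ∈ iSup V)
  choose D hD hwD hDV using fun w : W.toScheme =>
    W.toScheme.isBasis_affineOpens.exists_subset_of_mem_open (hi w : w ∈ W.ι ⁻¹ᵁ V (i w)) (W.ι ⁻¹ᵁ V (i w)).2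
  choose D' hD' hDD' using fun w => (hD w)
  refine isQuasiAffine_of_cover (f ∣_ W) D' ?_ fun w => ?_
  · refine eq_top_iff.mpr fun w _ => TopologicalSpace.Opens.mem_iSup.mpr ⟨w, ?_⟩
    have := hwD w; rwa [← hDD'] at this
  · let U := (f ⁻¹ᵁ W).ι ''ᵁ ((f ∣_ W) ⁻¹ᵁ D' w)
    have hUV : U ≤ f ⁻¹ᵁ V (i w) := by
      rintro _ ⟨y, hy, rfl⟩
      have : (f ∣_ W).base y ∈ D w := by rw [← hDD']; exact hy
      have := hDV w this
      show f.base ((f ⁻¹ᵁ W).ι.base y) ∈ V (i w)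
      rw [← Scheme.Hom.comp_apply, ← morphismRestrict_ι, Scheme.Hom.comp_apply]
      exact this
    haveI : QuasiCompact (f ∣_ W) := IsZariskiLocalAtTarget.restrict ‹_› W
    have hUc : IsCompact (U : Set X) :=
      ((QuasiCompact.isCompact_preimage (f := f ∣_ W) _ (D' w).2 (hD' w).isCompact).image
        (f ⁻¹ᵁ W).ι.continuous)
    haveI := isQuasiAffine_of_le hUV hUc (hq (i w))
    exact isQuasiAffine_of_iso ((f ⁻¹ᵁ W).ι.isoImage ((f ∣_ W) ⁻¹ᵁ D' w)).hom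

theorem comp (f : X ⟶ Y) (g : Y ⟶ Z) (hf : Mor2.IsQuasiAffine f) (hg : Mor2.IsQuasiAffine g) :
    Mor2.IsQuasiAffine (f ≫ g) := by
  haveI := hf.1
  haveI := hg.1
  refine ⟨inferInstance, fun V hV => ?_⟩
  haveI := hg.2 V hV
  let U := g ⁻¹ᵁ V
  refine isQuasiAffine_of_cover (f ∣_ U) (fun D : U.toScheme.affineOpens => D.1)
    (iSup_affineOpens_eq_top _) fun D => ?_
  haveI := hf.2 (U.ι ''ᵁ D.1) (D.2.image_of_isOpenImmersion U.ι)
  have e : f ⁻¹ᵁ (U.ι ''ᵁ D.1) = (f ⁻¹ᵁ U).ι ''ᵁ ((f ∣_ U) ⁻¹ᵁ D.1) :=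
    (image_morphismRestrict_preimage f U D.1).symm
  rw [e] at this
  exact isQuasiAffine_of_iso ((f ⁻¹ᵁ U).ι.isoImage ((f ∣_ U) ⁻¹ᵁ D.1)).hom

theorem of_isImmersion (f : X ⟶ Y) [IsImmersion f] [QuasiCompact f] : Mor2.IsQuasiAffine f := by
  refine ⟨‹_›, fun V hV => ?_⟩
  haveI : IsAffine V.toScheme := hV
  haveI : QuasiCompact (f ∣_ V) := IsZariskiLocalAtTarget.restrict ‹_› V
  haveI : IsImmersion (f ∣_ V) := IsZariskiLocalAtTarget.restrict ‹_› V
  haveI : CompactSpace ↥((f ⁻¹ᵁ V).toScheme) := QuasiCompact.compactSpace_of_compactSpace (f ∣_ V)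
  exact .of_isImmersion (f ∣_ V)

theorem of_isPullback {X' Y' : Scheme.{u}} {f : X ⟶ Y} {f' : X' ⟶ Y'} {a : X' ⟶ X} {b : Y' ⟶ Y}
    (sq : IsPullback a f' f b) (hf : Mor2.IsQuasiAffine f) : Mor2.IsQuasiAffine f' := by
  have h1 : ∀ y : Y', ∃ V : Y.Opens, IsAffineOpen V ∧ b.base y ∈ V := fun y => by
    obtain ⟨_, ⟨V, hV, rfl⟩, hyV, -⟩ :=
      Y.isBasis_affineOpens.exists_subset_of_mem_open (Set.mem_univ (b.base y)) isOpen_univ
    exact ⟨V, hV, hyV⟩
  choose V' hVa hyV using h1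
  have h2 : ∀ y : Y', ∃ W : Y'.Opens, IsAffineOpen W ∧ y ∈ W ∧ W ≤ b ⁻¹ᵁ V' y := fun y => by
    obtain ⟨_, ⟨W, hW, rfl⟩, hyW, hWV⟩ :=
      Y'.isBasis_affineOpens.exists_subset_of_mem_open (show y ∈ b ⁻¹ᵁ V' y from hyV y) (b ⁻¹ᵁ V' y).2
    exact ⟨W, hW, hyW, hWV⟩
  choose W' hWa hyW hWV using h2
  refine of_cover f' W' (eq_top_iff.mpr fun y _ => TopologicalSpace.Opens.mem_iSup.mpr ⟨y, hyW y⟩) hWa
    fun y => ?_
  haveI := hf.2 _ (hVa y)
  haveI : IsAffine (W' y : Scheme.{u}) := hWa y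
  haveI : IsAffine (V' y : Scheme.{u}) := hVa y
  have hle : W' y ≤ b ⁻¹ᵁ V' y := hWV y
  let i : (W' y : Scheme.{u}) ⟶ (V' y : Scheme.{u}) := b.resLE (V' y) (W' y) hle
  have s1 : IsPullback ((f' ⁻¹ᵁ W' y).ι ≫ a) (f' ∣_ W' y) f ((W' y).ι ≫ b) :=
    (isPullback_morphismRestrict f' (W' y)).flip.paste_horiz sq
  rw [show (W' y).ι ≫ b = i ≫ (V' y).ι from (Scheme.Hom.resLE_comp_ι _ _).symm] at s1
  let c : (f' ⁻¹ᵁ W' y).toScheme ⟶ (f ⁻¹ᵁ V' y).toScheme :=
    (isPullback_morphismRestrict f (V' y)).flip.lift ((f' ⁻¹ᵁ W' y).ι ≫ a) ((f' ∣_ W' y) ≫ i)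
      (by rw [s1.w, Category.assoc])
  have s2 : IsPullback c (f' ∣_ W' y) (f ∣_ V' y) i := by
    refine IsPullback.of_right ?_ (IsPullback.lift_snd _ _ _ _) (isPullback_morphismRestrict f (V' y)).flip
    rw [IsPullback.lift_fst]
    exact s1
  haveI : IsAffineHom c := MorphismProperty.of_isPullback (P := @IsAffineHom) s2.flip inferInstance
  exact .of_isAffineHom c

theorem of_comp (f : X ⟶ Y) (g : Y ⟶ Z) [QuasiSeparated g] (h : Mor2.IsQuasiAffine (f ≫ g)) :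
    Mor2.IsQuasiAffine f := by
  let γ : X ⟶ pullback (f ≫ g) g := pullback.lift (𝟙 X) f (by rw [Category.id_comp])
  haveI : IsImmersion γ := by
    haveI : IsImmersion (γ ≫ pullback.fst (f ≫ g) g) := by rw [pullback.lift_fst]; infer_instance
    exact IsImmersion.of_comp γ (pullback.fst (f ≫ g) g)
  haveI : QuasiCompact γ := by
    haveI : QuasiCompact (γ ≫ pullback.fst (f ≫ g) g) := by rw [pullback.lift_fst]; infer_instance
    exact QuasiCompact.of_comp γ (pullback.fst (f ≫ g) g)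
  have := comp γ _ (of_isImmersion γ) (of_isPullback (IsPullback.of_hasPullback (f ≫ g) g) h)
  rwa [pullback.lift_snd] at this

theorem of_isEmbedding (f : X ⟶ Y) [QuasiCompact f] (hf : Topology.IsEmbedding f.base) :
    Mor2.IsQuasiAffine f := by
  refine ⟨‹_›, fun V hV => ?_⟩
  haveI : IsAffine V.toScheme := hV
  haveI : QuasiCompact (f ∣_ V) := IsZariskiLocalAtTarget.restrict ‹_› V
  haveI : CompactSpace ↥((f ⁻¹ᵁ V).toScheme) := QuasiCompact.compactSpace_of_compactSpace (f ∣_ V)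
  set g := f ∣_ V
  have hg : Topology.IsEmbedding g.base := by
    have h2 := hf.comp (f ⁻¹ᵁ V).ι.isOpenEmbedding.isEmbedding
    rw [← TopCat.coe_comp, ← Scheme.Hom.comp_base, ← morphismRestrict_ι, Scheme.Hom.comp_base,
      TopCat.coe_comp] at h2
    exact Topology.IsEmbedding.of_comp g.continuous V.ι.continuous h2
  refine Scheme.IsQuasiAffine.of_forall_exists_mem_basicOpen _ fun x => ?_
  obtain ⟨_, ⟨U, hU, rfl⟩, hxU, -⟩ := (f ⁻¹ᵁ V).toScheme.isBasis_affineOpens.exists_subset_of_mem_open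
    (Set.mem_univ x) isOpen_univ
  obtain ⟨O, hO, hOU⟩ := hg.isInducing.isOpen_iff.mp U.2
  obtain ⟨_, ⟨_, ⟨a, haa, rfl⟩, rfl⟩, hxa, haO⟩ :=
    (Scheme.IsQuasiAffine.isBasis_basicOpen V.toScheme).exists_subset_of_mem_open
      (show g.base x ∈ O from (hOU ▸ hxU : x ∈ g.base ⁻¹' O)) hO
  refine ⟨g.appTop a, ?_, by rw [← Scheme.preimage_basicOpen_top]; exact hxa⟩
  have hle : (f ⁻¹ᵁ V).toScheme.basicOpen (g.appTop a) ≤ U := fun y hy => by
    rw [← Scheme.preimage_basicOpen_top] at hy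
    show y ∈ (U : Set _)
    rw [← show g.base ⁻¹' O = (U : Set _) from hOU]
    exact haO hy
  have key := hU.basicOpen ((f ⁻¹ᵁ V).toScheme.presheaf.map (homOfLE le_top).op (g.appTop a))
  rwa [Scheme.basicOpen_res, inf_eq_right.mpr hle] at key

end RichLib.QA
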