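import Mathlib
import Groth.Agent.RichLib.ModFlatGlobal
import Groth.Agent.RichLib.FlatLociOpen
import Groth.Agent.S12442

/-!
# EGA IV 11.2.6 for modules, in the form of pullback squares
-/

set_option autoImplicit false
universe u

open CategoryTheory CategoryTheory.Limits AlgebraicGeometry TopologicalSpace

noncomputable section

namespace RichLib.ModFlat

open RichLib.LimBC

/-- flatness at a point transports along an open immersion of squares -/
theorem isFlatOverAt_congr {X' X T' T : Scheme.{u}} {f' : X' ⟶ T'} {f : X ⟶ T} (j : X' ⟶ X)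
    [IsOpenImmersion j] (l : T' ⟶ T) [IsOpenImmersion l] (e : f' ≫ l = j ≫ f)
    {M' : X'.Modules} {M : X.Modules} (eM : M' ≅ (Scheme.Modules.pullback j).obj M) (x : X') :
    FlatMod.IsFlatOverAt f' M' x ↔ FlatMod.IsFlatOverAt f M (j x) := by
  rw [← isFlatOverAt_comp_target f' l, isFlatOverAt_iso _ eM, e, isFlatOverAt_comp_source j f]

/-- the system with two stages -/
def twoSys {Y T T' : Scheme.{u}} (t : T ⟶ Y) (h : T' ⟶ T) [IsAffineHom t] [IsAffineHom (h ≫ t)] :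
    Sys (ULift.{u} (Fin 2)) Y :=
  let F : ComposableArrows Scheme.{u} 1 := ComposableArrows.mk₁ h
  let down : ULift.{u} (Fin 2) ⥤ Fin 2 :=
    { obj := fun a => a.down, map := fun {a b} φ => homOfLE (show a.down ≤ b.down from (leOfHom φ : a ≤ b)) }
  let d : ∀ a : Fin 2, F.obj a ⟶ Y := fun a =>
    match a with
    | ⟨0, _⟩ => h ≫ t
    | ⟨1, _⟩ => t
  have hd : ∀ {a b : Fin 2} (φ : a ⟶ b), F.map φ ≫ d b = d a := by
    intro a b φ
    match a, b, leOfHom φ with
    | ⟨0, _⟩, ⟨0, _⟩, _ => exact (congrArg (· ≫ _) (F.map_id _)).trans (Category.id_comp _)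
    | ⟨0, _⟩, ⟨1, _⟩, _ => rfl
    | ⟨1, _⟩, ⟨1, _⟩, _ => exact (congrArg (· ≫ _) (F.map_id _)).trans (Category.id_comp _)
  let tX : IsInitial (⟨0⟩ : ULift.{u} (Fin 2)) :=
    IsInitial.ofUniqueHom (fun a => homOfLE (show (0 : Fin 2) ≤ a.down from Fin.zero_le _)) fun _ _ =>
      Subsingleton.elim _ _
  { D := down ⋙ F
    t := fun a => d a.down
    w := fun φ => hd (down.map φ)
    c := coneOfDiagramInitial tX (down ⋙ F)
    hc := limitOfDiagramInitial tX _
    affine := fun a => by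
      match a with
      | ⟨⟨0, _⟩⟩ => exact ‹IsAffineHom (h ≫ t)›
      | ⟨⟨1, _⟩⟩ => exact ‹IsAffineHom t›
    s := h ≫ t
    hs := fun a => hd (down.map (tX.to a)) }

/-- flatness at a point is stable under base change along a morphism over the base -/
theorem isFlatOverAt_baseChange {Y T T' X : Scheme.{u}} (f : X ⟶ Y) [LocallyOfFinitePresentation f]
    (M : X.Modules) [Coh.IsQCoh M] (hM : CohB1.IsFP M) (t : T ⟶ Y) (h : T' ⟶ T) (t' : T' ⟶ Y)
    [IsAffineHom t] [IsAffineHom t'] (ht' : h ≫ t = t') (m : pullback f t' ⟶ pullback f t)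
    (hm₁ : m ≫ pullback.fst f t = pullback.fst f t') (hm₂ : m ≫ pullback.snd f t = pullback.snd f t' ≫ h)
    (x : ↥(pullback f t'))
    (hx : FlatMod.IsFlatOverAt (pullback.snd f t) ((Scheme.Modules.pullback (pullback.fst f t)).obj M) (m x)) :
    FlatMod.IsFlatOverAt (pullback.snd f t') ((Scheme.Modules.pullback (pullback.fst f t')).obj M) x := by
  subst ht'
  haveI : IsCofiltered (ULift.{u} (Fin 2)) := inferInstance
  let B := twoSys t h
  let y : ↥(pullback f B.s) := by exact x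
  refine (isFlatOverAt_iff_exists_stage B f M hM y).mpr ⟨⟨1⟩, ?_⟩
  have : pbπ B f ⟨1⟩ = m := pullback.hom_ext ((pbπ_fst B f _).trans hm₁.symm) ((pbπ_snd B f _).trans hm₂.symm)
  rw [this]
  exact hx

variable {I : Type u} [SmallCategory I] [IsCofiltered I] {Y : Scheme.{u}} (B : RichLib.LimBC.Sys I Y)
  {X : Scheme.{u}} (f : X ⟶ Y)

/-- flatness of a module over the limit holds at some stage -/
theorem exists_isFlatOver_stage [LocallyOfFinitePresentation f] (M : X.Modules) [Coh.IsQCoh M]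
    (hM : CohB1.IsFP M) [CompactSpace X]
    (h : FlatMod.IsFlatOver (pullback.snd f B.s) ((Scheme.Modules.pullback (pullback.fst f B.s)).obj M)) :
    ∃ i, FlatMod.IsFlatOver (pullback.snd f (B.t i)) ((Scheme.Modules.pullback (pullback.fst f (B.t i))).obj M) := by
  classical
  let Mi : ∀ i, (pullback f (B.t i)).Modules := fun i => (Scheme.Modules.pullback (pullback.fst f (B.t i))).obj M
  let O : ∀ i, (pullback f (B.t i)).Opens := fun i =>
    haveI : Coh.IsQCoh (Mi i) := KFlatLib.isQCoh_pullback (pullback.fst f (B.t i)) M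
    ⟨{y | FlatMod.IsFlatOverAt (pullback.snd f (B.t i)) (Mi i) y},
      RichLib.FlatLoci.isOpen_setOf_isFlatOverAt (pullback.snd f (B.t i)) (Mi i) (isFP_pullback _ hM)⟩
  choose i hi using fun x => (isFlatOverAt_iff_exists_stage B f M hM x).mp (h x)
  haveI : CompactSpace ↥(pullback f B.s) := by
    haveI : IsAffineHom (pullback.fst f B.s) := (pb B f).affine_s
    exact QuasiCompact.compactSpace_of_compactSpace (pullback.fst f B.s)
  obtain ⟨T, hT⟩ := isCompact_univ.elim_finite_subcover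
    (fun x => ((pbπ B f (i x)) ⁻¹ᵁ O (i x) : Set ↥(pullback f B.s))) (fun x => TopologicalSpace.Opens.isOpen _)
    fun x _ => Set.mem_iUnion.mpr ⟨x, hi x⟩
  obtain ⟨j, hj⟩ := IsCofiltered.inf_objs_exists (T.image i)
  have hmem : ∀ x : T, i x.1 ∈ T.image i := fun x => Finset.mem_image_of_mem i x.2
  let V : (pullback f (B.t j)).Opens := ⨆ x : T, pbMap B f (hj (hmem x)).some ⁻¹ᵁ O (i x.1)
  have hV : pbπ B f j ⁻¹ᵁ V = ⊤ := eq_top_iff.mpr fun x _ => by
    obtain ⟨y, hyT, hy⟩ := Set.mem_iUnion₂.mp (hT (Set.mem_univ x))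
    refine TopologicalSpace.Opens.mem_iSup.mpr ⟨⟨y, hyT⟩, ?_⟩
    show (pbMap B f _).base ((pbπ B f j).base x) ∈ O (i y)
    rw [← Scheme.Hom.comp_apply, pbπ_map]
    exact hy
  haveI := (pb B f).compactSpace_obj
  haveI : ∀ {a b : I} (φ : a ⟶ b), IsAffineHom ((pb B f).D.map φ) := fun φ => (pb B f).affine_map φ
  obtain ⟨k, φ, hk⟩ := exists_map_eq_top (pb B f).D (pb B f).c (pb B f).hc V hV
  refine ⟨k, fun y => ?_⟩
  have hy : (pbMap B f φ).base y ∈ V := hk.ge (Set.mem_univ y)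
  obtain ⟨x, hx⟩ := TopologicalSpace.Opens.mem_iSup.mp hy
  haveI := B.affine k
  haveI := B.affine j
  haveI := B.affine (i x.1)
  refine isFlatOverAt_baseChange f M hM (B.t j) (B.D.map φ) (B.t k) (B.w φ) (pbMap B f φ)
    (pbMap_fst B f φ) (pbMap_snd B f φ) y ?_
  exact isFlatOverAt_baseChange f M hM (B.t (i x.1)) (B.D.map (hj (hmem x)).some) (B.t j) (B.w _)
    (pbMap B f _) (pbMap_fst B f _) (pbMap_snd B f _) _ hx

section Squares

variable {J : Type u} [SmallCategory J] [IsCofiltered J] {D : J ⥤ Scheme.{u}} {c : Limits.Cone D}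
  {i₀ : J} {X₀ Y₀ : Scheme.{u}} (f₀ : X₀ ⟶ Y₀) (g₀ : Y₀ ⟶ D.obj i₀)

/-- comparison with the canonical square -/
theorem exists_iso_canonical {T X Y : Scheme.{u}} {t : T ⟶ D.obj i₀} {f : X ⟶ Y} {g : Y ⟶ T} {qY : Y ⟶ Y₀}
    {qX : X ⟶ X₀} (hY : IsPullback qY g g₀ t) (hX : IsPullback qX f f₀ qY) :
    ∃ (eY : Y ≅ pullback g₀ t) (eX : X ≅ pullback f₀ (pullback.fst g₀ t)),
      eY.hom ≫ pullback.fst g₀ t = qY ∧ eY.hom ≫ pullback.snd g₀ t = g ∧
      eX.hom ≫ pullback.fst f₀ _ = qX ∧ eX.hom ≫ pullback.snd f₀ _ = f ≫ eY.hom := by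
  have hX' : IsPullback qX (f ≫ hY.isoPullback.hom) f₀ (pullback.fst g₀ t) :=
    hX.of_iso (Iso.refl _) (Iso.refl _) hY.isoPullback (Iso.refl _) (by simp) (by simp) (by simp) (by simp)
  exact ⟨hY.isoPullback, hX'.isoPullback, hY.isoPullback_hom_fst, hY.isoPullback_hom_snd,
    hX'.isoPullback_hom_fst, hX'.isoPullback_hom_snd⟩

theorem isFlatOverAt_canonical {X Y P Q : Scheme.{u}} {f : X ⟶ Y} {qX : X ⟶ X₀} {f' : P ⟶ Q} {p : P ⟶ X₀}
    (eY : Y ≅ Q) (eX : X ≅ P) (h₁ : eX.hom ≫ p = qX) (h₂ : eX.hom ≫ f' = f ≫ eY.hom) (F₀ : X₀.Modules) (x : X) :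
    FlatMod.IsFlatOverAt f ((Scheme.Modules.pullback qX).obj F₀) x ↔
      FlatMod.IsFlatOverAt f' ((Scheme.Modules.pullback p).obj F₀) (eX.hom x) :=
  isFlatOverAt_congr eX.hom eY.hom h₂.symm
    ((Scheme.Modules.pullbackCongr h₁.symm).app F₀ ≪≫ ((Scheme.Modules.pullbackComp _ _).app F₀).symm) x

end Squares

end RichLib.ModFlat
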