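import Mathlib
import Groth.Agent.ProConsLib.Sch
import Groth.Agent.RichLib.LimitBaseChange

/-!
# The topology of a limit of schemes with affine transition morphisms (EGA IV 8.3)
-/

set_option autoImplicit false
universe u

open AlgebraicGeometry CategoryTheory Limits Topology Set
open Groth.Agent.ProConsLib

noncomputable section

namespace RichLib.LimTop

variable {I : Type u} [SmallCategory I] [IsCofiltered I] (D : I ⥤ Scheme.{u}) (c : Cone D) (hc : IsLimit c)
  [∀ (i j : I) (f : i ⟶ j), IsAffineHom (D.map f)]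

theorem map_comp_apply {i j k : I} (a : i ⟶ j) (b : j ⟶ k) (x : D.obj i) :
    D.map (a ≫ b) x = D.map b (D.map a x) := by
  rw [D.map_comp]; rfl

theorem π_map_apply {i j : I} (a : i ⟶ j) (s : c.pt) : D.map a (c.π.app i s) = c.π.app j s := by
  rw [← Scheme.Hom.comp_apply, c.w]

/-- the part of a system over one index -/
def sys (i : I) : RichLib.LimBC.Sys (Over i) (D.obj i) where
  D := Over.forget i ⋙ D
  t φ := D.map φ.hom
  w a := by dsimp; rw [← D.map_comp, Over.w a]
  c := c.whisker (Over.forget i)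
  hc := (Functor.Initial.isLimitWhiskerEquiv (Over.forget i) c).symm hc
  affine φ := inferInstanceAs (IsAffineHom (D.map φ.hom))
  s := c.π.app i
  hs φ := c.w φ.hom

include hc in
/-- the image of a projection is the intersection of the images of the transition maps -/
theorem range_π (i : I) :
    Set.range (c.π.app i) = ⋂ (j : I) (φ : j ⟶ i), Set.range (D.map φ) := by
  refine subset_antisymm ?_ fun x hx => ?_
  · rintro _ ⟨s, rfl⟩
    exact mem_iInter₂.mpr fun j φ => ⟨c.π.app j s, π_map_apply D c φ s⟩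
  · let A := sys D c hc i
    let g := (D.obj i).fromSpecResidueField x
    let B := RichLib.LimBC.pb A g
    haveI : ∀ φ : Over i, Nonempty (B.D.obj φ) := fun φ => by
      obtain ⟨y, hy⟩ := mem_iInter₂.mp hx φ.left φ.hom
      obtain ⟨z, -⟩ := Scheme.Pullback.exists_preimage_pullback (f := g) (g := D.map φ.hom)
        (IsLocalRing.closedPoint _) y (by rw [Scheme.fromSpecResidueField_apply, hy])
      exact ⟨z⟩
    haveI : ∀ φ : Over i, CompactSpace (B.D.obj φ) := fun φ => B.compactSpace_obj φ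
    haveI : ∀ {a b : Over i} (e : a ⟶ b), IsAffineHom (B.D.map e) := fun e => B.affine_map e
    obtain ⟨z⟩ := Scheme.nonempty_of_isLimit B.D B.c B.hc
    have h : g (pullback.fst g A.s z) = c.π.app i (pullback.snd g A.s z) := by
      rw [← Scheme.Hom.comp_apply, pullback.condition]; rfl
    exact ⟨pullback.snd g A.s z, h.symm.trans (Scheme.fromSpecResidueField_apply _ _)⟩

theorem isProConstructible_range {X Y : Scheme.{u}} (f : X ⟶ Y) [QuasiCompact f] :
    ProCons.IsProConstructible (Set.range f) := by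
  rw [← image_univ]
  refine isProConstructible_image f ?_
  refine isProConstructible_iff_affine.mpr fun U hU => ?_
  exact @isClosed_univ _ (constructibleTopology U.toScheme)

include hc in
/-- an inclusion between pro- and ind-constructible sets which holds on the image of the limit holds on the
image of a stage -/
theorem exists_inter_range_subset {i : I} {A : Scheme.{u}} [CompactSpace A] (h : A ⟶ D.obj i) {E : Set A}
    (hE : ProCons.IsIndConstructible E) (H : h ⁻¹' Set.range (c.π.app i) ⊆ E) :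
    ∃ (j : I) (φ : j ⟶ i), h ⁻¹' Set.range (D.map φ) ⊆ E := by
  classical
  let F : Over i → Set A := fun φ => h ⁻¹' Set.range (D.map φ.hom)
  have hF : ∀ φ, ProCons.IsProConstructible (F φ) :=
    fun φ => isProConstructible_preimage h (isProConstructible_range (D.map φ.hom))
  have hsub : ⋂ φ, F φ ⊆ E := fun a ha => H (by
    show h a ∈ Set.range (c.π.app i)
    rw [range_π D c hc i]
    exact mem_iInter₂.mpr fun j φ => mem_iInter.mp ha (Over.mk φ))
  obtain ⟨J, hJ⟩ := exists_finset_inter_subset hE F hF hsub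
  obtain ⟨k, hk⟩ := IsCofiltered.inf_objs_exists J
  refine ⟨k.left, k.hom, fun a ha => hJ (mem_iInter₂.mpr fun φ hφ => ?_)⟩
  obtain ⟨e⟩ := hk hφ
  obtain ⟨y, hy⟩ := ha
  exact ⟨D.map e.left y, by rw [← map_comp_apply, Over.w e]; exact hy⟩

include hc in
theorem exists_inter_range_subset' {i : I} [CompactSpace (D.obj i)] {E : Set (D.obj i)}
    (hE : ProCons.IsIndConstructible E) (H : Set.range (c.π.app i) ⊆ E) :
    ∃ (j : I) (φ : j ⟶ i), Set.range (D.map φ) ⊆ E :=
  exists_inter_range_subset D c hc (𝟙 (D.obj i)) hE H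

theorem isProConstructible_of_isClosed {X : Scheme.{u}} {Z : Set X} (hZ : IsClosed Z) :
    ProCons.IsProConstructible Z := by
  refine isProConstructible_iff_affine.mpr fun U hU => ?_
  haveI : IsAffine U.toScheme := hU
  have h := hZ.preimage U.ι.continuous
  refine @IsClosed.mk U.toScheme (constructibleTopology U.toScheme) _ ?_
  obtain ⟨W, hW, hWeq⟩ :=
    (PrespectralSpace.isTopologicalBasis (X := U.toScheme)).open_eq_sUnion h.isOpen_compl
  rw [hWeq]
  exact @isOpen_sUnion _ (constructibleTopology U.toScheme) _ fun V hV =>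
    (hW hV).2.isOpen_constructibleTopology_of_isOpen (hW hV).1

theorem isIndConstructible_of_isOpen {X : Scheme.{u}} {Z : Set X} (hZ : IsOpen Z) :
    ProCons.IsIndConstructible Z :=
  isProConstructible_compl_iff.mp (isProConstructible_of_isClosed hZ.isClosed_compl)

theorem isIndConstructible_union {X : Scheme.{u}} {s t : Set X} (hs : ProCons.IsIndConstructible s)
    (ht : ProCons.IsIndConstructible t) : ProCons.IsIndConstructible (s ∪ t) :=
  isIndConstructible_iff_affine.mpr fun U hU =>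
    @IsOpen.union U.toScheme (U.ι ⁻¹' s) (U.ι ⁻¹' t) (constructibleTopology U.toScheme)
      (isIndConstructible_iff_affine.mp hs U hU) (isIndConstructible_iff_affine.mp ht U hU)

include hc in
theorem quasiCompact_π (i : I) : QuasiCompact (c.π.app i) :=
  haveI : ∀ {a b : I} (f : a ⟶ b), IsAffineHom (D.map f) := fun f => inferInstance
  haveI := isAffineHom_π_app D c hc i
  inferInstance

include hc in
/-- a quasi-compact open subset of the limit over a given index comes from a quasi-compact open -/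
theorem exists_preimage_eq_over (i₀ : I) (U : c.pt.Opens) (hU : IsCompact (U : Set c.pt)) :
    ∃ (j : I) (_ : j ⟶ i₀) (V : (D.obj j).Opens), IsCompact (V : Set (D.obj j)) ∧ c.π.app j ⁻¹ᵁ V = U := by
  haveI : ∀ {a b : I} (f : a ⟶ b), IsAffineHom (D.map f) := fun f => inferInstance
  obtain ⟨k, V, hV, rfl⟩ := exists_preimage_eq D c hc U hU
  obtain ⟨j, a, b, -⟩ := IsCofilteredOrEmpty.cone_objs k i₀
  refine ⟨j, b, D.map a ⁻¹ᵁ V, QuasiCompact.isCompact_preimage _ V.2 hV, ?_⟩
  rw [← Scheme.Hom.comp_preimage, c.w]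

include hc in
theorem isCompact_of_isOpen_of_isProConstructible [CompactSpace c.pt] {W : Set c.pt} (hW : IsOpen W)
    (hp : ProCons.IsProConstructible W) : IsCompact W := by
  classical
  choose U hU hxU hUW using fun x : W =>
    exists_isAffineOpen_mem_and_subset (X := c.pt) (x := x.1) (U := ⟨W, hW⟩) x.2
  obtain ⟨J, hJ⟩ := exists_finset_inter_subset (isIndConstructible_compl_iff.mpr hp)
    (fun x : W => ((U x : Set c.pt))ᶜ) (fun x => isProConstructible_of_isClosed (U x).2.isClosed_compl)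
    (fun y hy hyW => mem_iInter.mp hy ⟨y, hyW⟩ (hxU ⟨y, hyW⟩))
  have : W = ⋃ x ∈ J, (U x : Set c.pt) := by
    refine subset_antisymm (fun y hy => ?_) (iUnion₂_subset fun x _ => hUW x)
    by_contra hny
    exact hJ (mem_iInter₂.mpr fun x hx hyx => hny (mem_iUnion₂.mpr ⟨x, hx, hyx⟩)) hy
  rw [this]
  exact J.finite_toSet.isCompact_biUnion fun x _ => (hU x).isCompact

include hc in
theorem compactSpace_pt (i : I) [CompactSpace (D.obj i)] : CompactSpace c.pt :=
  haveI := quasiCompact_π D c hc i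
  QuasiCompact.compactSpace_of_compactSpace (c.π.app i)

include hc in
/-- openness of the preimage of a locally constructible set holds at some stage -/
theorem exists_isOpen_stage {i : I} [CompactSpace (D.obj i)] {Z : Set (D.obj i)}
    (hZ : IsLocallyConstructible Z) (H : IsOpen ((c.π.app i) ⁻¹' Z)) :
    ∃ (j : I) (φ : j ⟶ i), IsOpen ((D.map φ) ⁻¹' Z) := by
  haveI := compactSpace_pt D c hc i
  obtain ⟨j, a, V, hV, hVW⟩ := exists_preimage_eq_over D c hc i ⟨_, H⟩
    (isCompact_of_isOpen_of_isProConstructible D c hc H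
      (isProConstructible_preimage _ (isProConstructible_of_isLocallyConstructible hZ)))
  have hVW' : (c.π.app j) ⁻¹' (V : Set (D.obj j)) = (c.π.app i) ⁻¹' Z :=
    congrArg (fun U : c.pt.Opens => (U : Set c.pt)) hVW
  have hmem : ∀ s, c.π.app j s ∈ (V : Set (D.obj j)) ↔ c.π.app j s ∈ (D.map a) ⁻¹' Z := fun s => by
    show s ∈ (c.π.app j) ⁻¹' (V : Set (D.obj j)) ↔ _
    rw [hVW', mem_preimage, mem_preimage, π_map_apply]
  haveI : CompactSpace (D.obj j) := QuasiCompact.compactSpace_of_compactSpace (D.map a)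
  haveI : CompactSpace (V : Scheme.{u}) := isCompact_iff_compactSpace.mp hV
  obtain ⟨k₁, b₁, h₁⟩ := exists_inter_range_subset D c hc V.ι
    (isIndConstructible_preimage V.ι (isIndConstructible_preimage (D.map a)
      (isIndConstructible_of_isLocallyConstructible hZ)))
    (fun v ⟨s, hs⟩ => by
      show V.ι v ∈ (D.map a) ⁻¹' Z
      rw [← hs]
      exact (hmem s).mp (by rw [hs]; exact v.2))
  obtain ⟨k₂, b₂, h₂⟩ := exists_inter_range_subset' D c hc (i := j)
    (E := ((D.map a) ⁻¹' Z)ᶜ ∪ (V : Set (D.obj j)))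
    (isIndConstructible_union (isIndConstructible_compl_iff.mpr (isProConstructible_preimage _
      (isProConstructible_of_isLocallyConstructible hZ))) (isIndConstructible_of_isOpen V.2))
    (by
      rintro _ ⟨s, rfl⟩
      by_cases h : c.π.app j s ∈ (D.map a) ⁻¹' Z
      · exact Or.inr ((hmem s).mpr h)
      · exact Or.inl h)
  obtain ⟨k, e₁, e₂, he⟩ := IsCofiltered.cospan b₁ b₂
  refine ⟨k, e₁ ≫ b₁ ≫ a, ?_⟩
  have : (D.map (e₁ ≫ b₁ ≫ a)) ⁻¹' Z = (D.map (e₁ ≫ b₁)) ⁻¹' (V : Set (D.obj j)) := by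
    ext y
    rw [mem_preimage, mem_preimage, ← Category.assoc, map_comp_apply D (e₁ ≫ b₁) a y]
    constructor
    · intro hy
      rcases h₂ ⟨D.map e₂ y, by rw [← map_comp_apply, ← he]⟩ with h | h
      · exact absurd hy h
      · exact h
    · intro hy
      exact h₁ (show (⟨_, hy⟩ : (V : Scheme.{u})) ∈ _ from ⟨D.map e₁ y, (map_comp_apply D e₁ b₁ y).symm⟩)
  rw [this]
  exact V.2.preimage (D.map _).continuous

end RichLib.LimTop

namespace RichLib.LimTop

variable {I : Type u} [SmallCategory I] [IsCofiltered I] (D : I ⥤ Scheme.{u}) (c : Cone D) (hc : IsLimit c)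
  [∀ (i j : I) (f : i ⟶ j), IsAffineHom (D.map f)]

include hc in
theorem isDominant_π (i : I) (h : ∀ (j : I) (φ : j ⟶ i), IsDominant (D.map φ)) : IsDominant (c.π.app i) := by
  refine ⟨dense_iff_inter_open.mpr fun U hU ⟨x, hx⟩ => ?_⟩
  obtain ⟨W, hW, hxW, hWU⟩ := exists_isAffineOpen_mem_and_subset (X := D.obj i) (x := x) (U := ⟨U, hU⟩) hx
  haveI : ∀ φ : Over i, Nonempty ((opensDiagram D i W).obj φ) := fun φ => by
    obtain ⟨_, hy, y, rfl⟩ := (h φ.left φ.hom).denseRange.inter_open_nonempty W W.2 ⟨x, hxW⟩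
    exact ⟨⟨y, hy⟩⟩
  haveI : ∀ φ : Over i, CompactSpace ((opensDiagram D i W).obj φ) := fun φ =>
    isCompact_iff_compactSpace.mp (QuasiCompact.isCompact_preimage (f := D.map φ.hom) _ W.2 hW.isCompact)
  haveI : ∀ {a b : I} (f : a ⟶ b), IsAffineHom (D.map f) := fun f => inferInstance
  obtain ⟨z⟩ := Scheme.nonempty_of_isLimit (opensDiagram D i W) _ (isLimitOpensCone D c hc i W)
  obtain ⟨s, hs⟩ : ∃ s : c.pt, c.π.app i s ∈ W := ⟨z.1, z.2⟩
  exact ⟨c.π.app i s, hWU hs, s, rfl⟩

include hc in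
/-- a point of the limit in an open set has a basic neighbourhood coming from a stage over a given index -/
theorem exists_basis_over (i₀ : I) {U : c.pt.Opens} {s : c.pt} (hs : s ∈ U) :
    ∃ (j : I) (_ : j ⟶ i₀) (V : (D.obj j).Opens), IsAffineOpen V ∧ c.π.app j s ∈ V ∧ c.π.app j ⁻¹ᵁ V ≤ U := by
  haveI : ∀ {a b : I} (f : a ⟶ b), IsAffineHom (D.map f) := fun f => inferInstance
  obtain ⟨W, ⟨k, V, hV, rfl⟩, hsW, hWU⟩ :=
    TopologicalSpace.Opens.isBasis_iff_nbhd.mp (isBasis_preimage_isAffineOpen D c hc) hs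
  obtain ⟨j, a, b, -⟩ := IsCofilteredOrEmpty.cone_objs k i₀
  refine ⟨j, b, D.map a ⁻¹ᵁ V, hV.preimage _, ?_, ?_⟩
  · show D.map a (c.π.app j s) ∈ V
    rw [π_map_apply]; exact hsW
  · rwa [← Scheme.Hom.comp_preimage, c.w]

include hc in
theorem specializes_of_forall {s t : c.pt} (h : ∀ i, c.π.app i t ⤳ c.π.app i s) : t ⤳ s := by
  refine specializes_iff_forall_open.mpr fun U hU hs => ?_
  obtain ⟨i₀⟩ := IsCofiltered.nonempty (C := I)
  obtain ⟨j, -, V, -, hsV, hVU⟩ := exists_basis_over D c hc i₀ (U := ⟨U, hU⟩) hs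
  exact hVU (show t ∈ c.π.app j ⁻¹ᵁ V from (h j).mem_open V.2 hsV)

include hc in
theorem eq_of_forall {s t : c.pt} (h : ∀ i, c.π.app i t = c.π.app i s) : t = s :=
  (specializes_of_forall D c hc fun i => (h i).symm ▸ specializes_rfl).antisymm
    (specializes_of_forall D c hc fun i => (h i) ▸ specializes_rfl) |>.eq

include hc in
/-- constructible subsets of the limit come from a stage -/
theorem exists_isConstructible_preimage_eq (i₀ : I) [CompactSpace (D.obj i₀)] [QuasiSeparatedSpace (D.obj i₀)]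
    {Z : Set c.pt} (hZ : IsConstructible Z) :
    ∃ (i : I) (_ : i ⟶ i₀) (Zi : Set (D.obj i)), IsConstructible Zi ∧ (c.π.app i) ⁻¹' Zi = Z := by
  haveI := compactSpace_pt D c hc i₀
  have hqcqs : ∀ (i : I) (_ : i ⟶ i₀), CompactSpace (D.obj i) ∧ QuasiSeparatedSpace (D.obj i) := fun i a =>
    ⟨QuasiCompact.compactSpace_of_compactSpace (D.map a), quasiSeparatedSpace_of_quasiSeparated (D.map a)⟩
  induction hZ using IsConstructible.empty_union_induction with
  | open_retrocompact U hU hU' =>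
    obtain ⟨j, a, V, hV, hVU⟩ := exists_preimage_eq_over D c hc i₀ ⟨U, hU⟩ hU'.isCompact
    haveI := (hqcqs j a).1
    haveI := (hqcqs j a).2
    exact ⟨j, a, V, hV.isConstructible V.2, congrArg (fun W : c.pt.Opens => (W : Set c.pt)) hVU⟩
  | union s _ t _ hs ht =>
    obtain ⟨i₁, a₁, Z₁, h₁, e₁⟩ := hs
    obtain ⟨i₂, a₂, Z₂, h₂, e₂⟩ := ht
    obtain ⟨k, b₁, b₂, he⟩ := IsCofiltered.cospan a₁ a₂
    haveI := (hqcqs k (b₁ ≫ a₁)).1
    haveI := (hqcqs k (b₁ ≫ a₁)).2
    haveI := (hqcqs i₁ a₁).1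
    haveI := (hqcqs i₁ a₁).2
    haveI := (hqcqs i₂ a₂).1
    haveI := (hqcqs i₂ a₂).2
    refine ⟨k, b₁ ≫ a₁, (D.map b₁) ⁻¹' Z₁ ∪ (D.map b₂) ⁻¹' Z₂,
      ((D.map b₁).isConstructible_preimage h₁).union ((D.map b₂).isConstructible_preimage h₂), ?_⟩
    rw [← e₁, ← e₂]
    ext x
    simp only [mem_preimage, mem_union, π_map_apply]
  | compl s _ hs =>
    obtain ⟨i, a, Zi, h, e⟩ := hs
    exact ⟨i, a, Ziᶜ, h.compl, by rw [← e]; rfl⟩

end RichLib.LimTop
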