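import Mathlib
import Groth.Agent.RichLib.LimTop

/-!
# The local rings of a limit of schemes with affine transition morphisms
-/

set_option autoImplicit false
universe u

open AlgebraicGeometry CategoryTheory Limits Topology Set Opposite TensorProduct

noncomputable section

namespace RichLib.LimStalk

open RichLib.LimTop

variable {I : Type u} [SmallCategory I] [IsCofiltered I] (D : I ⥤ Scheme.{u}) (c : Cone D) (hc : IsLimit c)
  [∀ (i j : I) (f : i ⟶ j), IsAffineHom (D.map f)]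

set_option backward.defeqAttrib.useBackward true in
set_option backward.isDefEq.respectTransparency false in
include hc in
/-- a section of the limit over the preimage of an affine open comes from a stage -/
theorem exists_appLE_eq {k : I} {V : (D.obj k).Opens} (hV : IsAffineOpen V)
    (r : Γ(c.pt, c.π.app k ⁻¹ᵁ V)) :
    ∃ (j : I) (φ : j ⟶ k) (h : c.π.app k ⁻¹ᵁ V ≤ c.π.app j ⁻¹ᵁ (D.map φ ⁻¹ᵁ V))
      (t : Γ(D.obj j, D.map φ ⁻¹ᵁ V)),
      (c.π.app j).appLE (D.map φ ⁻¹ᵁ V) (c.π.app k ⁻¹ᵁ V) h t = r := by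
  haveI : ∀ {a b : I} (f : a ⟶ b), IsAffineHom (D.map f) := fun f => inferInstance
  have (j : _) : IsAffine ((opensDiagram D k V).op.obj j).unop := hV.preimage _
  have (j : _) : IsAffine ((opensDiagram D k V).obj j) := hV.preimage _
  obtain ⟨⟨j⟩, s, hs⟩ := (Types.jointly_surjective_of_isColimit (isColimitOfPreserves
    (Scheme.Γ ⋙ forget _) (isLimitOpensCone D c hc k V).op) ((c.π.app k ⁻¹ᵁ V).topIso.inv r))
  obtain ⟨s, rfl⟩ := (D.map j.hom ⁻¹ᵁ V).topIso.symm.commRingCatIsoToRingEquiv.surjective s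
  have h : c.π.app j.left ⁻¹ᵁ D.map j.hom ⁻¹ᵁ V = c.π.app k ⁻¹ᵁ V := congr($(c.w j.hom) ⁻¹ᵁ V)
  refine ⟨j.left, j.hom, h.ge, s, ?_⟩
  have : r = (c.π.app j.left).appLE (D.map j.hom ⁻¹ᵁ V) (c.π.app k ⁻¹ᵁ V) h.ge s := by
    convert!
      show r = ((Scheme.Opens.topIso _).inv ≫ ((opensCone D c k V).π.app j).appTop ≫ (Scheme.Opens.topIso _).hom) s from
        (c.π.app k ⁻¹ᵁ V).topIso.commRingCatIsoToRingEquiv.symm_apply_eq.mp hs.symm using 3
    simp [Scheme.Hom.app_eq_appLE, Scheme.Hom.resLE_appLE]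
  exact this.symm

theorem germ_appLE {X Y : Scheme.{u}} (f : X ⟶ Y) {U : Y.Opens} {W : X.Opens} (h : W ≤ f ⁻¹ᵁ U) {x : X}
    (hx : x ∈ W) (t : Γ(Y, U)) :
    X.presheaf.germ W x hx (f.appLE U W h t) = f.stalkMap x (Y.presheaf.germ U (f x) (h hx) t) := by
  rw [Scheme.Hom.germ_stalkMap_apply]
  exact TopCat.Presheaf.germ_res_apply X.presheaf _ _ _ _

include hc in
/-- every element of a local ring of the limit comes from a stage over a given index -/
theorem exists_stalkMap_eq (i₀ : I) (s : c.pt) (a : c.pt.presheaf.stalk s) :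
    ∃ (j : I) (_ : j ⟶ i₀) (b : (D.obj j).presheaf.stalk (c.π.app j s)), (c.π.app j).stalkMap s b = a := by
  obtain ⟨U, hsU, u, rfl⟩ := TopCat.Presheaf.exists_germ_eq c.pt.presheaf (x := s) a
  obtain ⟨k, ψ, V, hV, hsV, hVU⟩ := exists_basis_over D c hc i₀ (U := U) hsU
  obtain ⟨j, φ, h, t, ht⟩ := exists_appLE_eq D c hc hV (c.pt.presheaf.map (homOfLE hVU).op u)
  refine ⟨j, φ ≫ ψ, (D.obj j).presheaf.germ (D.map φ ⁻¹ᵁ V) (c.π.app j s) (h hsV) t, ?_⟩
  rw [← germ_appLE (c.π.app j) h hsV t, ht]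
  exact TopCat.Presheaf.germ_res_apply c.pt.presheaf _ _ _ _

include hc in
/-- an element of a local ring of a stage which dies in the limit dies at a later stage -/
theorem exists_stalkMap_eq_zero {i : I} (s : c.pt) (b : (D.obj i).presheaf.stalk (c.π.app i s))
    (hb : (c.π.app i).stalkMap s b = 0) :
    ∃ (j : I) (φ : j ⟶ i), (D.map φ).stalkMap (c.π.app j s)
      ((D.obj i).presheaf.stalkSpecializes (specializes_of_eq (π_map_apply D c φ s)) b) = 0 := by
  haveI : ∀ {a b : I} (f : a ⟶ b), IsAffineHom (D.map f) := fun f => inferInstance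
  obtain ⟨U, hsU, t, rfl⟩ := TopCat.Presheaf.exists_germ_eq (D.obj i).presheaf (x := c.π.app i s) b
  rw [Scheme.Hom.germ_stalkMap_apply] at hb
  obtain ⟨W, hsW, iW, iW', hW⟩ := c.pt.presheaf.germ_eq s (U := c.π.app i ⁻¹ᵁ U) (V := c.π.app i ⁻¹ᵁ U)
    hsU hsU ((c.π.app i).app U t) 0 (by rw [map_zero]; exact hb)
  rw [map_zero] at hW
  obtain ⟨k, ψ, V, hV, hsV, hVW⟩ := exists_basis_over D c hc i (U := W) hsW
  obtain ⟨V', hV', hsV', hV'V⟩ := exists_isAffineOpen_mem_and_subset (X := D.obj k) (x := c.π.app k s)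
    (U := V ⊓ D.map ψ ⁻¹ᵁ U) ⟨hsV, by show D.map ψ (c.π.app k s) ∈ U; rw [π_map_apply]; exact hsU⟩
  have hle : c.π.app k ⁻¹ᵁ V' ≤ W := fun z hz => hVW (hV'V hz).1
  obtain ⟨j, φ, hj⟩ := exists_app_map_eq_zero_of_isLimit D c hc hV'.isCompact
    ((D.map ψ).appLE U V' (fun z hz => (hV'V hz).2) t) (by
      have h := congrArg (c.pt.presheaf.map (homOfLE hle).op) hW
      rw [map_zero] at h
      rw [← h]
      show ((D.map ψ).appLE U V' _ ≫ (c.π.app k).app V') t =
        ((c.π.app i).app U ≫ c.pt.presheaf.map iW.op ≫ c.pt.presheaf.map (homOfLE hle).op) t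
      congr 2
      simp only [Scheme.Hom.app_eq_appLE, Scheme.Hom.appLE_comp_appLE, c.w, Scheme.Hom.appLE_map]
      erw [Scheme.Hom.appLE_map_assoc, Scheme.Hom.appLE_map])
  refine ⟨j, φ ≫ ψ, ?_⟩
  have hx : c.π.app j s ∈ D.map φ ⁻¹ᵁ V' := by
    show D.map φ (c.π.app j s) ∈ V'
    rw [π_map_apply]; exact hsV'
  have e : (D.map (φ ≫ ψ)).appLE U (D.map φ ⁻¹ᵁ V') (fun z hz => by
      show D.map (φ ≫ ψ) z ∈ U
      rw [map_comp_apply]; exact (hV'V hz).2) t = 0 := by
    rw [← hj]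
    show _ = ((D.map ψ).appLE U V' _ ≫ (D.map φ).app V') t
    congr 1
    simp only [Scheme.Hom.app_eq_appLE, Scheme.Hom.appLE_comp_appLE, ← D.map_comp]
  rw [TopCat.Presheaf.germ_stalkSpecializes_apply]
  exact (germ_appLE (D.map (φ ≫ ψ)) _ hx t).symm.trans ((congrArg _ e).trans (map_zero _))

/-- the stalk map of a projection through a transition map -/
theorem stalkMap_π {i j : I} (φ : j ⟶ i) (s : c.pt) (b : (D.obj i).presheaf.stalk (c.π.app i s)) :
    (c.π.app j).stalkMap s ((D.map φ).stalkMap (c.π.app j s)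
      ((D.obj i).presheaf.stalkSpecializes (specializes_of_eq (π_map_apply D c φ s)) b)) =
      (c.π.app i).stalkMap s b := by
  have h := Scheme.Hom.stalkMap_congr_hom (c.π.app j ≫ D.map φ) (c.π.app i) (c.w φ) s
  rw [Scheme.Hom.stalkMap_comp] at h
  refine (congr($h ((D.obj i).presheaf.stalkSpecializes (specializes_of_eq (π_map_apply D c φ s)) b))).trans ?_
  rw [CommRingCat.comp_apply]
  refine congrArg _ ?_
  simp only [TopCat.Presheaf.stalkCongr_hom, TopCat.Presheaf.stalkCongr]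
  erw [← CommRingCat.comp_apply, TopCat.Presheaf.stalkSpecializes_comp, TopCat.Presheaf.stalkSpecializes_refl]
  rfl

end RichLib.LimStalk

namespace RichLib.LimStalk

open RichLib.LimTop

variable {I : Type u} [SmallCategory I] [IsCofiltered I] (D : I ⥤ Scheme.{u}) (c : Cone D) (hc : IsLimit c)
  [∀ (i j : I) (f : i ⟶ j), IsAffineHom (D.map f)]

/-- the map of local rings along a transition map, at a point of the limit -/
def trans {i j : I} (φ : j ⟶ i) (s : c.pt) :
    (D.obj i).presheaf.stalk (c.π.app i s) ⟶ (D.obj j).presheaf.stalk (c.π.app j s) :=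
  (D.obj i).presheaf.stalkSpecializes (specializes_of_eq (π_map_apply D c φ s)) ≫
    (D.map φ).stalkMap (c.π.app j s)

theorem flat_trans {i j : I} (φ : j ⟶ i) [Flat (D.map φ)] (s : c.pt) : (trans D c φ s).hom.Flat := by
  have : IsIso ((D.obj i).presheaf.stalkSpecializes (specializes_of_eq (π_map_apply D c φ s))) :=
    inferInstanceAs (IsIso ((D.obj i).presheaf.stalkCongr (.of_eq (π_map_apply D c φ s).symm)).hom)
  rw [trans, CommRingCat.hom_comp]
  exact RingHom.Flat.stableUnderComposition _ _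
    (RingHom.Flat.of_bijective (ConcreteCategory.bijective_of_isIso
      ((D.obj i).presheaf.stalkSpecializes (specializes_of_eq (π_map_apply D c φ s)))))
    (Flat.stalkMap (D.map φ) _)

theorem trans_germ {i j : I} (φ : j ⟶ i) (s : c.pt) {U : (D.obj i).Opens} (hs : c.π.app i s ∈ U)
    (t : Γ(D.obj i, U)) {W : (D.obj j).Opens} (h : W ≤ D.map φ ⁻¹ᵁ U) (hW : c.π.app j s ∈ W) :
    trans D c φ s ((D.obj i).presheaf.germ U (c.π.app i s) hs t) =
      (D.obj j).presheaf.germ W (c.π.app j s) hW ((D.map φ).appLE U W h t) := by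
  rw [germ_appLE (D.map φ) h hW t, trans, CommRingCat.comp_apply, TopCat.Presheaf.germ_stalkSpecializes_apply]

theorem trans_comp {i j k : I} (φ : j ⟶ i) (ψ : k ⟶ j) (s : c.pt) (b : (D.obj i).presheaf.stalk (c.π.app i s)) :
    trans D c ψ s (trans D c φ s b) = trans D c (ψ ≫ φ) s b := by
  obtain ⟨U, hs, t, rfl⟩ := TopCat.Presheaf.exists_germ_eq (D.obj i).presheaf (x := c.π.app i s) b
  have h1 : c.π.app j s ∈ D.map φ ⁻¹ᵁ U := by
    show D.map φ (c.π.app j s) ∈ U
    rw [π_map_apply]; exact hs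
  have h2 : c.π.app k s ∈ D.map ψ ⁻¹ᵁ D.map φ ⁻¹ᵁ U := by
    show D.map ψ (c.π.app k s) ∈ D.map φ ⁻¹ᵁ U
    rw [π_map_apply]; exact h1
  have h3 : D.map ψ ⁻¹ᵁ D.map φ ⁻¹ᵁ U ≤ D.map (ψ ≫ φ) ⁻¹ᵁ U := by
    rw [D.map_comp, Scheme.Hom.comp_preimage]
  rw [trans_germ D c φ s hs t le_rfl h1, trans_germ D c ψ s h1 _ le_rfl h2, trans_germ D c (ψ ≫ φ) s hs t h3 h2]
  refine congrArg _ ?_
  show ((D.map φ).appLE U _ _ ≫ (D.map ψ).appLE _ _ _) t = _
  simp only [Scheme.Hom.appLE_comp_appLE, ← D.map_comp]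

include hc in
theorem exists_trans_eq_zero {i : I} (s : c.pt) (b : (D.obj i).presheaf.stalk (c.π.app i s))
    (hb : (c.π.app i).stalkMap s b = 0) : ∃ (j : I) (φ : j ⟶ i), trans D c φ s b = 0 :=
  exists_stalkMap_eq_zero D c hc s b hb

theorem stalkMap_trans {i j : I} (φ : j ⟶ i) (s : c.pt) (b : (D.obj i).presheaf.stalk (c.π.app i s)) :
    (c.π.app j).stalkMap s (trans D c φ s b) = (c.π.app i).stalkMap s b :=
  stalkMap_π D c φ s b

/-- a module exhausted by flat modules is flat -/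
theorem flat_of_exhausted {R B : Type u} [CommRing R] [AddCommGroup B] [Module R B] {κ : Type u} (M : κ → Type u)
    [∀ k, AddCommGroup (M k)] [∀ k, Module R (M k)] (hflat : ∀ k, Module.Flat R (M k))
    (q : ∀ k, M k →ₗ[R] B) (hlift : ∀ (n : ℕ) (x : Fin n → B), ∃ k, ∃ y : Fin n → M k, ∀ i, q k (y i) = x i)
    (hzero : ∀ k (x : M k), q k x = 0 → ∃ l, ∃ g : M k →ₗ[R] M l, (∀ y, q l (g y) = q k y) ∧ g x = 0) :
    Module.Flat R B := by
  refine Module.Flat.of_forall_isTrivialRelation fun {n} f x hfx => ?_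
  obtain ⟨k, y, hy⟩ := hlift n x
  obtain ⟨l, g, hg, hg0⟩ := hzero k (∑ i, f i • y i) (by simp [hy, hfx])
  haveI := hflat l
  rw [map_sum] at hg0
  simp only [map_smul] at hg0
  obtain ⟨m, a, z, h1, h2⟩ := Module.Flat.isTrivialRelation_of_sum_smul_eq_zero hg0
  refine ⟨m, a, fun j => q l (z j), fun i => ?_, h2⟩
  have h3 := congrArg (q l) (h1 i)
  rw [hg, hy, map_sum] at h3
  rw [h3]
  simp

include hc in
theorem flat_π {i : I} (hf : ∀ (j : I) (φ : j ⟶ i), Flat (D.map φ)) : Flat (c.π.app i) := by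
  refine Flat.of_stalkMap _ fun s => ?_
  let R := (D.obj i).presheaf.stalk (c.π.app i s)
  let B := c.pt.presheaf.stalk s
  letI : Algebra R B := ((c.π.app i).stalkMap s).hom.toAlgebra
  show Module.Flat R B
  let M : Over i → Type u := fun φ => (D.obj φ.left).presheaf.stalk (c.π.app φ.left s)
  letI alg : ∀ φ : Over i, Algebra R ((D.obj φ.left).presheaf.stalk (c.π.app φ.left s)) :=
    fun φ => (trans D c φ.hom s).hom.toAlgebra
  let q : ∀ φ : Over i, (D.obj φ.left).presheaf.stalk (c.π.app φ.left s) →ₗ[R] B := fun φ =>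
    { toFun := (c.π.app φ.left).stalkMap s
      map_add' := map_add _
      map_smul' := fun r x => by
        rw [RingHom.id_apply, Algebra.smul_def, Algebra.smul_def, map_mul]
        exact congrArg (· * _) (stalkMap_trans D c φ.hom s r) }
  refine flat_of_exhausted (fun φ : Over i => ((D.obj φ.left).presheaf.stalk (c.π.app φ.left s) : Type u))
    (fun φ => by
      haveI := hf φ.left φ.hom
      exact flat_trans D c φ.hom s) q (fun n x => ?_) (fun φ x hx => ?_)
  · choose j a b hb using fun k => exists_stalkMap_eq D c hc i s (x k)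
    classical
    obtain ⟨l, hl⟩ := IsCofiltered.inf_objs_exists (Finset.univ.image j ∪ {i})
    let e : ∀ k, l ⟶ j k := fun k => (hl (Finset.mem_union_left _ (Finset.mem_image_of_mem j (Finset.mem_univ k)))).some
    let ψ : l ⟶ i := (hl (Finset.mem_union_right _ (Finset.mem_singleton_self i))).some
    exact ⟨Over.mk ψ, fun k => trans D c (e k) s (b k), fun k => (stalkMap_trans D c (e k) s (b k)).trans (hb k)⟩
  · obtain ⟨j, ψ, hψ⟩ := exists_trans_eq_zero D c hc s x hx
    refine ⟨Over.mk (ψ ≫ φ.hom),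
      { toFun := trans D c ψ s
        map_add' := map_add _
        map_smul' := fun r y => by
          rw [RingHom.id_apply, Algebra.smul_def, Algebra.smul_def, map_mul]
          exact congrArg (· * _) (trans_comp D c φ.hom ψ s r) },
      fun y => stalkMap_trans D c ψ s y, hψ⟩

end RichLib.LimStalk
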