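import Mathlib
import Groth.Agent.QCohLib.Coherent
import Groth.Agent.FlatLib.SectionsFP
import Groth.Agent.FlatLib.QStalk

/-!
# Finite presentation of quasi-coherent modules, read on affine sections
-/

set_option autoImplicit false
universe u

open CategoryTheory CategoryTheory.Limits TopologicalSpace Opposite AlgebraicGeometry

noncomputable section

namespace RichLib.IsFPAffine

open QCohLib

variable {X : Scheme.{u}}

theorem shortExact_kernel {M N : X.Modules} (φ : M ⟶ N) [Epi φ] :
    (ShortComplex.mk (kernel.ι φ) φ (kernel.condition φ)).ShortExact :=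
  { exact := ShortComplex.exact_of_f_is_kernel _ (kernelIsKernel φ)
    mono_f := inferInstance
    epi_g := inferInstance }

theorem appLin_surjective {M N : X.Modules} (φ : M ⟶ N) [Epi φ] [Coh.IsQCoh M] [Coh.IsQCoh N]
    {U : X.Opens} (hU : IsAffineOpen U) : Function.Surjective (appLin φ U) :=
  @app_surjective_of_affine _ _ (shortExact_kernel φ) (isQCoh_kernel φ) U hU

theorem range_appLin_kernel_ι {M N : X.Modules} (φ : M ⟶ N) (U : X.Opens) :
    LinearMap.range (appLin (kernel.ι φ) U) = LinearMap.ker (appLin φ U) := by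
  refine le_antisymm ?_ fun y hy => ?_
  · rintro _ ⟨z, rfl⟩
    exact map_eq_zero_of_zero (S := ShortComplex.mk (kernel.ι φ) φ (kernel.condition φ)) z
  · exact exists_of_app_eq_zero (S := ShortComplex.mk (kernel.ι φ) φ (kernel.condition φ))
      (ShortComplex.exact_of_f_is_kernel _ (kernelIsKernel φ)) inferInstance y hy

/-- the sections of a kernel -/
def kernelEquiv {M N : X.Modules} (φ : M ⟶ N) (U : X.Opens) :
    Γ(kernel φ, U) ≃ₗ[Γ(X, U)] LinearMap.ker (appLin φ U) :=
  LinearEquiv.ofInjective (appLin (kernel.ι φ) U) (app_injective_of_mono (kernel.ι φ) U) ≪≫ₗ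
    LinearEquiv.ofEq _ _ (range_appLin_kernel_ι φ U)

/-- finite presentation from the affine sections -/
theorem isFP_of_finitePresentation (M : X.Modules) [Coh.IsQCoh M]
    (h : ∀ p : X, ∃ U : X.Opens, IsAffineOpen U ∧ p ∈ U ∧ Module.FinitePresentation Γ(X, U) Γ(M, U)) :
    CohB1.IsFP M := by
  choose U hU hpU hfp using h
  have key : ∀ p, ∃ P : (M.restrict (U p).ι).Presentation, P.IsFinite := by
    intro p
    let Z : Scheme.{u} := U p
    have hZ : IsAffine Z := hU p
    let L : Z.Modules := M.restrict (U p).ι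
    haveI hq : Coh.IsQCoh L := inferInstanceAs (Coh.IsQCoh (M.restrict (U p).ι))
    haveI : Module.FinitePresentation Γ(X, (U p).ι ''ᵁ ⊤) Γ(M, (U p).ι ''ᵁ ⊤) := by
      rw [Scheme.Opens.ι_image_top]; exact hfp p
    haveI : Module.FinitePresentation Γ(Z, ⊤) Γ(L, ⊤) :=
      FlatLib.finitePresentation_semilinear (A := Γ(X, (U p).ι ''ᵁ ⊤)) (M := Γ(M, (U p).ι ''ᵁ ⊤))
        ((U p).ι.appIso ⊤).hom.hom
        ((U p).ι.appIso ⊤).commRingCatIsoToRingEquiv.surjective
        (M.restrictAppIso (U p).ι ⊤).addCommGroupIsoToAddEquiv.symm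
        fun r m => ConcreteCategory.congr_hom (Scheme.Modules.smul_restrictAppIso_inv (U p).ι M ⊤ r) m
    obtain ⟨n, s, hs⟩ := Module.Finite.exists_fin (R := Γ(Z, ⊤)) (M := Γ(L, ⊤))
    let I := ULift.{u} (Fin n)
    let s' : I → Γ(L, ⊤) := fun i => s i.down
    have hg : GenTop s' := (genOn_of_span (isAffineOpen_top Z) s' (by
      rw [← hs]; congr 1; ext x; simp [s', I])).genTop
    let σ := hg.generatingSections
    let F : Z.Modules := SheafOfModules.free (R := Z.ringCatSheaf) I
    haveI hfree : Coh.IsQCoh F :=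
      isQCoh_sigma (fun _ : I => Coh.structureModule Z) (fun _ => isQCoh_unit)
    have hfreeFT : CohB1.IsFT F := by
      have hepi : Epi ((SheafOfModules.free (R := Z.ringCatSheaf) I).freeHomEquiv.symm
          (fun i => SheafOfModules.freeSection i)) := by
        rw [show (fun i => SheafOfModules.freeSection (R := Z.ringCatSheaf) i) =
          (SheafOfModules.free (R := Z.ringCatSheaf) I).freeHomEquiv (𝟙 _) from rfl,
          Equiv.symm_apply_apply]
        infer_instance
      exact isFT_of_genTop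
        (genTop_of_epi (M := (SheafOfModules.free (R := Z.ringCatSheaf) I : Z.Modules))
          (fun i => SheafOfModules.freeSection i))
    haveI : Module.Finite Γ(Z, ⊤) Γ(F, ⊤) := finite_of_isFT hfreeFT (isAffineOpen_top Z)
    let π : F ⟶ L := σ.π
    haveI : Epi π := inferInstanceAs (Epi σ.π)
    haveI hK : Coh.IsQCoh (kernel π) := isQCoh_kernel π
    haveI : Module.Finite Γ(Z, ⊤) (LinearMap.ker (appLin π ⊤)) := Module.Finite.iff_fg.mpr
      (Module.FinitePresentation.fg_ker (appLin π ⊤) (appLin_surjective π (isAffineOpen_top Z)))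
    haveI : Module.Finite Γ(Z, ⊤) Γ(kernel π, ⊤) := Module.Finite.equiv (kernelEquiv π ⊤).symm
    obtain ⟨m, r, hr⟩ := Module.Finite.exists_fin (R := Γ(Z, ⊤)) (M := Γ(kernel π, ⊤))
    let r' : ULift.{u} (Fin m) → Γ(kernel π, ⊤) := fun i => r i.down
    have hgr : GenTop r' := (genOn_of_span (isAffineOpen_top Z) r' (by
      rw [← hr]; congr 1; ext x; simp [r'])).genTop
    exact ⟨{ generators := σ, relations := hgr.generatingSections },
      { isFiniteType_generators := ⟨inferInstanceAs (Finite I)⟩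
        isFiniteType_relations := ⟨inferInstanceAs (Finite (ULift.{u} (Fin m)))⟩ }⟩
  choose P hP using key
  refine SheafOfModules.IsFinitePresentation.mk (R := X.ringCatSheaf)
    ⟨({ I := X
        X := U
        coversTop := (Opens.coversTop_iff (X : Type u) U).mpr
          (eq_top_iff.mpr fun p _ => Opens.mem_iSup.mpr ⟨p, hpU p⟩)
        presentation := fun p => overPresentation M (U p) (P p) } :
        SheafOfModules.QuasicoherentData.{u} (R := X.ringCatSheaf) M), ?_⟩
  exact SheafOfModules.QuasicoherentData.IsFinitePresentation.mk (R := X.ringCatSheaf)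
    fun (p : X) => isFinite_overPresentation M (U p) (P p) (hP p)

/-- sections of a cokernel over an affine open -/
theorem ker_appLin_cokernel_π {M N : X.Modules} (φ : M ⟶ N) [Coh.IsQCoh M] [Coh.IsQCoh N] {U : X.Opens}
    (hU : IsAffineOpen U) : LinearMap.ker (appLin (cokernel.π φ) U) = LinearMap.range (appLin φ U) := by
  rw [← range_appLin_kernel_ι]
  haveI : Coh.IsQCoh (Abelian.image φ) := isQCoh_image φ
  have hs := appLin_surjective (Abelian.factorThruImage φ) hU
  have hc : appLin φ U = (appLin (kernel.ι (cokernel.π φ)) U).comp (appLin (Abelian.factorThruImage φ) U) :=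
    LinearMap.ext fun z =>
      (congrArg (fun ψ : M ⟶ N => ψ.app U z) (Abelian.image.fac φ)).symm
  rw [hc, LinearMap.range_comp, LinearMap.range_eq_top.mpr hs, Submodule.map_top]

/-- sections of a module with a finite presentation near an affine open -/
theorem finitePresentation_of_le {M : X.Modules} [Coh.IsQCoh M] {O : X.Opens}
    (P : (M.restrict O.ι).Presentation) [P.IsFinite] {V : X.Opens} (hV : IsAffineOpen V) (hVO : V ≤ O) :
    Module.FinitePresentation Γ(X, V) Γ(M, V) := by
  have key : ∀ W₀ : (O : Scheme.{u}).Opens, IsAffineOpen W₀ →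
      Module.FinitePresentation Γ(X, O.ι ''ᵁ W₀) Γ(M, O.ι ''ᵁ W₀) := by
    intro W₀ hW₀
    haveI := FlatLib.finitePresentation_of_presentation P hW₀
    exact FlatLib.finitePresentation_semilinear (A := Γ((O : Scheme.{u}), W₀)) (M := Γ(M.restrict O.ι, W₀))
      (O.ι.appIso W₀).inv.hom
      (O.ι.appIso W₀).commRingCatIsoToRingEquiv.symm.surjective
      (M.restrictAppIso O.ι W₀).addCommGroupIsoToAddEquiv
      fun r m ↦ Scheme.Modules.smul_restrictAppIso_hom_apply O.ι M W₀ r m
  have e : O.ι ''ᵁ (O.ι ⁻¹ᵁ V) = V := by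
    rw [Scheme.Hom.image_preimage_eq_opensRange_inf, Scheme.Opens.opensRange_ι, inf_eq_right]
    exact hVO
  exact e ▸ key _ (hV.preimage_of_isOpenImmersion O.ι (by rwa [Scheme.Opens.opensRange_ι]))

/-- two modules of finite presentation have finitely presented sections on a common small affine open -/
theorem exists_finitePresentation_two {M N : X.Modules} [Coh.IsQCoh M] [Coh.IsQCoh N] (hM : CohB1.IsFP M)
    (hN : CohB1.IsFP N) {x : X} {U : X.Opens} (hx : x ∈ U) :
    ∃ V : X.Opens, IsAffineOpen V ∧ V ≤ U ∧ x ∈ V ∧ Module.FinitePresentation Γ(X, V) Γ(M, V) ∧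
      Module.FinitePresentation Γ(X, V) Γ(N, V) := by
  obtain ⟨O, P, hxO, hP⟩ := FlatLib.exists_presentation_nhd hM x
  obtain ⟨O', P', hxO', hP'⟩ := FlatLib.exists_presentation_nhd hN x
  obtain ⟨V, hV, hxV, hVU⟩ : ∃ V : X.Opens, IsAffineOpen V ∧ x ∈ V ∧ V ≤ O ⊓ O' ⊓ U :=
    Opens.isBasis_iff_nbhd.mp X.isBasis_affineOpens (U := O ⊓ O' ⊓ U) (x := x) ⟨⟨hxO, hxO'⟩, hx⟩
  haveI := hP
  haveI := hP'
  exact ⟨V, hV, hVU.trans inf_le_right, hxV,
    finitePresentation_of_le P hV (hVU.trans (inf_le_left.trans inf_le_left)),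
    finitePresentation_of_le P' hV (hVU.trans (inf_le_left.trans inf_le_right))⟩

/-- flatness of sections from flatness of all stalks -/
theorem flat_sections {Y : Scheme.{u}} (f : X ⟶ Y) (M : X.Modules) [Coh.IsQCoh M]
    {U : Y.Opens} (hU : IsAffineOpen U) {V : X.Opens} (hV : IsAffineOpen V) (hVU : V ≤ f ⁻¹ᵁ U)
    [Algebra Γ(Y, U) Γ(X, V)] (halg : algebraMap Γ(Y, U) Γ(X, V) = (f.appLE U V hVU).hom)
    [Module Γ(Y, U) Γ(M, V)] [IsScalarTower Γ(Y, U) Γ(X, V) Γ(M, V)]
    (h : ∀ z ∈ V, FlatMod.IsFlatOverAt f M z) : Module.Flat Γ(Y, U) Γ(M, V) := by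
  refine Module.flat_of_isLocalized_maximal Γ(X, V) Γ(M, V)
    (fun P _ => LocalizedModule P.primeCompl Γ(M, V))
    (fun P _ => LocalizedModule.mkLinearMap P.primeCompl Γ(M, V)) fun P hP => ?_
  obtain ⟨y, hy⟩ := hV.isoSpec.hom.surjective ⟨P, hP.isPrime⟩
  have h1 := (FlatLib.isFlatOverAt_iff f M U hU V hV hVU y.2 halg).mp (h y.1 y.2)
  have h2 : (hV.primeIdealOf ⟨y.1, y.2⟩).asIdeal = P := congrArg PrimeSpectrum.asIdeal hy
  have h3 : Module.Flat Γ(Y, U) (LocalizedModule (hV.primeIdealOf ⟨y.1, y.2⟩).asIdeal.primeCompl Γ(M, V)) := h1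
  subst h2
  exact h3

end RichLib.IsFPAffine
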