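import Mathlib
import Groth.Agent.RichLib.FlatColimit

/-!
# A flat algebra of finite presentation has a flat model over a ring of finite type over `ℤ`
-/

set_option autoImplicit false
universe u

open TensorProduct

noncomputable section

namespace RichLib.FlatModel

/-- finitely generated subalgebras form a directed system with colimit the whole algebra -/
theorem isDirectedColimitRing_fg (A₀ A : Type u) [CommRing A₀] [CommRing A] [Algebra A₀ A] :
    FlatCA.IsDirectedColimitRing (fun S : {S : Subalgebra A₀ A // S.FG} => S.1)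
      (fun _ _ h => (Subalgebra.inclusion h).toRingHom) A := by
  refine ⟨⟨fun S T => ⟨⟨S.1 ⊔ T.1, S.2.sup T.2⟩, (le_sup_left : S.1 ≤ S.1 ⊔ T.1), (le_sup_right : T.1 ≤ S.1 ⊔ T.1)⟩⟩,
    ⟨⟨⊥, Subalgebra.fg_bot⟩⟩, fun S => ?_, fun S T U h h' => ?_, fun S T h => ?_, fun a => ?_, fun S x hx => ?_⟩
  · exact RingHom.ext fun x => rfl
  · exact RingHom.ext fun x => rfl
  · exact RingHom.ext fun x => rfl
  · exact ⟨⟨Algebra.adjoin A₀ {a}, Subalgebra.fg_def.mpr ⟨{a}, Set.finite_singleton a, rfl⟩⟩,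
      ⟨a, Algebra.subset_adjoin rfl⟩, rfl⟩
  · exact ⟨S, le_rfl, Subtype.ext (show ((x : S.1) : A) = 0 from hx)⟩

/-- a flat algebra of finite presentation has a flat model over a ring of finite type over `ℤ` -/
theorem exists_flat_model (A B : Type u) [CommRing A] [CommRing B] [Algebra A B]
    [Algebra.FinitePresentation A B] [Module.Flat A B] :
    ∃ (A₁ B₁ : Type u) (_ : CommRing A₁) (_ : CommRing B₁) (_ : Algebra.FiniteType ℤ A₁)
      (_ : Algebra A₁ B₁) (_ : Algebra.FinitePresentation A₁ B₁) (_ : Module.Flat A₁ B₁) (_ : Algebra A₁ A),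
      Nonempty (A ⊗[A₁] B₁ ≃ₐ[A] B) := by
  classical
  let P := Algebra.Presentation.ofFinitePresentation A B
  let A₀ := P.Core
  let B₀ := P.ModelOfHasCoeffs A₀
  haveI : IsNoetherianRing A₀ := Algebra.FiniteType.isNoetherianRing ℤ A₀
  haveI : Algebra.FiniteType A₀ B₀ := inferInstance
  haveI : Algebra.FinitePresentation A₀ B₀ := Algebra.FinitePresentation.of_finiteType.mp inferInstance
  let e : A ⊗[A₀] B₀ ≃ₐ[A] B := P.tensorModelOfHasCoeffsEquiv A₀
  haveI hflat : Module.Flat A (A ⊗[A₀] B₀) := Module.Flat.of_linearEquiv e.toLinearEquiv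
  obtain ⟨⟨A₁, hA₁⟩, hi⟩ := (RichLib.FlatColimit.flat_iff_exists_stage
    (fun S : {S : Subalgebra A₀ A // S.FG} => S.1) (fun _ _ h => Subalgebra.inclusion h) A
    (isDirectedColimitRing_fg A₀ A) (B₀ := B₀) B₀).mp hflat
  haveI : Algebra.FiniteType A₀ A₁ := A₁.fg_iff_finiteType.mp hA₁
  haveI : Algebra.FiniteType ℤ A₁ := Algebra.FiniteType.trans (inferInstance : Algebra.FiniteType ℤ A₀) (inferInstance : Algebra.FiniteType A₀ A₁)
  exact ⟨A₁, A₁ ⊗[A₀] B₀, inferInstance, inferInstance, inferInstance, inferInstance, inferInstance, hi,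
    inferInstance, ⟨(Algebra.TensorProduct.cancelBaseChange A₀ A₁ A A B₀).trans e⟩⟩

end RichLib.FlatModel
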