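import Mathlib
import Groth.Agent.FlatLib.OpenFP
import Groth.Agent.RichLib.FlatColimit
import Groth.Agent.RichLib.FlatModel
import Groth.Agent.S2159
import Groth.Agent.FlatLib.FibMaster

/-!
# Kernels of surjections onto flat modules of finite presentation are of finite presentation (EGA IV 11.3.10.1)
-/

set_option autoImplicit false
universe u

open TensorProduct LinearMap

attribute [local instance] MvPolynomial.algebraMvPolynomial

noncomputable section

namespace RichLib.FlatSyzygy

open FlatLib

/-- a presentation over a Noetherian model stays a presentation after base change, as the quotient is flat -/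
theorem exists_fp_kernel_baseChange (A₂ A P₂ P : Type u) [CommRing A₂] [CommRing A] [CommRing P₂] [CommRing P]
    [Algebra A₂ A] [Algebra A₂ P₂] [Algebra A₂ P] [Algebra P₂ P] [Algebra A P] [IsScalarTower A₂ A P]
    [IsScalarTower A₂ P₂ P] [Algebra.IsPushout A₂ A P₂ P] [IsNoetherianRing P₂]
    (M₂ : Type u) [AddCommGroup M₂] [Module P₂ M₂] [Module A₂ M₂] [IsScalarTower A₂ P₂ M₂]
    [Module.Finite P₂ M₂] [Module.Flat A₂ M₂] :
    ∃ (F : Type u) (_ : AddCommGroup F) (_ : Module P F) (φ : F →ₗ[P] P ⊗[P₂] M₂),
      Module.Projective P F ∧ Module.Finite P F ∧ Function.Surjective φ ∧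
        Module.FinitePresentation P (LinearMap.ker φ) := by
  obtain ⟨n, φ₂, hφ₂⟩ := Module.Finite.exists_fin' P₂ M₂
  let K₂ := LinearMap.ker φ₂
  let ι := K₂.subtype
  haveI : Module.Finite P₂ K₂ := inferInstance
  haveI : Module.FinitePresentation P₂ K₂ := Module.finitePresentation_of_finite P₂ K₂
  have hinj : Function.Injective (ι.baseChange P) := by
    have h1 : Function.Injective ((ι.restrictScalars A₂).lTensor A) :=
      LinearMap.lTensor_injective_of_exact_of_flat (φ₂.restrictScalars A₂) hφ₂ (ι.restrictScalars A₂)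
        Subtype.val_injective (LinearMap.exact_subtype_ker_map φ₂) A
    let eK := Algebra.IsPushout.cancelBaseChange A₂ A P₂ P K₂
    let eF := Algebra.IsPushout.cancelBaseChange A₂ A P₂ P (Fin n → P₂)
    have hsq : ∀ z : A ⊗[A₂] K₂, ι.baseChange P (eK.symm z) = eF.symm ((ι.restrictScalars A₂).lTensor A z) :=
      fun z => by
        induction z using TensorProduct.induction_on with
        | zero => simp
        | add a b ha hb => simp only [map_add, ha, hb]
        | tmul a k => simp [eK, eF]
    intro x y hxy
    obtain ⟨x, rfl⟩ := eK.symm.surjective x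
    obtain ⟨y, rfl⟩ := eK.symm.surjective y
    rw [hsq, hsq] at hxy
    rw [h1 (eF.symm.injective hxy)]
  refine ⟨P ⊗[P₂] (Fin n → P₂), inferInstance, inferInstance, φ₂.baseChange P, inferInstance, inferInstance,
    LinearMap.lTensor_surjective P hφ₂, ?_⟩
  have hker : LinearMap.ker (φ₂.baseChange P) = LinearMap.range (ι.baseChange P) :=
    SetLike.ext fun z => lTensor_exact P (LinearMap.exact_subtype_ker_map φ₂) hφ₂ z
  rw [hker]
  exact Module.FinitePresentation.of_equiv (LinearEquiv.ofInjective _ hinj)

set_option synthInstance.maxHeartbeats 200000 in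
set_option maxHeartbeats 1600000 in
/-- over a polynomial ring, one presentation with finitely presented kernel exists -/
theorem exists_fp_kernel_poly (σ : Type u) [Finite σ] {A : Type u} [CommRing A] (M : Type u) [AddCommGroup M]
    [Module A M] [Module (MvPolynomial σ A) M] [IsScalarTower A (MvPolynomial σ A) M]
    [Module.FinitePresentation (MvPolynomial σ A) M] [Module.Flat A M] :
    ∃ (F : Type u) (_ : AddCommGroup F) (_ : Module (MvPolynomial σ A) F) (φ : F →ₗ[MvPolynomial σ A] M),
      Module.Projective (MvPolynomial σ A) F ∧ Module.Finite (MvPolynomial σ A) F ∧ Function.Surjective φ ∧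
        Module.FinitePresentation (MvPolynomial σ A) (LinearMap.ker φ) := by
  classical
  obtain ⟨A₁, M₀, _, _, _, _, hA₁, _, ⟨e⟩, -⟩ := exists_model (σ := σ) (R := A) (M := M) ∅ (by simp)
  haveI : IsNoetherianRing A₁ := isNoetherianRing_of_fg hA₁
  haveI : Module.FinitePresentation (MvPolynomial σ A₁) M₀ := Module.finitePresentation_of_finite _ _
  let e' : A ⊗[A₁] M₀ ≃ₗ[A] M := (isBaseChange_inc σ A₁ M₀ A).equiv ≪≫ₗ e.restrictScalars A
  haveI : Module.Flat A (A ⊗[A₁] M₀) := Module.Flat.of_linearEquiv e'
  obtain ⟨⟨A₂, hA₂⟩, hi⟩ := (RichLib.FlatColimit.flat_iff_exists_stage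
    (fun S : {S : Subalgebra A₁ A // S.FG} => S.1) (fun _ _ h => Subalgebra.inclusion h) A
    (RichLib.FlatModel.isDirectedColimitRing_fg A₁ A) (B₀ := MvPolynomial σ A₁) M₀).mp ‹_›
  haveI : Module.Flat A₂ (A₂ ⊗[A₁] M₀) := hi
  haveI : Algebra.FiniteType A₁ A₂ := A₂.fg_iff_finiteType.mp hA₂
  haveI : IsNoetherianRing A₂ := Algebra.FiniteType.isNoetherianRing A₁ A₂
  let P₂ := MvPolynomial σ A₂
  let P := MvPolynomial σ A
  let M₂ := BC σ A₁ M₀ A₂
  haveI : Module.Flat A₂ M₂ := Module.Flat.of_linearEquiv (isBaseChange_inc σ A₁ M₀ A₂).equiv.symm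
  haveI : Module.Finite P₂ M₂ := Module.Finite.base_change (MvPolynomial σ A₁) P₂ M₀
  haveI := RichLib.FlatStage.isScalarTower_mv σ A₁ A₂ A
  haveI := RichLib.FlatStage.isScalarTower_mv σ A₂ A₂ A
  haveI : Algebra.IsPushout A₂ A P₂ P := inferInstance
  let eM : P ⊗[P₂] M₂ ≃ₗ[P] M :=
    AlgebraTensorModule.cancelBaseChange (MvPolynomial σ A₁) P₂ P P M₀ ≪≫ₗ e
  obtain ⟨F, _, _, φ, h1, h2, h3, h4⟩ := exists_fp_kernel_baseChange A₂ A P₂ P M₂
  refine ⟨F, inferInstance, inferInstance, eM.toLinearMap ∘ₗ φ, h1, h2, eM.surjective.comp h3, ?_⟩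
  rw [show LinearMap.ker (eM.toLinearMap ∘ₗ φ) = LinearMap.ker φ from LinearEquiv.ker_comp _ _]
  exact h4

/-- Schanuel: all presentations have finitely presented kernels -/
theorem fp_ker_of_exists {R M F F' : Type u} [CommRing R] [AddCommGroup M] [Module R M] [AddCommGroup F]
    [Module R F] [Module.Projective R F] [AddCommGroup F'] [Module R F'] [Module.Projective R F']
    [Module.Finite R F] [Module.Finite R F'] (p : F →ₗ[R] M) (hp : Function.Surjective p) (p' : F' →ₗ[R] M)
    (hp' : Function.Surjective p') (h : Module.FinitePresentation R (LinearMap.ker p')) :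
    Module.FinitePresentation R (LinearMap.ker p) := by
  obtain ⟨e⟩ : Nonempty ((LinearMap.ker p × F') ≃ₗ[R] (LinearMap.ker p' × F)) :=
    Groth.Agent.S2159.result p p' hp hp'
  haveI := Module.finitePresentation_of_projective R F
  haveI : Module.FinitePresentation R (LinearMap.ker p × F') := Module.FinitePresentation.of_equiv e.symm
  refine Module.finitePresentation_of_surjective (LinearMap.fst R (LinearMap.ker p) F') LinearMap.fst_surjective ?_
  rw [LinearMap.ker_fst]
  exact Submodule.fg_range _

theorem isBaseChange_self_of_surjective {P B : Type u} [CommRing P] [CommRing B] [Algebra P B]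
    (hs : Function.Surjective (algebraMap P B)) (K : Type u) [AddCommGroup K] [Module P K] [Module B K]
    [IsScalarTower P B K] : IsBaseChange B (LinearMap.id : K →ₗ[P] K) :=
  FlatLib.isBaseChange_id_of_surjective hs

/-- the kernel of a surjection from a finite free module onto a flat module of finite presentation -/
theorem fp_ker_free {A B : Type u} [CommRing A] [CommRing B] [Algebra A B] [Algebra.FinitePresentation A B]
    (M : Type u) [AddCommGroup M] [Module B M] [Module A M] [IsScalarTower A B M] [Module.FinitePresentation B M]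
    [Module.Flat A M] (n : ℕ) (φ : (Fin n → B) →ₗ[B] M) (hφ : Function.Surjective φ) :
    Module.FinitePresentation B (LinearMap.ker φ) := by
  classical
  obtain ⟨σ, hσ, π, hπ, hker⟩ := Algebra.FinitePresentation.iff_quotient_mvPolynomial'.{_, _, u}.mp
    (inferInstance : Algebra.FinitePresentation A B)
  haveI : Finite σ := Finite.of_fintype σ
  let P := MvPolynomial σ A
  letI : Algebra P B := π.toRingHom.toAlgebra
  haveI : Module.FinitePresentation P B :=
    Module.finitePresentation_of_surjective (Algebra.linearMap P B) hπ hker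
  letI : Module P M := Module.compHom M π.toRingHom
  haveI : IsScalarTower P B M := IsScalarTower.of_algebraMap_smul fun _ _ => rfl
  haveI : IsScalarTower A P M := IsScalarTower.of_algebraMap_smul fun a m => by
    show π (algebraMap A P a) • m = a • m
    rw [π.commutes, algebraMap_smul]
  haveI : Module.FinitePresentation P M := Module.FinitePresentation.trans P M B
  let θ : (Fin n → P) →ₗ[P] (Fin n → B) := LinearMap.piMap fun _ => Algebra.linearMap P B
  have hθ : Function.Surjective θ := fun v => by
    choose w hw using fun i => hπ (v i)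
    exact ⟨w, funext hw⟩
  have hψ : Function.Surjective ((φ.restrictScalars P) ∘ₗ θ) := hφ.comp hθ
  obtain ⟨F, _, _, φ', hproj, hfin, hφ', hfp⟩ := exists_fp_kernel_poly σ (A := A) M
  haveI := fp_ker_of_exists ((φ.restrictScalars P) ∘ₗ θ) hψ φ' hφ' hfp
  let l : LinearMap.ker ((φ.restrictScalars P) ∘ₗ θ) →ₗ[P] LinearMap.ker (φ.restrictScalars P) :=
    θ.restrict fun v hv => hv
  have hl : Function.Surjective l := fun ⟨w, hw⟩ => by
    obtain ⟨v, rfl⟩ := hθ w
    exact ⟨⟨v, hw⟩, rfl⟩
  have hθker : (LinearMap.ker θ).FG := Module.FinitePresentation.fg_ker θ hθ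
  haveI : Module.FinitePresentation P (LinearMap.ker (φ.restrictScalars P)) := by
    refine Module.finitePresentation_of_surjective l hl ?_
    refine Submodule.fg_of_fg_map_injective _ (LinearMap.ker ((φ.restrictScalars P) ∘ₗ θ)).subtype_injective ?_
    convert hθker using 1
    ext v
    constructor
    · rintro ⟨⟨w, hw⟩, hw', rfl⟩
      exact congrArg Subtype.val hw'
    · intro hv
      exact ⟨⟨v, show φ (θ v) = 0 by rw [show θ v = 0 from hv, map_zero]⟩, Subtype.ext hv, rfl⟩
  haveI : Module.FinitePresentation P (LinearMap.ker φ) :=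
    ‹Module.FinitePresentation P (LinearMap.ker (φ.restrictScalars P))›
  exact FinitePresentation.of_isBaseChange (LinearMap.id : LinearMap.ker φ →ₗ[P] LinearMap.ker φ)
    (isBaseChange_self_of_surjective hπ _)

/-- the kernel of a surjection onto a flat module of finite presentation -/
theorem fp_ker {A B : Type u} [CommRing A] [CommRing B] [Algebra A B] [Algebra.FinitePresentation A B]
    {G H : Type u} [AddCommGroup G] [Module B G] [AddCommGroup H] [Module B H] [Module A H] [IsScalarTower A B H]
    [Module.FinitePresentation B G] [Module.FinitePresentation B H] [Module.Flat A H]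
    (p : G →ₗ[B] H) (hp : Function.Surjective p) : Module.FinitePresentation B (LinearMap.ker p) := by
  obtain ⟨n, q, hq⟩ := Module.Finite.exists_fin' B G
  haveI := fp_ker_free (A := A) H n (p ∘ₗ q) (hp.comp hq)
  let l : LinearMap.ker (p ∘ₗ q) →ₗ[B] LinearMap.ker p := q.restrict fun v hv => hv
  have hl : Function.Surjective l := fun ⟨w, hw⟩ => by
    obtain ⟨v, rfl⟩ := hq w
    exact ⟨⟨v, hw⟩, rfl⟩
  refine Module.finitePresentation_of_surjective l hl ?_
  refine Submodule.fg_of_fg_map_injective _ (LinearMap.ker (p ∘ₗ q)).subtype_injective ?_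
  have heq : Submodule.map (LinearMap.ker (p ∘ₗ q)).subtype (LinearMap.ker l) = LinearMap.ker q := by
    refine SetLike.ext fun v => ⟨?_, fun hv => ?_⟩
    · rintro ⟨⟨w, hw⟩, hw', rfl⟩
      exact congrArg Subtype.val hw'
    · exact ⟨⟨v, show p (q v) = 0 by rw [show q v = 0 from hv, map_zero]⟩, Subtype.ext hv, rfl⟩
  rw [heq]
  exact Module.FinitePresentation.fg_ker q hq

end RichLib.FlatSyzygy
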