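import Mathlib
import Groth.Agent.RichLib.FlatSyzygy

/-!
# Flat modules of finite presentation have resolutions by finite free modules
-/

set_option autoImplicit false
universe u

open CategoryTheory CategoryTheory.Limits

noncomputable section

namespace RichLib.FreeRes

variable {B : Type u} [CommRing B]

/-- iterated presentations give a resolution by finite free modules -/
theorem exists_resolution (Q : ∀ (N : Type u) [AddCommGroup N] [Module B N], Prop)
    (H : ∀ (N : Type u) [AddCommGroup N] [Module B N], Q N →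
      ∃ (n : ℕ) (φ : (Fin n → B) →ₗ[B] N), Function.Surjective φ ∧ Q ↥(LinearMap.ker φ))
    (M : Type u) [AddCommGroup M] [Module B M] (hM : Q M) :
    ∃ P : ProjectiveResolution (ModuleCat.of B M),
      ∀ n : ℕ, Module.Finite B (P.complex.X n) ∧ Module.Free B (P.complex.X n) := by
  choose rk φ hφ hker using fun (N : {N : ModuleCat.{u} B // Q N}) => H N.1 N.2
  let syz : ℕ → {N : ModuleCat.{u} B // Q N} := fun n =>
    Nat.rec ⟨ModuleCat.of B M, hM⟩ (fun _ N => ⟨ModuleCat.of B ↥(LinearMap.ker (φ N)), hker N⟩) n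
  let X : ℕ → ModuleCat.{u} B := fun n => ModuleCat.of B (Fin (rk (syz n)) → B)
  let dl : ∀ n, (Fin (rk (syz (n + 1))) → B) →ₗ[B] (Fin (rk (syz n)) → B) := fun n =>
    (LinearMap.ker (φ (syz n))).subtype ∘ₗ φ (syz (n + 1))
  have hrange : ∀ n, LinearMap.range (dl n) = LinearMap.ker (φ (syz n)) := fun n => by
    rw [LinearMap.range_comp, LinearMap.range_eq_top.mpr (hφ (syz (n + 1))), Submodule.map_top, Submodule.range_subtype]
  have hcomp : ∀ n, (dl n) ∘ₗ (dl (n + 1)) = 0 := fun n => by
    refine LinearMap.ext fun x => ?_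
    show (φ (syz (n + 1)) ((φ (syz (n + 1 + 1)) x).1)).1 = 0
    rw [show φ (syz (n + 1)) ((φ (syz (n + 1 + 1)) x).1) = 0 from (φ (syz (n + 1 + 1)) x).2]
    rfl
  let C : ChainComplex (ModuleCat.{u} B) ℕ := ChainComplex.of X (fun n => ModuleCat.ofHom (dl n))
    fun n => ModuleCat.hom_ext (hcomp n)
  have hd : ∀ n, C.d (n + 1) n = ModuleCat.ofHom (dl n) := fun n => (ChainComplex.of_d X (fun n => ModuleCat.ofHom (dl n)) n :)
  let π₀ : C.X 0 ⟶ ModuleCat.of B M := ModuleCat.ofHom (φ (syz 0))
  have hπ : C.d 1 0 ≫ π₀ = 0 := by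
    rw [hd 0]
    refine ModuleCat.hom_ext (LinearMap.ext fun x => ?_)
    exact (φ (syz 1) x).2
  refine ⟨{
    complex := C
    projective := fun n => (IsProjective.iff_projective (R := B) (Fin (rk (syz n)) → B)).mp inferInstance
    π := (ChainComplex.toSingle₀Equiv _ _).symm ⟨π₀, hπ⟩
    quasiIso := ⟨fun n => ?_⟩ }, fun n => ⟨(inferInstance : Module.Finite B (Fin (rk (syz n)) → B)),
      (inferInstance : Module.Free B (Fin (rk (syz n)) → B))⟩⟩
  cases n with
  | zero =>
    rw [ChainComplex.quasiIsoAt₀_iff, ShortComplex.quasiIso_iff_of_zeros']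
    · refine (ShortComplex.exact_and_epi_g_iff_of_iso ?_).2
        ⟨(ShortComplex.moduleCat_exact_iff_range_eq_ker (ShortComplex.mk (ModuleCat.ofHom (dl 0)) π₀
          (by rw [← hd 0]; exact hπ))).mpr (hrange 0), (ModuleCat.epi_iff_surjective _).mpr (hφ (syz 0))⟩
      exact ShortComplex.isoMk (Iso.refl _) (Iso.refl _) (Iso.refl _) (by simp [hd]; rfl) (by simp; rfl)
    all_goals rfl
  | succ n =>
    rw [quasiIsoAt_iff_exactAt']
    · rw [HomologicalComplex.exactAt_iff' _ (n + 1 + 1) (n + 1) n (by simp) (by simp),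
        ShortComplex.moduleCat_exact_iff_range_eq_ker]
      show LinearMap.range (C.d (n + 1 + 1) (n + 1)).hom = LinearMap.ker (C.d (n + 1) n).hom
      rw [hd, hd, ModuleCat.hom_ofHom, ModuleCat.hom_ofHom, hrange (n + 1)]
      refine SetLike.ext fun x => ?_
      show φ (syz (n + 1)) x = 0 ↔ (φ (syz (n + 1)) x).1 = 0
      exact Subtype.ext_iff
    · apply ChainComplex.exactAt_succ_single_obj

end RichLib.FreeRes
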