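import Mathlib
import Groth.Agent.RichLib.LimitBaseChange
import Groth.Agent.RichLib.LimitDescent
import Groth.Agent.RichLib.QuasiAffineMor

/-!
# Quasi-affineness descends along affine limits
-/

set_option autoImplicit false
universe u

open CategoryTheory CategoryTheory.Limits AlgebraicGeometry TopologicalSpace

noncomputable section

namespace RichLib.LimBC

/-- quasi-affine morphisms -/
def qaProp : MorphismProperty Scheme.{u} := fun _ _ f => Mor2.IsQuasiAffine f

instance : (qaProp.{u}).IsStableUnderBaseChange := ⟨fun sq hf => RichLib.QA.of_isPullback sq.flip.flip hf⟩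

theorem qaProp_of_cover {X Y : Scheme.{u}} (f : X ⟶ Y) {ι : Type u} (U : ι → Y.Opens) (hU : iSup U = ⊤)
    (h : ∀ i, qaProp (f ∣_ U i)) : qaProp f := by
  have h1 : ∀ y : Y, ∃ (i : ι) (W : Y.Opens), IsAffineOpen W ∧ y ∈ W ∧ W ≤ U i := fun y => by
    obtain ⟨i, hi⟩ := TopologicalSpace.Opens.mem_iSup.mp (hU.ge (Set.mem_univ y) : y ∈ iSup U)
    obtain ⟨_, ⟨W, hW, rfl⟩, hyW, hWU⟩ := Y.isBasis_affineOpens.exists_subset_of_mem_open hi (U i).2
    exact ⟨i, W, hW, hyW, hWU⟩
  choose i W hWa hyW hWU using h1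
  refine RichLib.QA.of_cover f W (eq_top_iff.mpr fun y _ => TopologicalSpace.Opens.mem_iSup.mpr ⟨y, hyW y⟩)
    hWa fun y => ?_
  let V := (U (i y)).ι ⁻¹ᵁ W y
  have hV : (U (i y)).ι ''ᵁ V = W y := by
    rw [Scheme.Hom.image_preimage_eq_opensRange_inf, Scheme.Opens.opensRange_ι, inf_eq_right.mpr (hWU y)]
  haveI := (h (i y)).2 V (IsAffineOpen.preimage_of_isOpenImmersion (hWa y) _
    (by rw [Scheme.Opens.opensRange_ι]; exact hWU y))
  have e : f ⁻¹ᵁ W y = (f ⁻¹ᵁ U (i y)).ι ''ᵁ ((f ∣_ U (i y)) ⁻¹ᵁ V) := by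
    rw [image_morphismRestrict_preimage, hV]
  rw [e]
  exact RichLib.QA.isQuasiAffine_of_iso ((f ⁻¹ᵁ U (i y)).ι.isoImage ((f ∣_ U (i y)) ⁻¹ᵁ V)).inv

instance : IsZariskiLocalAtTarget (qaProp.{u}) :=
  .mk' (fun f U hf => MorphismProperty.of_isPullback (isPullback_morphismRestrict f U).flip hf)
    qaProp_of_cover

theorem qaProp_of_isAffine {X Y : Scheme.{u}} (f : X ⟶ Y) [IsAffine Y] [X.IsQuasiAffine] : qaProp f :=
  RichLib.QA.of_cover f (fun _ : Unit => ⊤) (by simp) (fun _ => isAffineOpen_top Y)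
    fun _ => by
      rw [Scheme.Hom.preimage_top]
      exact RichLib.QA.isQuasiAffine_of_iso X.topIso.hom

theorem isQuasiAffine_of_qaProp {X Y : Scheme.{u}} (f : X ⟶ Y) [IsAffine Y] (h : qaProp f) :
    X.IsQuasiAffine := by
  have h1 := h.2 ⊤ (isAffineOpen_top Y)
  rw [Scheme.Hom.preimage_top] at h1
  exact RichLib.QA.isQuasiAffine_of_iso X.topIso.inv

variable {I : Type u} [SmallCategory I] {S : Scheme.{u}} (A : Sys I S) [IsCofiltered I]
  {W : Scheme.{u}} (g : W ⟶ S)

theorem exists_at_isQuasiAffine [CompactSpace S] [QuasiCompact g] [QuasiSeparated g]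
    (h : AtLim A g qaProp) : ∃ i, At A g qaProp i := by
  refine exists_at_of_local A g qaProp h fun {U} ι _ _ hU => ?_
  let k := pullback.snd g ι
  let B := pb A ι
  haveI : IsAffine B.c.pt := by
    haveI := B.affine_s
    exact isAffine_of_isAffineHom B.s
  haveI : CompactSpace ↥(pullback g ι) := QuasiCompact.compactSpace_of_compactSpace k
  haveI : QuasiSeparatedSpace ↥(pullback g ι) := quasiSeparatedSpace_of_quasiSeparated k
  let C := pb B k
  haveI : ∀ i, CompactSpace (C.D.obj i) := C.compactSpace_obj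
  haveI : ∀ i, QuasiSeparatedSpace (C.D.obj i) := C.quasiSeparatedSpace_obj
  haveI : ∀ {i j} (a : i ⟶ j), IsAffineHom (C.D.map a) := fun a => C.affine_map a
  haveI : Scheme.IsQuasiAffine C.c.pt := isQuasiAffine_of_qaProp (pullback.snd k B.s) hU
  obtain ⟨i, hi⟩ := Scheme.exists_isQuasiAffine_of_isLimit C.D C.c C.hc
  haveI : IsAffine (B.D.obj i) := Sys.isAffine_obj B i
  haveI : Scheme.IsQuasiAffine (pullback k (B.t i)) := hi
  exact ⟨i, qaProp_of_isAffine _⟩

end RichLib.LimBC
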