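import Groth.Agent.FlatLib.FibreFlatScheme
import Groth.Agent.S12442
import Mathlib

/-!
# Fibrewise criteria for morphisms over a base, with flat source
-/

set_option autoImplicit false
universe u

open AlgebraicGeometry CategoryTheory Limits TensorProduct

namespace RichLib.FibreCrit

attribute [local instance] Algebra.TensorProduct.rightAlgebra

variable {X Y S : Scheme.{u}}

set_option backward.isDefEq.respectTransparency false in
theorem formallyUnramified_of_fibers {X Y : Scheme.{u}} (f : X ⟶ Y) [LocallyOfFiniteType f]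
    (h : ∀ y, FormallyUnramified (f.fiberToSpecResidueField y)) : FormallyUnramified f := by
  wlog h : ∃ R, Y = Spec R
  · rw [IsZariskiLocalAtTarget.iff_of_openCover (P := @FormallyUnramified) Y.affineCover]
    intro i
    dsimp [Scheme.Cover.pullbackHom]
    refine this _ (fun y ↦ ?_) ⟨_, rfl⟩
    apply MorphismProperty.of_isPullback
    · exact isPullback_fiberToSpecResidueField_of_isPullback (IsPullback.of_hasPullback _ _) _
    · infer_instance
  obtain ⟨R, rfl⟩ := h
  wlog hX : ∃ S, X = Spec S generalizing f X
  · rw [IsZariskiLocalAtSource.iff_of_openCover (P := @FormallyUnramified) X.affineCover]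
    intro i
    have _ (y) : FormallyUnramified (pullback.snd f ((Spec R).fromSpecResidueField y)) :=
      inferInstanceAs <| FormallyUnramified (f.fiberToSpecResidueField y)
    refine this _ (fun y ↦ ?_) ⟨_, rfl⟩
    rw [Scheme.Hom.fiberToSpecResidueField, ← pullbackRightPullbackFstIso_inv_snd_snd]
    exact MorphismProperty.comp_mem @FormallyUnramified _ _ inferInstance
      (MorphismProperty.comp_mem @FormallyUnramified _ _
        (MorphismProperty.pullback_snd _ _ inferInstance) (h y))
  obtain ⟨S, rfl⟩ := hX
  obtain ⟨φ, rfl⟩ := Spec.map_surjective f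
  simp only [HasRingHomProperty.Spec_iff] at *
  algebraize [φ.hom]
  have hfib : ∀ p : PrimeSpectrum R, Algebra.FormallyUnramified p.asIdeal.ResidueField (p.asIdeal.Fiber S) := by
    intro p
    rw [← RingHom.formallyUnramified_algebraMap, ← CommRingCat.hom_ofHom (algebraMap p.asIdeal.ResidueField (p.asIdeal.Fiber ↑S)),
      ← HasRingHomProperty.Spec_iff (P := @FormallyUnramified), ← MorphismProperty.arrow_mk_iso_iff (P := @FormallyUnramified)
      (Spec.fiberToSpecResidueFieldIso R S p)]
    exact h p
  refine RingHom.formallyUnramified_algebraMap.mpr ?_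
  rw [Algebra.formallyUnramified_iff, ← Module.support_eq_empty_iff (R := (S : Type u))]
  refine Set.eq_empty_iff_forall_notMem.mpr fun Q hQ => ?_
  rw [Module.mem_support_iff_nontrivial_residueField_tensorProduct] at hQ
  let p : PrimeSpectrum R := PrimeSpectrum.comap (algebraMap R S) Q
  haveI := hfib p
  haveI : Q.asIdeal.LiesOver p.asIdeal := ⟨rfl⟩
  let F := p.asIdeal.Fiber S
  let L := Q.asIdeal.ResidueField
  let ψ : F →ₐ[R] L := Algebra.TensorProduct.lift
    (Ideal.ResidueField.mapₐ p.asIdeal Q.asIdeal (Algebra.ofId R S) rfl) (IsScalarTower.toAlgHom R S L)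
    (fun _ _ => .all _ _)
  letI : Algebra F L := ψ.toRingHom.toAlgebra
  haveI : IsScalarTower S F L := .of_algebraMap_eq fun s => by
    show algebraMap S L s = ψ (algebraMap S F s)
    simp [ψ, F, Algebra.TensorProduct.algebraMap_apply, Algebra.TensorProduct.right_algebraMap_apply]
  haveI : Subsingleton (F ⊗[S] Ω[S⁄R]) :=
    (KaehlerDifferential.tensorKaehlerEquiv R p.asIdeal.ResidueField S F).toEquiv.subsingleton
  haveI : Subsingleton (L ⊗[S] Ω[S⁄R]) :=
    (AlgebraTensorModule.cancelBaseChange S F L L Ω[S⁄R]).symm.toEquiv.subsingleton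
  exact not_nontrivial_iff_subsingleton.mpr this hQ

variable (g : Y ⟶ S) (f : X ⟶ Y)

/-- `X ×_Y Y_s` is the fibre of the composite. -/
noncomputable def fibIso (s : S) : pullback f (g.fiberι s) ≅ (f ≫ g).fiber s :=
  pullbackRightPullbackFstIso g (S.fromSpecResidueField s) f

theorem fibIso_hom_fiberMap (s : S) :
    (fibIso g f s).hom ≫ MoreMor.fiberMap f g s = pullback.snd f (g.fiberι s) := by
  apply pullback.hom_ext
  · refine (Category.assoc _ _ _).trans ((congrArg (_ ≫ ·) (pullback.lift_fst _ _ _)).trans ?_)
    refine (Category.assoc _ _ _).symm.trans ?_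
    exact ((congrArg (· ≫ f) (pullbackRightPullbackFstIso_hom_fst g _ f))).trans pullback.condition
  · exact (Category.assoc _ _ _).trans ((congrArg (_ ≫ ·) (pullback.lift_snd _ _ _)).trans
      (pullbackRightPullbackFstIso_hom_snd g _ f))

theorem flat_fiberMap {P : MorphismProperty Scheme.{u}} [P.RespectsIso] (s : S)
    (h : P (pullback.snd f (g.fiberι s))) : P (MoreMor.fiberMap f g s) :=
  (P.cancel_left_of_respectsIso (fibIso g f s).hom _).mp (by rwa [fibIso_hom_fiberMap])

theorem flat_of_fibres [LocallyOfFinitePresentation g] [LocallyOfFinitePresentation (f ≫ g)] [Flat (f ≫ g)]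
    (h : ∀ s : S, Flat (pullback.snd f (g.fiberι s))) : Flat f :=
  FlatLib.flat_of_fibres_flat_lfp f g fun s => flat_fiberMap (P := @Flat) g f s (h s)

/-- the fibre over a point of `Y` is a base change of the fibre over its image in `S` -/
theorem fiber_of_fibres {P : MorphismProperty Scheme.{u}} [P.IsStableUnderBaseChange] (y : Y)
    (h : ∀ s : S, P (pullback.snd f (g.fiberι s))) : P (f.fiberToSpecResidueField y) := by
  let l : Spec (Y.residueField y) ⟶ g.fiber (g y) :=
    pullback.lift (Y.fromSpecResidueField y) (Spec.map (g.residueFieldMap y)) (by simp)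
  have hl : l ≫ g.fiberι (g y) = Y.fromSpecResidueField y := pullback.lift_fst ..
  let k : f.fiber y ⟶ pullback f (g.fiberι (g y)) :=
    pullback.lift (f.fiberι y) (f.fiberToSpecResidueField y ≫ l)
      (by rw [Category.assoc, hl]; exact f.fiber_fac y)
  suffices hsq : IsPullback k (f.fiberToSpecResidueField y) (pullback.snd f (g.fiberι (g y))) l from
    MorphismProperty.of_isPullback hsq (h (g y))
  refine IsPullback.of_right (h₁₂ := pullback.fst f (g.fiberι (g y))) (h₂₂ := g.fiberι (g y)) ?_
    (pullback.lift_snd ..) (IsPullback.of_hasPullback f (g.fiberι (g y)))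
  rw [pullback.lift_fst, hl]
  exact IsPullback.of_hasPullback _ _

theorem smooth_of_fibres [LocallyOfFinitePresentation g] [LocallyOfFinitePresentation (f ≫ g)] [Flat (f ≫ g)]
    (h : ∀ s : S, Smooth (pullback.snd f (g.fiberι s))) : Smooth f := by
  haveI : LocallyOfFinitePresentation f := Groth.Agent.S12442.lfp_of_comp_lft f g
  haveI : Flat f := flat_of_fibres g f fun s => have := h s; inferInstance
  exact Smooth.of_smooth_fiberToSpecResidueField f fun y => fiber_of_fibres (P := @Smooth) g f y h

theorem etale_of_fibres [LocallyOfFinitePresentation g] [LocallyOfFinitePresentation (f ≫ g)] [Flat (f ≫ g)]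
    (h : ∀ s : S, Etale (pullback.snd f (g.fiberι s))) : Etale f := by
  haveI : LocallyOfFinitePresentation f := Groth.Agent.S12442.lfp_of_comp_lft f g
  haveI : Flat f := flat_of_fibres g f fun s => have := h s; inferInstance
  haveI : FormallyUnramified f := formallyUnramified_of_fibers f fun y =>
    have := fiber_of_fibres (P := @Etale) g f y h
    inferInstance
  exact Etale.of_formallyUnramified_of_flat f

theorem universallyInjective_of_fibres (h : ∀ s : S, Mono (pullback.snd f (g.fiberι s))) :
    UniversallyInjective f := by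
  have htfae := (tfae_universallyInjective f).out 0 1
  rw [htfae]
  intro K _ g₁ g₂ hg
  replace hg : g₁ ≫ f = g₂ ≫ f := hg
  let z := (g₁ ≫ f ≫ g) (IsLocalRing.closedPoint K)
  let ι := S.descResidueField (Scheme.stalkClosedPointTo (g₁ ≫ f ≫ g))
  have hι : Spec.map ι ≫ S.fromSpecResidueField z = g₁ ≫ f ≫ g :=
    Scheme.descResidueField_stalkClosedPointTo_fromSpecResidueField K S _
  let a : Spec (.of K) ⟶ g.fiber z := pullback.lift (g₁ ≫ f) (Spec.map ι) (by rw [hι, Category.assoc])
  let b₁ : Spec (.of K) ⟶ pullback f (g.fiberι z) :=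
    pullback.lift g₁ a (by rw [Scheme.Hom.fiberι]; exact (pullback.lift_fst ..).symm)
  let b₂ : Spec (.of K) ⟶ pullback f (g.fiberι z) :=
    pullback.lift g₂ a (by rw [Scheme.Hom.fiberι, ← hg]; exact (pullback.lift_fst ..).symm)
  haveI := h z
  have hb : b₁ = b₂ := (cancel_mono (pullback.snd f (g.fiberι z))).mp
    ((pullback.lift_snd ..).trans (pullback.lift_snd ..).symm)
  exact (pullback.lift_fst ..).symm.trans
    ((congrArg (· ≫ pullback.fst f (g.fiberι z)) hb).trans (pullback.lift_fst ..))

theorem isOpenImmersion_of_fibres [LocallyOfFinitePresentation g] [LocallyOfFinitePresentation (f ≫ g)]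
    [Flat (f ≫ g)] (h : ∀ s : S, IsOpenImmersion (pullback.snd f (g.fiberι s))) : IsOpenImmersion f := by
  haveI : Etale f := etale_of_fibres g f fun s => have := h s; inferInstance
  haveI : UniversallyInjective f := universallyInjective_of_fibres g f fun s => have := h s; inferInstance
  haveI : Surjective (pullback.diagonal f) := (UniversallyInjective.iff_diagonal f).mp ‹_›
  haveI : IsIso (pullback.diagonal f) := by
    rw [isIso_iff_isOpenImmersion_and_surjective]
    exact ⟨inferInstance, inferInstance⟩
  haveI : Mono f := (pullback.isIso_diagonal_iff f).mp inferInstance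
  exact IsOpenImmersion.of_flat_of_mono f

theorem surjective_of_fibres (h : ∀ s : S, Surjective (pullback.snd f (g.fiberι s))) : Surjective f := by
  refine ⟨fun y => ?_⟩
  obtain ⟨w, hw⟩ : y ∈ Set.range (g.fiberι (g y)) := by
    rw [Scheme.Hom.range_fiberι]; rfl
  obtain ⟨v, rfl⟩ := (h (g y)).surj w
  refine ⟨pullback.fst f (g.fiberι (g y)) v, ?_⟩
  refine Eq.trans ?_ hw
  rw [← Scheme.Hom.comp_apply, pullback.condition, Scheme.Hom.comp_apply]

end RichLib.FibreCrit
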