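import Mathlib
import Groth.Agent.RichLib.LimitDescentProps

/-!
# Properties of the structure maps of the stages of a limit
-/

set_option autoImplicit false
universe u

open CategoryTheory CategoryTheory.Limits AlgebraicGeometry Topology

namespace RichLib.LimBC

variable {I : Type u} [SmallCategory I] [IsCofiltered I]

theorem Sys.exists_isEmpty {S : Scheme.{u}} (A : Sys I S) [CompactSpace S] (h : IsEmpty A.c.pt) :
    ∃ i, IsEmpty (A.D.obj i) := by
  obtain ⟨i⟩ := IsCofiltered.nonempty (C := I)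
  obtain ⟨j, a, hj⟩ := exists_map_preimage_eq_top A (i := i) ⊥
    (eq_top_iff.mpr fun x _ => h.elim x)
  exact ⟨j, ⟨fun x => (hj.ge (Set.mem_univ x) : _ ∈ (⊥ : (A.D.obj i).Opens))⟩⟩

variable (D : I ⥤ Scheme.{u}) (c : Cone D) (hc : IsLimit c)
  [∀ (i j : I) (f : i ⟶ j), IsAffineHom (D.map f)]
  [∀ i, CompactSpace (D.obj i)] [∀ i, QuasiSeparatedSpace (D.obj i)]
  {S : Scheme.{u}} [QuasiSeparatedSpace S] (t : D ⟶ (Functor.const I).obj S)

theorem comp_app {i j : I} (a : i ⟶ j) : D.map a ≫ (t.app j : D.obj j ⟶ S) = t.app i :=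
  (t.naturality a).trans (Category.comp_id _)

include hc in
theorem exists_isAffineHom_app [CompactSpace S] (i₀ : I) [IsAffineHom (c.π.app i₀ ≫ t.app i₀)] :
    ∃ i₁ : I, ∀ (i : I) (_ : i ⟶ i₁), IsAffineHom (t.app i) := by
  let f : D.obj i₀ ⟶ S := t.app i₀
  haveI : IsAffineHom (c.π.app i₀ ≫ f) := ‹_›
  let A := ofStage D c hc i₀
  let 𝒰 := S.affineCover.finiteSubcover
  have H : ∀ k, ∃ φ : Over i₀, IsAffine (pullback (pullback.fst f (𝒰.f k)) (A.t φ)) := by
    intro k
    haveI : IsAffine (𝒰.X k) := inferInstanceAs (IsAffine (Spec _))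
    haveI : QuasiCompact f := quasiCompact_of_compactSpace f
    let w := pullback.fst f (𝒰.f k)
    haveI : CompactSpace ↥(pullback f (𝒰.f k)) :=
      QuasiCompact.compactSpace_of_compactSpace (pullback.snd f (𝒰.f k))
    haveI : QuasiSeparatedSpace ↥(pullback f (𝒰.f k)) := quasiSeparatedSpace_of_quasiSeparated w
    let C := pb A w
    haveI : ∀ {i j : Over i₀} (a : i ⟶ j), IsAffineHom (C.D.map a) := fun a => C.affine_map a
    haveI := C.compactSpace_obj
    haveI := C.quasiSeparatedSpace_obj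
    haveI : IsAffine C.c.pt := by
      have sq := (IsPullback.of_hasPullback w A.s).paste_horiz (IsPullback.of_hasPullback f (𝒰.f k)).flip
      have hah : IsAffineHom (pullback.fst w A.s ≫ pullback.snd f (𝒰.f k)) :=
        MorphismProperty.of_isPullback (P := @IsAffineHom) (g := A.s ≫ f) sq.flip
          (inferInstanceAs (IsAffineHom (c.π.app i₀ ≫ f)))
      exact @isAffine_of_isAffineHom _ _ _ hah inferInstance
    exact Scheme.exists_isAffine_of_isLimit C.D C.c C.hc
  obtain ⟨φ, hφ⟩ := exists_stage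
    (fun k φ => IsAffine (pullback (pullback.fst f (𝒰.f k)) (A.t φ)))
    (fun k i j a hk => by
      haveI : IsAffine ((pb A (pullback.fst f (𝒰.f k))).D.obj i) := hk
      exact @isAffine_of_isAffineHom _ _ _ ((pb A (pullback.fst f (𝒰.f k))).affine_map a) hk) H
  refine ⟨φ.left, fun i a => ?_⟩
  rw [← comp_app D t a]
  suffices IsAffineHom (t.app φ.left : D.obj φ.left ⟶ S) by
    exact MorphismProperty.comp_mem _ _ _ inferInstance this
  refine IsZariskiLocalAtTarget.of_openCover (P := @IsAffineHom) 𝒰 fun k => ?_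
  haveI : IsAffine (𝒰.X k) := inferInstanceAs (IsAffine (Spec _))
  have sq := (IsPullback.of_hasPullback (pullback.fst f (𝒰.f k)) (A.t φ)).paste_horiz
    (IsPullback.of_hasPullback f (𝒰.f k)).flip
  have e : A.t φ ≫ f = t.app φ.left := comp_app D t φ.hom
  rw [e] at sq
  haveI := hφ k
  haveI : IsAffine (pullback (t.app φ.left : D.obj φ.left ⟶ S) (𝒰.f k)) :=
    IsAffine.of_isIso sq.flip.isoPullback.inv
  exact (inferInstance : IsAffineHom (pullback.snd (t.app φ.left : D.obj φ.left ⟶ S) (𝒰.f k)))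

include hc in
theorem exists_isSeparated_app (i₀ : I) [IsSeparated (c.π.app i₀ ≫ t.app i₀)] :
    ∃ i₁ : I, ∀ (i : I) (_ : i ⟶ i₁), IsSeparated (t.app i) := by
  let f : D.obj i₀ ⟶ S := t.app i₀
  haveI : IsSeparated (c.π.app i₀ ≫ f) := ‹_›
  let A := ofStage D c hc i₀
  let X := fun φ : Over i₀ => A.t φ ≫ f
  let Z := fun φ : Over i₀ => pullback (X φ) (X φ)
  have hXw : ∀ {i j : Over i₀} (a : i ⟶ j), A.D.map a ≫ X j = X i := fun a => by
    simp only [X]; rw [A.w_assoc]
  let ZD : Over i₀ ⥤ Scheme.{u} :=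
  { obj := Z
    map := fun {i j} a => pullback.lift (pullback.fst _ _ ≫ A.D.map a) (pullback.snd _ _ ≫ A.D.map a)
      (by rw [Category.assoc, Category.assoc, hXw, pullback.condition])
    map_id := fun i => by
      apply pullback.hom_ext <;> simp [Z, pullback.lift_fst, pullback.lift_snd]
    map_comp := fun {i j k} a b => by
      apply pullback.hom_ext <;> simp [Z, pullback.lift_fst, pullback.lift_snd, pullback.lift_fst_assoc, pullback.lift_snd_assoc] }
  have hm1 : ∀ {i j : Over i₀} (a : i ⟶ j), ZD.map a ≫ pullback.fst (X j) (X j) =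
      pullback.fst (X i) (X i) ≫ A.D.map a := fun a => pullback.lift_fst _ _ _
  have hm2 : ∀ {i j : Over i₀} (a : i ⟶ j), ZD.map a ≫ pullback.snd (X j) (X j) =
      pullback.snd (X i) (X i) ≫ A.D.map a := fun a => pullback.lift_snd _ _ _
  let F : A.c.pt ⟶ S := A.s ≫ f
  let π : ∀ φ, pullback F F ⟶ Z φ := fun φ =>
    pullback.lift (pullback.fst F F ≫ A.c.π.app φ) (pullback.snd F F ≫ A.c.π.app φ) (by
      simp only [X, Category.assoc, A.hs_assoc]; exact pullback.condition)
  have hπ1 : ∀ φ, π φ ≫ pullback.fst (X φ) (X φ) = pullback.fst F F ≫ A.c.π.app φ := fun φ => pullback.lift_fst _ _ _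
  have hπ2 : ∀ φ, π φ ≫ pullback.snd (X φ) (X φ) = pullback.snd F F ≫ A.c.π.app φ := fun φ => pullback.lift_snd _ _ _
  let cZ : Cone ZD :=
  { pt := pullback F F
    π :=
    { app := π
      naturality := fun i j a => by
        refine (Category.id_comp _).trans ?_
        apply pullback.hom_ext
        · rw [hπ1, Category.assoc, hm1, ← Category.assoc, hπ1, Category.assoc, A.c.w]
        · rw [hπ2, Category.assoc, hm2, ← Category.assoc, hπ2, Category.assoc, A.c.w] } }
  let s1 : ∀ s : Cone ZD, Cone A.D := fun s =>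
    { pt := s.pt
      π := { app := fun φ => s.π.app φ ≫ pullback.fst (X φ) (X φ)
             naturality := fun i j a => by
              refine (Category.id_comp _).trans ?_
              rw [Category.assoc, ← hm1, ← Category.assoc, s.w] } }
  let s2 : ∀ s : Cone ZD, Cone A.D := fun s =>
    { pt := s.pt
      π := { app := fun φ => s.π.app φ ≫ pullback.snd (X φ) (X φ)
             naturality := fun i j a => by
              refine (Category.id_comp _).trans ?_
              rw [Category.assoc, ← hm2, ← Category.assoc, s.w] } }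
  obtain ⟨φ₀⟩ := IsCofiltered.nonempty (C := Over i₀)
  have hZ : IsLimit cZ :=
  { lift := fun s => pullback.lift (A.hc.lift (s1 s)) (A.hc.lift (s2 s)) (by
      simp only [F, ← A.hs_assoc φ₀, A.hc.fac_assoc, s1, s2, Category.assoc]
      rw [pullback.condition])
    fac := fun s φ => by
      apply pullback.hom_ext
      · rw [Category.assoc, show cZ.π.app φ = π φ from rfl, hπ1, pullback.lift_fst_assoc, A.hc.fac]
      · rw [Category.assoc, show cZ.π.app φ = π φ from rfl, hπ2, pullback.lift_snd_assoc, A.hc.fac]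
    uniq := fun s m hm => by
      apply pullback.hom_ext
      · rw [pullback.lift_fst]
        refine A.hc.hom_ext fun φ => ?_
        rw [A.hc.fac, Category.assoc, ← hπ1, ← Category.assoc]
        exact congrArg (· ≫ _) (hm φ)
      · rw [pullback.lift_snd]
        refine A.hc.hom_ext fun φ => ?_
        rw [A.hc.fac, Category.assoc, ← hπ2, ← Category.assoc]
        exact congrArg (· ≫ _) (hm φ) }
  haveI : ∀ {i j : Over i₀} (a : i ⟶ j), IsAffineHom (A.D.map a) := fun a => A.affine_map a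
  haveI : ∀ {i j : Over i₀} (a : i ⟶ j), IsAffineHom (ZD.map a) := fun {i j} a => by
    have : ZD.map a = pullback.map (X i) (X i) (X j) (X j) (A.D.map a) (A.D.map a) (𝟙 S)
        (by rw [hXw, Category.comp_id]) (by rw [hXw, Category.comp_id]) := rfl
    rw [this]
    exact MorphismProperty.pullbackMap (A.affine_map a) (A.affine_map a) (hXw a).symm (hXw a).symm
  haveI : ∀ φ, CompactSpace (ZD.obj φ) := fun φ => by
    haveI : CompactSpace (A.D.obj φ) := inferInstanceAs (CompactSpace (D.obj φ.left))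
    haveI : QuasiCompact (X φ) := quasiCompact_of_compactSpace _
    exact QuasiCompact.compactSpace_of_compactSpace (pullback.fst (X φ) (X φ))
  let d := fun φ => pullback.diagonal (X φ)
  have hdZ : ∀ φ, pullback.diagonal F ≫ π φ = A.c.π.app φ ≫ d φ := fun φ => by
    apply pullback.hom_ext <;> simp [hπ1, hπ2, d]
  have hdm : ∀ {i j : Over i₀} (a : i ⟶ j), d i ≫ ZD.map a = A.D.map a ≫ d j := fun {i j} a => by
    apply pullback.hom_ext <;> simp [hm1, hm2, d]
  let top : Over i₀ := Over.mk (𝟙 i₀)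
  let U₀ := (d top).coborderRange
  by_cases hgood : ∃ φ, IsSeparated (X φ)
  · obtain ⟨φ, hφ⟩ := hgood
    refine ⟨φ.left, fun i a => ?_⟩
    rw [← comp_app D t a]
    have : IsSeparated (t.app φ.left : D.obj φ.left ⟶ S) := by
      rw [← comp_app D t φ.hom]; exact hφ
    exact MorphismProperty.comp_mem _ _ _ inferInstance this
  exfalso
  have hne : ∀ (φ : Over i₀) (b : φ ⟶ top),
      (closure (Set.range (d φ).base) ∩ ((ZD.map b).base ⁻¹' (U₀ : Set (Z top)))ᶜ).Nonempty := by
    intro φ b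
    by_contra hh
    refine hgood ⟨φ, ⟨IsClosedImmersion.of_isPreimmersion _ (isClosed_of_closure_subset fun z hz => ?_)⟩⟩
    have hzU : (ZD.map b).base z ∈ (U₀ : Set (Z top)) := by
      by_contra hzU
      exact hh ⟨z, hz, hzU⟩
    have hzc : (ZD.map b).base z ∈ closure (Set.range (d top).base) := by
      refine map_mem_closure (ZD.map b).continuous hz ?_
      rintro _ ⟨x, rfl⟩
      exact ⟨(A.D.map b).base x, by rw [← Scheme.Hom.comp_apply, ← hdm, Scheme.Hom.comp_apply]⟩
    have hz0 : (ZD.map b).base z ∈ Set.range (d top).base :=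
      coborder_inter_closure (s := Set.range (d top).base) ▸ ⟨hzU, hzc⟩
    have sq0 := IsPullback.of_hasPullback (d top) (ZD.map b)
    let O := pullback.snd (d top) (ZD.map b)
    obtain ⟨o, ho⟩ : z ∈ Set.range O.base := by
      obtain ⟨x, hx⟩ := hz0
      obtain ⟨o, -, ho⟩ := Scheme.exists_preimage_of_isPullback sq0 x z hx
      exact ⟨o, ho⟩
    let k : A.D.obj φ ⟶ pullback (d top) (ZD.map b) := pullback.lift (A.D.map b) (d φ) (hdm b).symm
    haveI : IsClosedImmersion k := by
      haveI : IsAffineHom (pullback.snd (d top) (ZD.map b) ≫ pullback.fst (X φ) (X φ) ≫ A.D.map b) := by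
        have : pullback.snd (d top) (ZD.map b) ≫ pullback.fst (X φ) (X φ) ≫ A.D.map b =
            pullback.fst (d top) (ZD.map b) := by
          rw [← hm1, ← Category.assoc, ← pullback.condition, Category.assoc]
          simp [d]
        rw [this]
        exact MorphismProperty.pullback_fst _ _ inferInstance
      haveI : IsAffineHom (pullback.snd (d top) (ZD.map b) ≫ pullback.fst (X φ) (X φ)) := by
        haveI : IsAffineHom ((pullback.snd (d top) (ZD.map b) ≫ pullback.fst (X φ) (X φ)) ≫ A.D.map b) := by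
          rwa [Category.assoc]
        exact IsAffineHom.of_comp _ (A.D.map b)
      haveI : IsClosedImmersion (k ≫ pullback.snd (d top) (ZD.map b) ≫ pullback.fst (X φ) (X φ)) := by
        rw [← Category.assoc, pullback.lift_snd, pullback.diagonal_fst]; infer_instance
      exact IsClosedImmersion.of_comp k (pullback.snd (d top) (ZD.map b) ≫ pullback.fst (X φ) (X φ))
    have hkr : Set.range (d φ).base = O.base '' Set.range k.base := by
      rw [← Set.range_comp]
      show _ = Set.range (k ≫ O).base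
      rw [pullback.lift_snd]
    obtain ⟨T, hT, hTk⟩ := O.isEmbedding.isClosed_iff.mp k.isClosedEmbedding.isClosed_range
    rw [hkr] at hz ⊢
    refine ⟨o, ?_, ho⟩
    rw [← hTk]
    show O.base o ∈ T
    rw [ho]
    refine closure_minimal ?_ hT hz
    rintro _ ⟨x, hx, rfl⟩
    rw [← hTk] at hx
    exact hx
  obtain ⟨z, hz⟩ := exists_mem_of_isClosed_of_nonempty' ZD cZ hZ (j := top)
    (fun φ b => closure (Set.range (d φ).base) ∩ ((ZD.map b).base ⁻¹' (U₀ : Set (Z top)))ᶜ)
    (fun φ b => isClosed_closure.inter (U₀.2.preimage (ZD.map b).continuous).isClosed_compl)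
    hne
    (fun φ b => (isClosed_closure.inter (U₀.2.preimage (ZD.map b).continuous).isClosed_compl).isCompact)
    (fun i j a b x hx => ⟨by
      refine map_mem_closure (ZD.map a).continuous hx.1 ?_
      rintro _ ⟨y, rfl⟩
      exact ⟨(A.D.map a).base y, by rw [← Scheme.Hom.comp_apply, ← hdm, Scheme.Hom.comp_apply]⟩, by
      have := hx.2
      simp only [Functor.map_comp, Set.mem_compl_iff, Set.mem_preimage, Scheme.Hom.comp_apply] at this ⊢
      exact this⟩)
  by_cases hzd : z ∈ Set.range (pullback.diagonal F).base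
  · obtain ⟨x, rfl⟩ := hzd
    refine (hz top (𝟙 _)).2 ?_
    rw [Set.mem_preimage, ZD.map_id]
    show (π top).base ((pullback.diagonal F).base x) ∈ U₀
    rw [← Scheme.Hom.comp_apply, hdZ, Scheme.Hom.comp_apply]
    exact subset_coborder ⟨_, rfl⟩
  · haveI : IsSeparated F := inferInstanceAs (IsSeparated (c.π.app i₀ ≫ f))
    have hcl : IsClosed (Set.range (pullback.diagonal F).base) :=
      (pullback.diagonal F).isClosedEmbedding.isClosed_range
    obtain ⟨_, ⟨i, N, hN, rfl⟩, hzN, hNd⟩ :=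
      TopologicalSpace.Opens.isBasis_iff_nbhd.mp (isBasis_preimage_isAffineOpen ZD cZ hZ)
        (show z ∈ (⟨_, hcl.isOpen_compl⟩ : TopologicalSpace.Opens cZ.pt) from hzd)
    haveI : CompactSpace (A.D.obj i) := inferInstanceAs (CompactSpace (D.obj i.left))
    haveI : QuasiSeparatedSpace (A.D.obj i) := inferInstanceAs (QuasiSeparatedSpace (D.obj i.left))
    haveI : QuasiSeparated (X i) := inferInstance
    haveI : QuasiCompact (d i) := QuasiSeparated.quasiCompact_diagonal
    obtain ⟨j, a, hj⟩ := exists_map_preimage_le_map_preimage A.D A.c A.hc (i := i)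
      (U := d i ⁻¹ᵁ N) (V := ⊥) (QuasiCompact.isCompact_preimage (f := d i) _ N.2 hN.isCompact)
      (fun x hx => by
        refine (hNd (?_ : (pullback.diagonal F).base x ∈ _) ⟨x, rfl⟩).elim
        show (π i).base ((pullback.diagonal F).base x) ∈ N
        rw [← Scheme.Hom.comp_apply, hdZ, Scheme.Hom.comp_apply]
        exact hx)
    have hzj : (π j).base z ∈ closure (Set.range (d j).base) :=
      (hz j (Over.homMk j.hom)).1
    have hzN' : (π j).base z ∈ (ZD.map a ⁻¹ᵁ N) := by
      show (ZD.map a).base ((π j).base z) ∈ N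
      rw [← Scheme.Hom.comp_apply, show π j ≫ ZD.map a = π i from cZ.w a]
      exact hzN
    obtain ⟨_, hy, x, rfl⟩ := mem_closure_iff.mp hzj _ (ZD.map a ⁻¹ᵁ N).2 hzN'
    refine hj (show x ∈ A.D.map a ⁻¹ᵁ (d i ⁻¹ᵁ N) from ?_)
    show (d i).base ((A.D.map a).base x) ∈ N
    rw [← Scheme.Hom.comp_apply, ← hdm, Scheme.Hom.comp_apply]
    exact hy

omit [∀ i, CompactSpace (D.obj i)] [∀ i, QuasiSeparatedSpace (D.obj i)] in
theorem exists_isClosedImmersion_comp_affine {J : Type u} [SmallCategory J] [IsCofiltered J]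
    {W U : Scheme.{u}} (B : Sys J W) [∀ j, IsClosedImmersion (B.t j)] [IsAffine W] [IsAffine U]
    (h : W ⟶ U) [LocallyOfFiniteType h] [IsClosedImmersion (B.s ≫ h)] :
    ∃ j, IsClosedImmersion (B.t j ≫ h) := by
  haveI := B.isAffine_obj
  haveI : IsAffineHom B.s := B.affine_s
  haveI : IsAffine B.c.pt := isAffine_of_isAffineHom B.s
  have hsurj := (IsClosedImmersion.isAffine_surjective_of_isAffine (B.s ≫ h)).2
  obtain ⟨s, hs⟩ := exists_generators h
  obtain ⟨j, hj⟩ := exists_stage (ι := {b // b ∈ s})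
    (fun b j => (B.t j).appTop.hom b.1 ∈ (B.t j ≫ h).appTop.hom.range)
    (fun b i j a ⟨x, hx⟩ => ⟨x, by
      rw [← B.w a, Category.assoc, appTop_comp, hx, ← appTop_comp]⟩)
    (fun b => by
      obtain ⟨x, hx⟩ := hsurj (B.s.appTop.hom b.1)
      obtain ⟨i⟩ := IsCofiltered.nonempty (C := J)
      obtain ⟨j, a, hj⟩ := exists_appTop_map_eq_zero_of_isAffine_of_isLimit B.D B.c B.hc i
        ((B.t i).appTop.hom (h.appTop.hom x - b.1)) (by
          show (B.c.π.app i).appTop.hom _ = 0
          rw [← appTop_comp, B.hs i, map_sub, sub_eq_zero, ← appTop_comp]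
          exact hx)
      refine ⟨j, x, ?_⟩
      rw [← sub_eq_zero, appTop_comp, ← map_sub, ← B.w a, appTop_comp]
      exact hj)
  refine ⟨j, IsClosedImmersion.of_surjective_of_isAffine _ fun z => ?_⟩
  obtain ⟨w, rfl⟩ := (IsClosedImmersion.isAffine_surjective_of_isAffine (B.t j)).2 z
  have hw : w ∈ Subring.closure (Set.range h.appTop.hom ∪ ↑s) := hs ▸ Subring.mem_top w
  have h2 : (B.t j).appTop.hom w ∈
      (Subring.closure (Set.range h.appTop.hom ∪ ↑s)).map (B.t j).appTop.hom := ⟨w, hw, rfl⟩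
  rw [RingHom.map_closure] at h2
  have h3 : (B.t j).appTop.hom w ∈ (B.t j ≫ h).appTop.hom.range := by
    refine Subring.closure_le.mpr ?_ h2
    rintro _ ⟨x, (⟨r, rfl⟩ | hx), rfl⟩
    · exact ⟨r, appTop_comp _ _ _⟩
    · exact hj ⟨x, hx⟩
  exact h3

omit [∀ (i j : I) (f : i ⟶ j), IsAffineHom (D.map f)] in
include hc in
theorem exists_isClosedImmersion_app [CompactSpace S] [∀ (i j : I) (f : i ⟶ j), IsClosedImmersion (D.map f)]
    [∀ i, LocallyOfFiniteType (t.app i)] (i₀ : I) [IsClosedImmersion (c.π.app i₀ ≫ t.app i₀)] :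
    ∃ i₁ : I, ∀ (i : I) (_ : i ⟶ i₁), IsClosedImmersion (t.app i) := by
  have hci : IsClosedImmersion (c.π.app i₀ ≫ t.app i₀ : c.pt ⟶ S) := ‹_›
  obtain ⟨i₁, h₁⟩ := exists_isAffineHom_app D c hc t i₀
  let f : D.obj i₁ ⟶ S := t.app i₁
  haveI : IsAffineHom f := h₁ i₁ (𝟙 _)
  haveI : LocallyOfFiniteType f := inferInstanceAs (LocallyOfFiniteType (t.app i₁))
  let A := ofStage D c hc i₁
  have hs0 : A.s ≫ f = (c.π.app i₀ ≫ t.app i₀ : c.pt ⟶ S) := by
    obtain ⟨k, a, b, -⟩ := IsCofilteredOrEmpty.cone_objs i₁ i₀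
    show c.π.app i₁ ≫ f = _
    rw [← c.w a, Category.assoc, comp_app D t a, ← comp_app D t b, ← Category.assoc, c.w]
  let 𝒰 := S.affineCover.finiteSubcover
  have H : ∀ k, ∃ φ : Over i₁, IsClosedImmersion
      ((pullback.fst (pullback.fst f (𝒰.f k)) (A.t φ)) ≫ pullback.snd f (𝒰.f k)) := by
    intro k
    haveI : IsAffine (𝒰.X k) := inferInstanceAs (IsAffine (Spec _))
    let B := pb A (pullback.fst f (𝒰.f k))
    haveI : IsAffine (pullback f (𝒰.f k)) := isAffine_of_isAffineHom (pullback.snd f (𝒰.f k))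
    haveI : ∀ j, IsClosedImmersion (B.t j) := fun φ =>
      MorphismProperty.pullback_fst _ _ (inferInstanceAs (IsClosedImmersion (D.map φ.hom)))
    have sq := (IsPullback.of_hasPullback (pullback.fst f (𝒰.f k)) A.s).paste_horiz
      (IsPullback.of_hasPullback f (𝒰.f k)).flip
    haveI : IsClosedImmersion (B.s ≫ pullback.snd f (𝒰.f k)) :=
      MorphismProperty.of_isPullback (P := @IsClosedImmersion) (g := A.s ≫ f) sq.flip
        (by rw [hs0]; exact hci)
    exact exists_isClosedImmersion_comp_affine B (pullback.snd f (𝒰.f k))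
  obtain ⟨φ, hφ⟩ := exists_stage
    (fun k φ => IsClosedImmersion
      ((pullback.fst (pullback.fst f (𝒰.f k)) (A.t φ)) ≫ pullback.snd f (𝒰.f k)))
    (fun k i j a hk => by
      rw [← pbMap_fst A (pullback.fst f (𝒰.f k)) a, Category.assoc]
      exact MorphismProperty.comp_mem _ _ _ (MorphismProperty.of_isPullback (P := @IsClosedImmersion)
        (isPullback_map A (pullback.fst f (𝒰.f k)) a).flip
        (inferInstanceAs (IsClosedImmersion (D.map a.left)))) hk) H
  refine ⟨φ.left, fun i a => ?_⟩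
  rw [← comp_app D t a]
  suffices IsClosedImmersion (t.app φ.left : D.obj φ.left ⟶ S) by
    exact MorphismProperty.comp_mem _ _ _ inferInstance this
  refine IsZariskiLocalAtTarget.of_openCover (P := @IsClosedImmersion) 𝒰 fun k => ?_
  have sq := (IsPullback.of_hasPullback (pullback.fst f (𝒰.f k)) (A.t φ)).paste_horiz
    (IsPullback.of_hasPullback f (𝒰.f k)).flip
  have e : A.t φ ≫ f = t.app φ.left := comp_app D t φ.hom
  rw [e] at sq
  have h2 : IsClosedImmersion (sq.flip.isoPullback.inv ≫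
      (pullback.fst (pullback.fst f (𝒰.f k)) (A.t φ) ≫ pullback.snd f (𝒰.f k))) :=
    MorphismProperty.comp_mem (@IsClosedImmersion) _ _ inferInstance (hφ k)
  rw [sq.flip.isoPullback_inv_snd] at h2
  exact h2

omit [∀ (i j : I) (f : i ⟶ j), IsAffineHom (D.map f)] in
include hc in
theorem exists_isImmersion_app [∀ (i j : I) (f : i ⟶ j), IsClosedImmersion (D.map f)]
    [∀ i, LocallyOfFiniteType (t.app i)] (i₀ : I) [IsImmersion (c.π.app i₀ ≫ t.app i₀)] :
    ∃ i₁ : I, ∀ (i : I) (_ : i ⟶ i₁), IsImmersion (t.app i) := by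
  let g : c.pt ⟶ S := c.π.app i₀ ≫ t.app i₀
  haveI : IsImmersion g := ‹_›
  haveI : CompactSpace c.pt := Scheme.compactSpace_of_isLimit D c hc
  have hU : Set.range g.base ⊆ g.coborderRange := subset_coborder
  have : ∀ y : Set.range g.base, ∃ V : S.affineOpens, y.1 ∈ V.1 ∧ V.1 ≤ g.coborderRange := fun y => by
    obtain ⟨_, ⟨V, hV, rfl⟩, hyV, hVU⟩ := S.isBasis_affineOpens.exists_subset_of_mem_open
      (hU y.2) g.coborderRange.2
    exact ⟨⟨V, hV⟩, hyV, hVU⟩
  choose V hyV hVU using this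
  obtain ⟨T, hT⟩ := (isCompact_range g.continuous).elim_finite_subcover (fun y => ((V y).1 : Set S))
    (fun y => (V y).1.2) (fun y hy => Set.mem_iUnion.mpr ⟨⟨y, hy⟩, hyV ⟨y, hy⟩⟩)
  let V' : S.Opens := ⨆ y : T, (V y.1).1
  have hV'c : IsCompact (V' : Set S) := by
    rw [TopologicalSpace.Opens.coe_iSup]
    exact isCompact_iUnion fun y => (V y.1).2.isCompact
  haveI : CompactSpace ↥V'.toScheme := isCompact_iff_compactSpace.mp hV'c
  haveI : QuasiSeparatedSpace ↥V'.toScheme := quasiSeparatedSpace_of_quasiSeparated V'.ι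
  have hgV : Set.range g.base ⊆ V' := fun y hy => by
    obtain ⟨z, hz, hyz⟩ := Set.mem_iUnion₂.mp (hT hy)
    exact TopologicalSpace.Opens.mem_iSup.mpr ⟨⟨z, hz⟩, hyz⟩
  obtain ⟨j, a, hj⟩ := exists_map_eq_top D c hc (i := i₀) ((t.app i₀ : D.obj i₀ ⟶ S) ⁻¹ᵁ V')
    (eq_top_iff.mpr fun x _ => hgV ⟨x, rfl⟩)
  have hjr : ∀ φ : Over j, Set.range (t.app φ.left : D.obj φ.left ⟶ S).base ⊆ Set.range V'.ι.base := by
    intro φ
    rw [Scheme.Opens.range_ι]
    rintro _ ⟨x, rfl⟩
    rw [← comp_app D t (φ.hom ≫ a), Functor.map_comp, Category.assoc, Scheme.Hom.comp_apply,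
      Scheme.Hom.comp_apply]
    exact hj.ge (Set.mem_univ _)
  let t' : Over.forget j ⋙ D ⟶ (Functor.const (Over j)).obj V'.toScheme :=
  { app := fun φ => IsOpenImmersion.lift V'.ι (t.app φ.left) (hjr φ)
    naturality := fun φ ψ b => by
      refine Eq.trans ?_ (Category.comp_id _).symm
      refine (cancel_mono V'.ι).mp ?_
      rw [Category.assoc, IsOpenImmersion.lift_fac, IsOpenImmersion.lift_fac]
      exact comp_app D t b.left }
  have hc' := (Functor.Initial.isLimitWhiskerEquiv (Over.forget j) c).symm hc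
  haveI : ∀ φ : Over j, CompactSpace ((Over.forget j ⋙ D).obj φ) := fun φ => inferInstanceAs (CompactSpace (D.obj φ.left))
  haveI : ∀ φ : Over j, QuasiSeparatedSpace ((Over.forget j ⋙ D).obj φ) := fun φ => inferInstanceAs (QuasiSeparatedSpace (D.obj φ.left))
  haveI : ∀ (φ ψ : Over j) (b : φ ⟶ ψ), IsClosedImmersion ((Over.forget j ⋙ D).map b) := fun φ ψ b => inferInstanceAs (IsClosedImmersion (D.map b.left))
  haveI : ∀ (φ ψ : Over j) (b : φ ⟶ ψ), IsAffineHom ((Over.forget j ⋙ D).map b) := fun φ ψ b => inferInstance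
  haveI : ∀ φ, LocallyOfFiniteType (t'.app φ) := fun φ => by
    haveI : LocallyOfFiniteType ((t'.app φ : _ ⟶ V'.toScheme) ≫ V'.ι) := by
      rw [show (t'.app φ : _ ⟶ V'.toScheme) ≫ V'.ι = t.app φ.left from IsOpenImmersion.lift_fac _ _ _]
      exact ‹∀ i, LocallyOfFiniteType (t.app i)› φ.left
    exact locallyOfFiniteType_of_comp _ V'.ι
  let top : Over j := Over.mk (𝟙 j)
  let g' : c.pt ⟶ V'.toScheme := c.π.app j ≫ t'.app top
  have hg' : g' ≫ V'.ι = g := by
    show (c.π.app j ≫ IsOpenImmersion.lift V'.ι (t.app j) _) ≫ V'.ι = c.π.app i₀ ≫ t.app i₀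
    rw [Category.assoc, IsOpenImmersion.lift_fac, ← comp_app D t a, ← Category.assoc, c.w]
  haveI : IsClosedImmersion g' := by
    haveI : IsImmersion (g' ≫ V'.ι) := hg' ▸ ‹IsImmersion g›
    haveI : IsImmersion g' := IsImmersion.of_comp g' V'.ι
    apply IsClosedImmersion.of_isPreimmersion
    have heq : Set.range g'.base = V'.ι.base ⁻¹' closure (Set.range g.base) := by
      ext u
      constructor
      · rintro ⟨z, rfl⟩
        refine subset_closure ⟨z, ?_⟩
        rw [← Scheme.Hom.comp_apply, hg']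
      · intro hu
        obtain ⟨y, hy⟩ := TopologicalSpace.Opens.mem_iSup.mp u.2
        obtain ⟨z, hz⟩ : V'.ι.base u ∈ Set.range g.base :=
          coborder_inter_closure (s := Set.range g.base) ▸ ⟨hVU _ hy, hu⟩
        exact ⟨z, V'.ι.isOpenEmbedding.injective (by rw [← Scheme.Hom.comp_apply, hg']; exact hz)⟩
    rw [heq]
    exact isClosed_closure.preimage V'.ι.continuous
  haveI : IsClosedImmersion ((c.whisker (Over.forget j)).π.app top ≫ t'.app top) := ‹IsClosedImmersion g'›
  obtain ⟨φ, hφ⟩ := exists_isClosedImmersion_app (Over.forget j ⋙ D) (c.whisker (Over.forget j)) hc' t' top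
  refine ⟨φ.left, fun i b => ?_⟩
  have hi := hφ (Over.mk (b ≫ φ.hom)) (Over.homMk b rfl)
  have e : (t'.app (Over.mk (b ≫ φ.hom)) : _ ⟶ V'.toScheme) ≫ V'.ι = t.app i :=
    IsOpenImmersion.lift_fac _ _ _
  rw [← e]
  exact MorphismProperty.comp_mem (@IsImmersion) _ _ (inferInstanceAs (IsImmersion (t'.app (Over.mk (b ≫ φ.hom))))) inferInstance

end RichLib.LimBC
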