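import Mathlib
import Groth.Agent.RichLib.FibreRange
import Groth.Agent.RichLib.UnramifiedLocus

/-!
# Formal unramifiedness and monomorphy of base changes in terms of constructible sets of the base
-/

set_option autoImplicit false
universe u

open CategoryTheory CategoryTheory.Limits AlgebraicGeometry Topology

namespace RichLib.FibreRange

variable {X₀ Y₀ S T Xi Yi : Scheme.{u}} (f₀ : X₀ ⟶ Y₀) (g₀ : Y₀ ⟶ S) {t : T ⟶ S}
  {fi : Xi ⟶ Yi} {gi : Yi ⟶ T} {pY : Yi ⟶ Y₀} {pX : Xi ⟶ X₀}

/-- the bad set for formal unramifiedness -/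
def badFU : Set S := (f₀ ≫ g₀).base '' (RichLib.UnrLocus.locus f₀)ᶜ

theorem mono_iff_formallyUnramified_universallyInjective {X Y : Scheme.{u}} (f : X ⟶ Y)
    [LocallyOfFiniteType f] : Mono f ↔ FormallyUnramified f ∧ UniversallyInjective f := by
  rw [UniversallyInjective.iff_diagonal]
  constructor
  · intro h
    haveI : IsIso (pullback.diagonal f) := (pullback.isIso_diagonal_iff f).mpr h
    exact ⟨inferInstance, inferInstance⟩
  · rintro ⟨h1, h2⟩
    rw [← pullback.isIso_diagonal_iff, isIso_iff_isOpenImmersion_and_surjective]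
    exact ⟨inferInstance, h2⟩

variable {f₀ g₀}

theorem formallyUnramified_iff (hY : IsPullback pY gi g₀ t) (hX : IsPullback pX fi f₀ pY)
    [LocallyOfFiniteType f₀] : FormallyUnramified fi ↔ t.base ⁻¹' badFU f₀ g₀ = ∅ := by
  constructor
  · intro h
    rw [Set.eq_empty_iff_forall_notMem]
    rintro c ⟨x₀, hx₀, hc⟩
    obtain ⟨y, hy1, -⟩ := Scheme.exists_preimage_of_isPullback hY (f₀.base x₀) c
      (by rw [← Scheme.Hom.comp_apply]; exact hc)
    obtain ⟨x, rfl, -⟩ := Scheme.exists_preimage_of_isPullback hX x₀ y hy1.symm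
    exact hx₀ (RichLib.UnrLocus.mem_locus_of_isPullback hX x)
  · intro h
    rw [← RichLib.UnrLocus.locus_eq_univ_iff, Set.eq_univ_iff_forall]
    intro x
    have hx : pX.base x ∈ RichLib.UnrLocus.locus f₀ := by
      by_contra hx
      refine Set.eq_empty_iff_forall_notMem.mp h ((fi ≫ gi).base x) ⟨pX.base x, hx, ?_⟩
      rw [← Scheme.Hom.comp_apply, ← Scheme.Hom.comp_apply]
      congr 2
      simp [hY.w, reassoc_of% hX.w]
    obtain ⟨V, hxV, hV⟩ := hx
    refine ⟨pX ⁻¹ᵁ V, hxV, ?_⟩
    exact MorphismProperty.of_isPullback (P := @FormallyUnramified)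
      ((isPullback_morphismRestrict pX V).flip.paste_horiz hX.flip).flip hV

variable (f₀ g₀)

theorem isLocallyConstructible_badFU [LocallyOfFinitePresentation g₀]
    [LocallyOfFinitePresentation (f₀ ≫ g₀)] [QuasiCompact (f₀ ≫ g₀)] :
    IsLocallyConstructible (badFU f₀ g₀) := by
  haveI : LocallyOfFinitePresentation f₀ := Groth.Agent.S12442.result f₀ g₀
  exact (f₀ ≫ g₀).isLocallyConstructible_image
    (isLocallyConstructible_compl (RichLib.UnrLocus.isLocallyConstructible_locus f₀))

/-- the bad set for being a monomorphism -/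
def badMono : Set S := badUI f₀ g₀ ∪ badFU f₀ g₀

variable {f₀ g₀}

theorem mono_iff (hY : IsPullback pY gi g₀ t) (hX : IsPullback pX fi f₀ pY)
    [LocallyOfFiniteType f₀] : Mono fi ↔ t.base ⁻¹' badMono f₀ g₀ = ∅ := by
  haveI : LocallyOfFiniteType fi := MorphismProperty.of_isPullback hX inferInstance
  rw [mono_iff_formallyUnramified_universallyInjective, formallyUnramified_iff hY hX,
    universallyInjective_iff hY hX, badMono, Set.preimage_union, Set.union_empty_iff, and_comm]

variable (f₀ g₀)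

theorem isLocallyConstructible_badMono [LocallyOfFinitePresentation g₀] [QuasiCompact g₀]
    [QuasiSeparated g₀] [LocallyOfFinitePresentation (f₀ ≫ g₀)] [QuasiCompact (f₀ ≫ g₀)]
    [QuasiSeparated (f₀ ≫ g₀)] : IsLocallyConstructible (badMono f₀ g₀) :=
  (isLocallyConstructible_badUI f₀ g₀).union (isLocallyConstructible_badFU f₀ g₀)

end RichLib.FibreRange
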