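import Mathlib
import Groth.Agent.FlatLib.GenericFree
import Groth.Agent.SweepSix.Constr

/-!
# Loci on the base where a constructible set is fibrewise dense, or an element vanishes on the fibre
-/

set_option autoImplicit false
universe u

open TensorProduct Topology

namespace RichLib.FibreLoci

theorem isConstructible_of_forall_nhd {X : Type u} [TopologicalSpace X] [CompactSpace X] [QuasiSober X]
    [PrespectralSpace X] [QuasiSeparatedSpace X] (E : Set X)
    (h : ∀ x, ∃ C : Set X, IsConstructible C ∧ x ∈ C ∧ (C ⊆ E ∨ Disjoint C E)) : IsConstructible E := by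
  classical
  choose C hC hxC hCE using h
  obtain ⟨t, ht⟩ := WeightLib.exists_finset_cover C hC fun x => ⟨x, hxC x⟩
  have : E = ⋃ i ∈ t.filter (fun i => C i ⊆ E), C i := by
    refine Set.Subset.antisymm (fun y hy => ?_) (Set.iUnion₂_subset fun i hi => (Finset.mem_filter.mp hi).2)
    obtain ⟨i, hi, hyi⟩ := ht y
    refine Set.mem_iUnion₂.mpr ⟨i, Finset.mem_filter.mpr ⟨hi, ?_⟩, hyi⟩
    exact (hCE i).resolve_right fun hd => Set.disjoint_left.mp hd hyi hy
  rw [this]
  exact IsConstructible.biUnion (Finset.finite_toSet _) fun i _ => hC i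

theorem isConstructible_of_stratum {A : Type u} [CommRing A] [IsNoetherianRing A]
    (E : Set (PrimeSpectrum A))
    (h : ∀ p : PrimeSpectrum A, ∃ g ∉ p.asIdeal, ∀ q : PrimeSpectrum A,
      p.asIdeal ≤ q.asIdeal → g ∉ q.asIdeal → (q ∈ E ↔ p ∈ E)) : IsConstructible E := by
  refine isConstructible_of_forall_nhd E fun p => ?_
  obtain ⟨g, hg, hpq⟩ := h p
  refine ⟨PrimeSpectrum.zeroLocus p.asIdeal ∩ PrimeSpectrum.basicOpen g,
    SweepSix.isConstructible_of_isLocallyClosed
      ((PrimeSpectrum.isClosed_zeroLocus _).isLocallyClosed.inter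
        PrimeSpectrum.isOpen_basicOpen.isLocallyClosed), ⟨fun _ h => h, hg⟩, ?_⟩
  by_cases hp : p ∈ E
  · exact Or.inl fun q hq => (hpq q hq.1 hq.2).mpr hp
  · exact Or.inr (Set.disjoint_left.mpr fun q hq hqE => hp ((hpq q hq.1 hq.2).mp hqE))

/-- a constructible set contains a neighbourhood of the generic point in its closure -/
theorem exists_basicOpen_subset_of_bot_mem {A : Type u} [CommRing A] [IsDomain A] [IsNoetherianRing A]
    {E : Set (PrimeSpectrum A)} (hE : IsConstructible E) (h : (⊥ : PrimeSpectrum A) ∈ E) :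
    ∃ g : A, g ≠ 0 ∧ ∀ q : PrimeSpectrum A, g ∉ q.asIdeal → q ∈ E := by
  obtain ⟨S, -, hS, rfl⟩ := SweepSix.exists_isLocallyClosed_pieces hE
  obtain ⟨Z, hZ, hbot⟩ := h
  obtain ⟨U, C, hU, hC, rfl⟩ := hS Z hZ
  obtain ⟨_, ⟨_, ⟨g, rfl⟩, rfl⟩, hg, hgU⟩ :=
    PrimeSpectrum.isBasis_basic_opens.exists_subset_of_mem_open hbot.1 hU
  refine ⟨g, fun h0 => hg (h0 ▸ zero_mem _), fun q hq => ⟨_, hZ, hgU hq, ?_⟩⟩
  exact ((PrimeSpectrum.le_iff_specializes ⊥ q).mp bot_le).mem_closed hC hbot.2

theorem mem_of_minimalPrime_of_dense {R : Type u} [CommRing R] [IsNoetherianRing R]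
    {E : Set (PrimeSpectrum R)} (hE : IsConstructible E) (hd : Dense E) :
    ∃ h : R, (∀ P ∈ minimalPrimes R, h ∉ P) ∧ ↑(PrimeSpectrum.basicOpen h) ⊆ E := by
  classical
  have hfin : (minimalPrimes R).Finite := minimalPrimes.finite_of_isNoetherianRing R
  have key : ∀ P ∈ minimalPrimes R, ∃ U : Set (PrimeSpectrum R), IsOpen U ∧ U ⊆ E ∧
      ∀ hP : P.IsPrime, (⟨P, hP⟩ : PrimeSpectrum R) ∈ U := by
    intro P hP
    haveI hPp : P.IsPrime := hP.1.1
    let P' : PrimeSpectrum R := ⟨P, hPp⟩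
    let N : Set (PrimeSpectrum R) :=
      (⋃ Q ∈ minimalPrimes R \ {P}, PrimeSpectrum.zeroLocus (Q : Set R))ᶜ
    have hNo : IsOpen N := ((hfin.subset Set.sdiff_subset).isClosed_biUnion
      fun Q _ => PrimeSpectrum.isClosed_zeroLocus _).isOpen_compl
    have hN : ∀ q ∈ N, P' ≤ q := by
      intro q hq
      obtain ⟨Q, hQ, hQq⟩ := Ideal.exists_minimalPrimes_le (bot_le : ⊥ ≤ q.asIdeal)
      by_contra hle
      refine hq (Set.mem_iUnion₂.mpr ⟨Q, ⟨hQ, fun h => hle ?_⟩, hQq⟩)
      rw [Set.mem_singleton_iff] at h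
      exact (h ▸ hQq : P ≤ q.asIdeal)
    have hPN : P' ∈ N := by
      intro h
      obtain ⟨Q, hQ, hQP⟩ := Set.mem_iUnion₂.mp h
      exact hQ.2 (Set.mem_singleton_iff.mpr (le_antisymm hQP (hP.2 hQ.1.1 hQP)))
    obtain ⟨S, hSf, hS, rfl⟩ := SweepSix.exists_isLocallyClosed_pieces hE
    obtain ⟨Z, hZ, hPZ⟩ : ∃ Z ∈ S, P' ∈ closure Z := by
      have h := hd P'
      rw [Set.sUnion_eq_biUnion, hSf.closure_biUnion] at h
      obtain ⟨Z, hZ, h⟩ := Set.mem_iUnion₂.mp h
      exact ⟨Z, hZ, h⟩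
    obtain ⟨U, C, hU, hC, rfl⟩ := hS Z hZ
    obtain ⟨y, hyN, hyU, hyC⟩ := mem_closure_iff.mp hPZ N hNo hPN
    have hPU : P' ∈ U := ((PrimeSpectrum.le_iff_specializes P' y).mp (hN y hyN)).mem_open hU hyU
    have hPC : P' ∈ C := (closure_minimal Set.inter_subset_right hC) hPZ
    refine ⟨U ∩ N, hU.inter hNo, fun q hq => ⟨_, hZ, hq.1, ?_⟩, fun _ => ⟨hPU, hPN⟩⟩
    exact ((PrimeSpectrum.le_iff_specializes P' q).mp (hN q hq.2)).mem_closed hC hPC
  choose U hUo hUE hPU using key
  let W : Set (PrimeSpectrum R) := ⋃ (P) (hP : P ∈ minimalPrimes R), U P hP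
  obtain ⟨I, hI⟩ := (PrimeSpectrum.isClosed_iff_zeroLocus_ideal Wᶜ).mp
    (isOpen_iUnion fun P => isOpen_iUnion fun hP => hUo P hP).isClosed_compl
  have hnot : ¬ ((I : Set R) ⊆ ⋃ P ∈ (hfin.toFinset : Set (Ideal R)), (P : Set R)) := by
    rw [Ideal.subset_union_prime ⊥ ⊥ fun P hP _ _ => (hfin.mem_toFinset.mp hP).1.1]
    rintro ⟨P, hP, hIP⟩
    have hP' := hfin.mem_toFinset.mp hP
    haveI : P.IsPrime := hP'.1.1
    have hmem : (⟨P, inferInstance⟩ : PrimeSpectrum R) ∈ Wᶜ := hI ▸ hIP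
    exact hmem (Set.mem_iUnion₂.mpr ⟨P, hP', hPU P hP' _⟩)
  obtain ⟨h, hhI, hh⟩ := Set.not_subset.mp hnot
  refine ⟨h, fun P hP hhP => hh (Set.mem_iUnion₂.mpr ⟨P, hfin.mem_toFinset.mpr hP, hhP⟩), fun q hq => ?_⟩
  by_contra hqE
  have : q ∈ Wᶜ := fun hqW => by
    obtain ⟨P, hP, hqU⟩ := Set.mem_iUnion₂.mp hqW
    exact hqE (hUE P hP hqU)
  rw [hI] at this
  exact hq (this hhI)

theorem dense_basicOpen {R : Type u} [CommRing R] (h : R) (hh : ∀ P ∈ minimalPrimes R, h ∉ P) :
    Dense (PrimeSpectrum.basicOpen h : Set (PrimeSpectrum R)) := by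
  rw [dense_iff_inter_open]
  rintro U hU ⟨q, hq⟩
  obtain ⟨P, hP, hPq⟩ := Ideal.exists_minimalPrimes_le (bot_le : ⊥ ≤ q.asIdeal)
  exact ⟨⟨P, hP.1.1⟩, ((PrimeSpectrum.le_iff_specializes ⟨P, hP.1.1⟩ q).mp hPq).mem_open hU hq, hh P hP⟩

/-- the fibre over `p` of a subset of the spectrum of an algebra -/
def fset (A B : Type u) [CommRing A] [CommRing B] [Algebra A B] (E : Set (PrimeSpectrum B))
    (p : PrimeSpectrum A) : Set (PrimeSpectrum (p.asIdeal.Fiber B)) :=
  PrimeSpectrum.comap (Algebra.TensorProduct.includeRight : B →ₐ[A] p.asIdeal.Fiber B).toRingHom ⁻¹' E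

/-- the points over which a subset is dense in the fibre -/
def denseLocus (A B : Type u) [CommRing A] [CommRing B] [Algebra A B] (E : Set (PrimeSpectrum B)) :
    Set (PrimeSpectrum A) :=
  {p | Dense (fset A B E p)}

/-- the points over which an element vanishes in the fibre -/
def zeroIn (A B : Type u) [CommRing A] [CommRing B] [Algebra A B] (b : B) : Set (PrimeSpectrum A) :=
  {p | (1 ⊗ₜ[A] b : p.asIdeal.Fiber B) = 0}

theorem isOpenMap_comap_comp_equiv {R S T : Type u} [CommRing R] [CommRing S] [CommRing T] (f : R →+* S)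
    (e : S ≃+* T) (h : IsOpenMap (PrimeSpectrum.comap f)) :
    IsOpenMap (PrimeSpectrum.comap (e.toRingHom.comp f)) := by
  have : PrimeSpectrum.comap (e.toRingHom.comp f) =
      PrimeSpectrum.comap f ∘ (PrimeSpectrum.homeomorphOfRingEquiv e).symm := rfl
  rw [this]
  exact h.comp (PrimeSpectrum.homeomorphOfRingEquiv e).symm.isOpenMap

theorem isConstructible_preimage_comap {R S : Type u} [CommRing R] [CommRing S] (f : R →+* S)
    {E : Set (PrimeSpectrum R)} (hE : IsConstructible E) : IsConstructible (PrimeSpectrum.comap f ⁻¹' E) := by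
  obtain ⟨d, rfl⟩ := PrimeSpectrum.exists_constructibleSetData_iff.mpr hE
  rw [← PrimeSpectrum.ConstructibleSetData.toSet_map]
  exact PrimeSpectrum.ConstructibleSetData.isConstructible_toSet _

theorem comap_fieldExtension {K L D T : Type u} [Field K] [Field L] [Algebra K L] [CommRing D] [Algebra K D]
    [CommRing T] (e : D ⊗[K] L ≃+* T) :
    Function.Injective (e.toRingHom.comp (algebraMap D (D ⊗[K] L))) ∧
      Function.Surjective (PrimeSpectrum.comap (e.toRingHom.comp (algebraMap D (D ⊗[K] L)))) ∧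
      IsOpenMap (PrimeSpectrum.comap (e.toRingHom.comp (algebraMap D (D ⊗[K] L)))) := by
  refine ⟨e.injective.comp (Algebra.TensorProduct.includeLeft_injective (S := K) (algebraMap K L).injective),
    fun x => ?_, isOpenMap_comap_comp_equiv _ e PrimeSpectrum.isOpenMap_comap_algebraMap_tensorProduct_of_field⟩
  haveI : Module.FaithfullyFlat D (D ⊗[K] L) := inferInstance
  obtain ⟨y, rfl⟩ := PrimeSpectrum.comap_surjective_of_faithfullyFlat (B := D ⊗[K] L) x
  refine ⟨PrimeSpectrum.comap e.symm.toRingHom y, ?_⟩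
  rw [← PrimeSpectrum.comap_comp_apply]
  congr 1
  ext z
  exact e.symm_apply_apply _

section BaseChange

variable {A A' B B' : Type u} [CommRing A] [CommRing A'] [CommRing B] [CommRing B'] [Algebra A A']
  [Algebra A B] [Algebra A' B'] [Algebra A B'] [Algebra B B'] [IsScalarTower A A' B']
  [IsScalarTower A B B'] [Algebra.IsPushout A A' B B']

theorem exists_fibre_map (q : PrimeSpectrum A') :
    ∃ Φ : (PrimeSpectrum.comap (algebraMap A A') q).asIdeal.Fiber B →+* q.asIdeal.Fiber B',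
      Function.Injective Φ ∧ Function.Surjective (PrimeSpectrum.comap Φ) ∧
      IsOpenMap (PrimeSpectrum.comap Φ) ∧
      ∀ b : B, Φ (1 ⊗ₜ b) = 1 ⊗ₜ algebraMap B B' b := by
  let p := PrimeSpectrum.comap (algebraMap A A') q
  let K := p.asIdeal.ResidueField
  let L := q.asIdeal.ResidueField
  haveI : q.asIdeal.LiesOver p.asIdeal := ⟨rfl⟩
  letI := Localization.AtPrime.algebraOfLiesOver p.asIdeal q.asIdeal
  haveI : Localization.AtPrime.IsLiesOverAlgebra p.asIdeal q.asIdeal := ⟨rfl⟩
  let D := p.asIdeal.Fiber B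
  let e₁ : D ⊗[K] L ≃+* L ⊗[A] B :=
    ((Algebra.TensorProduct.comm K D L).toRingEquiv.trans
      (Algebra.TensorProduct.cancelBaseChange A K L L B).toRingEquiv)
  let e₂ : L ⊗[A] B ≃+* L ⊗[A'] B' :=
    ((Algebra.TensorProduct.cancelBaseChange A A' L L B).symm.toRingEquiv.trans
      (Algebra.TensorProduct.congr (AlgEquiv.refl (R := A') (A₁ := L))
        (Algebra.IsPushout.equiv A A' B B')).toRingEquiv)
  let Φ : D →+* L ⊗[A'] B' := (e₁.trans e₂).toRingHom.comp (algebraMap D (D ⊗[K] L))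
  obtain ⟨h1, h2, h3⟩ := comap_fieldExtension (e₁.trans e₂)
  refine ⟨Φ, h1, h2, h3, fun b => ?_⟩
  show e₂ (e₁ ((1 ⊗ₜ[A] b : D) ⊗ₜ[K] (1 : L))) = _
  have he₁ : e₁ ((1 ⊗ₜ[A] b : D) ⊗ₜ[K] (1 : L)) = 1 ⊗ₜ b := by simp [e₁, D]
  rw [he₁]
  simp [e₂, Algebra.IsPushout.equiv_tmul]

theorem denseLocus_baseChange (E : Set (PrimeSpectrum B)) :
    denseLocus A' B' (PrimeSpectrum.comap (algebraMap B B') ⁻¹' E) =
      PrimeSpectrum.comap (algebraMap A A') ⁻¹' denseLocus A B E := by
  ext q
  obtain ⟨Φ, -, hs, ho, hΦ⟩ := exists_fibre_map (A := A) (B := B) (B' := B') q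
  have : fset A' B' (PrimeSpectrum.comap (algebraMap B B') ⁻¹' E) q =
      PrimeSpectrum.comap Φ ⁻¹' fset A B E (PrimeSpectrum.comap (algebraMap A A') q) := by
    ext x
    show _ ∈ E ↔ _ ∈ E
    rw [← PrimeSpectrum.comap_comp_apply, ← PrimeSpectrum.comap_comp_apply]
    have : ((Algebra.TensorProduct.includeRight : B' →ₐ[A'] q.asIdeal.Fiber B').toRingHom.comp
        (algebraMap B B')) = Φ.comp (Algebra.TensorProduct.includeRight : B →ₐ[A] _).toRingHom :=
      RingHom.ext fun b => (hΦ b).symm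
    rw [this]
  show Dense _ ↔ Dense _
  rw [this]
  refine ⟨fun h => ?_, fun h => h.preimage ho⟩
  have h2 := hs.denseRange.dense_image (PrimeSpectrum.continuous_comap Φ) h
  rwa [Set.image_preimage_eq _ hs] at h2

theorem zeroIn_baseChange (b : B) :
    zeroIn A' B' (algebraMap B B' b) = PrimeSpectrum.comap (algebraMap A A') ⁻¹' zeroIn A B b := by
  ext q
  obtain ⟨Φ, hi, -, -, hΦ⟩ := exists_fibre_map (A := A) (B := B) (B' := B') q
  show (1 ⊗ₜ[A'] algebraMap B B' b : q.asIdeal.Fiber B') = 0 ↔ _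
  rw [← hΦ, map_eq_zero_iff Φ hi]
  rfl

end BaseChange

section Domain

variable (A : Type u) [CommRing A] [IsDomain A]

theorem exists_torsion_of_tmul_eq_zero {N : Type u} [AddCommGroup N] [Module A N] {x : N}
    (h : (1 : (⊥ : Ideal A).ResidueField) ⊗ₜ[A] x = 0) : ∃ a : A, a ≠ 0 ∧ a • x = 0 := by
  haveI : IsLocalizedModule (nonZeroDivisors A)
      (TensorProduct.mk A (⊥ : Ideal A).ResidueField N 1) :=
    (isLocalizedModule_iff_isBaseChange (nonZeroDivisors A) (⊥ : Ideal A).ResidueField _).mpr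
      (TensorProduct.isBaseChange A N _)
  obtain ⟨s, hs⟩ := (IsLocalizedModule.eq_zero_iff (nonZeroDivisors A)
    (TensorProduct.mk A (⊥ : Ideal A).ResidueField N 1)).mp h
  exact ⟨s, nonZeroDivisors.coe_ne_zero s, hs⟩

theorem eq_zero_of_free_away {g : A} (hg : g ≠ 0) {N : Type u} [AddCommGroup N] [Module A N]
    (hfree : Module.Free (Localization.Away g) (Localization.Away g ⊗[A] N))
    {a : A} (ha : a ≠ 0) {y : Localization.Away g ⊗[A] N} (h : a • y = 0) : y = 0 := by
  haveI : IsDomain (Localization.Away g) := IsLocalization.isDomain_localization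
    (powers_le_nonZeroDivisors_of_noZeroDivisors hg)
  rw [← algebraMap_smul (Localization.Away g)] at h
  let bas := Module.Free.chooseBasis (Localization.Away g) (Localization.Away g ⊗[A] N)
  refine bas.repr.injective (Finsupp.ext fun i => ?_)
  rw [map_zero, Finsupp.zero_apply]
  have h1 := congrArg (fun z => bas.repr z i) h
  rw [map_zero, map_smul, Finsupp.smul_apply, smul_eq_mul, Finsupp.zero_apply] at h1
  refine (mul_eq_zero.mp h1).resolve_left fun h0 => ha ?_
  exact (IsLocalization.injective (Localization.Away g)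
    (powers_le_nonZeroDivisors_of_noZeroDivisors hg)) (h0.trans (map_zero _).symm)

/-- the evaluation at a prime not containing `g` -/
noncomputable def evalAway (p : PrimeSpectrum A) {g : A} (hg : g ∉ p.asIdeal) :
    Localization.Away g →ₐ[A] p.asIdeal.ResidueField :=
  IsLocalization.liftAlgHom (M := Submonoid.powers g) (f := Algebra.ofId A p.asIdeal.ResidueField)
    fun ⟨_, n, rfl⟩ => by
      rw [map_pow]
      exact (Ne.isUnit fun h => hg (Ideal.algebraMap_residueField_eq_zero.mp h)).pow n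

theorem lTensor_residue_injective_of_away {g : A} {N N' : Type u} [AddCommGroup N] [Module A N]
    [AddCommGroup N'] [Module A N'] (f : N →ₗ[A] N')
    (hinj : Function.Injective (f.lTensor (Localization.Away g)))
    (hflat : Module.Flat (Localization.Away g) (Localization.Away g ⊗[A] (N' ⧸ LinearMap.range f)))
    (p : PrimeSpectrum A) (hg : g ∉ p.asIdeal) :
    Function.Injective (f.lTensor p.asIdeal.ResidueField) := by
  let R := Localization.Away g
  let K := p.asIdeal.ResidueField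
  haveI : Module.Flat A R := IsLocalization.flat R (Submonoid.powers g)
  haveI : Module.Flat A (R ⊗[A] (N' ⧸ LinearMap.range f)) := Module.Flat.trans A R _
  have h2 := LinearMap.lTensor_injective_of_exact_of_flat
    ((LinearMap.range f).mkQ.lTensor R) (LinearMap.lTensor_surjective _ (Submodule.mkQ_surjective _))
    (f.lTensor R) hinj (Module.Flat.lTensor_exact R (LinearMap.exact_map_mkQ_range f)) K
  let mulK : K ⊗[A] R →ₗ[A] K :=
    LinearMap.mul' A K ∘ₗ (evalAway A p hg).toLinearMap.lTensor K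
  let r : ∀ (P : Type u) [AddCommGroup P] [Module A P], K ⊗[A] (R ⊗[A] P) →ₗ[A] K ⊗[A] P := fun P _ _ =>
    (mulK.rTensor P) ∘ₗ (TensorProduct.assoc A K R P).symm.toLinearMap
  intro x y hxy
  rw [← sub_eq_zero] at hxy ⊢
  rw [← map_sub] at hxy
  generalize x - y = z at hxy ⊢
  let j : ∀ (P : Type u) [AddCommGroup P] [Module A P], K ⊗[A] P →ₗ[A] K ⊗[A] (R ⊗[A] P) := fun P _ _ =>
    (TensorProduct.mk A R P 1).lTensor K
  have hcomm : (f.lTensor R).lTensor K ∘ₗ j N = j N' ∘ₗ f.lTensor K := by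
    ext k n; simp [j]
  have hrj : r N ∘ₗ j N = LinearMap.id := by
    ext k n; simp [r, j, mulK]
  have hz : j N z = 0 := h2 (by
    rw [map_zero, ← LinearMap.comp_apply, hcomm, LinearMap.comp_apply, hxy, map_zero])
  simpa [hz] using (LinearMap.congr_fun hrj z).symm

variable (B : Type u) [CommRing B] [Algebra A B] [Algebra.FiniteType A B]

theorem zeroIn_generic (b : B) :
    ∃ g : A, g ≠ 0 ∧ ∀ p : PrimeSpectrum A, g ∉ p.asIdeal →
      (p ∈ zeroIn A B b ↔ (⊥ : PrimeSpectrum A) ∈ zeroIn A B b) := by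
  by_cases h : (⊥ : PrimeSpectrum A) ∈ zeroIn A B b
  · obtain ⟨a, ha, hab⟩ := exists_torsion_of_tmul_eq_zero A (N := B) h
    refine ⟨a, ha, fun p hp => iff_of_true ?_ h⟩
    have h1 : algebraMap A p.asIdeal.ResidueField a • (1 ⊗ₜ[A] b : p.asIdeal.Fiber B) = 0 := by
      rw [algebraMap_smul, ← TensorProduct.tmul_smul, hab, TensorProduct.tmul_zero]
    exact (smul_eq_zero.mp h1).resolve_left fun h0 => hp (Ideal.algebraMap_residueField_eq_zero.mp h0)
  · obtain ⟨g, hg, hfree⟩ := FlatLib.gfree_of_finite (R := A) B B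
    let R := Localization.Away g
    let bas := Module.Free.chooseBasis R (R ⊗[A] B)
    have hv : (1 ⊗ₜ[A] b : R ⊗[A] B) ≠ 0 := by
      intro h0
      obtain ⟨s, hs⟩ := (IsLocalizedModule.eq_zero_iff (Submonoid.powers g)
        (TensorProduct.mk A R B 1)).mp h0
      refine h ?_
      show (1 ⊗ₜ[A] b : (⊥ : Ideal A).Fiber B) = 0
      obtain ⟨n, hn⟩ := s.2
      have h1 : algebraMap A (⊥ : Ideal A).ResidueField s.1 • (1 ⊗ₜ[A] b : (⊥ : Ideal A).Fiber B) = 0 := by
        rw [algebraMap_smul, ← TensorProduct.tmul_smul]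
        erw [hs]
        rw [TensorProduct.tmul_zero]
      refine (smul_eq_zero.mp h1).resolve_left fun h2 => ?_
      rw [Ideal.algebraMap_residueField_eq_zero, Submodule.mem_bot, ← hn] at h2
      exact pow_ne_zero n hg h2
    obtain ⟨i, hi⟩ : ∃ i, bas.repr (1 ⊗ₜ[A] b) i ≠ 0 := by
      by_contra hall
      push Not at hall
      exact hv (bas.repr.injective (by ext i; simp [hall i]))
    obtain ⟨⟨a, s⟩, hs⟩ := IsLocalization.surj (Submonoid.powers g) (bas.repr (1 ⊗ₜ[A] b) i)
    have ha : a ≠ 0 := by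
      rintro rfl
      rw [map_zero] at hs
      exact hi ((IsUnit.mul_left_eq_zero (IsLocalization.map_units R s)).mp hs)
    refine ⟨g * a, mul_ne_zero hg ha, fun p hp => iff_of_false (fun hz => hp ?_) h⟩
    have hgp : g ∉ p.asIdeal := fun h' => hp (p.asIdeal.mul_mem_right a h')
    let ψ : B →ₗ[A] p.asIdeal.ResidueField := (evalAway A p hgp).toLinearMap ∘ₗ
      ((bas.coord i).restrictScalars A) ∘ₗ TensorProduct.mk A R B 1
    let Ψ := ψ.liftBaseChange p.asIdeal.ResidueField
    have h1 : Ψ (1 ⊗ₜ[A] b) = 0 := by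
      rw [show (1 ⊗ₜ[A] b : p.asIdeal.Fiber B) = 0 from hz, map_zero]
    refine p.asIdeal.mul_mem_left g ?_
    rw [← Ideal.algebraMap_residueField_eq_zero, ← AlgHom.commutes (evalAway A p hgp), ← hs, map_mul]
    have h3 : evalAway A p hgp (bas.repr (1 ⊗ₜ[A] b) i) = 0 := by
      simpa [Ψ, ψ] using h1
    rw [h3, zero_mul]

variable [IsNoetherianRing A]

theorem denseLocus_generic {E : Set (PrimeSpectrum B)} (hE : IsConstructible E) :
    ∃ g : A, g ≠ 0 ∧ ∀ p : PrimeSpectrum A, g ∉ p.asIdeal →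
      (p ∈ denseLocus A B E ↔ (⊥ : PrimeSpectrum A) ∈ denseLocus A B E) := by
  haveI : Algebra.FinitePresentation A B := Algebra.FinitePresentation.of_finiteType.mp ‹_›
  haveI : IsNoetherianRing B := Algebra.FiniteType.isNoetherianRing A B
  let K := (⊥ : Ideal A).ResidueField
  let D := (⊥ : Ideal A).Fiber B
  have hfp : (algebraMap A B).FinitePresentation := RingHom.finitePresentation_algebraMap.mpr ‹_›
  have hcomap : ∀ {p : PrimeSpectrum A} (z : PrimeSpectrum (p.asIdeal.Fiber B)),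
      PrimeSpectrum.comap (algebraMap A B) (PrimeSpectrum.comap
        (Algebra.TensorProduct.includeRight : B →ₐ[A] p.asIdeal.Fiber B).toRingHom z) = p :=
    fun {p} z => ((PrimeSpectrum.preimageHomeomorphFiber A B p).symm z).2
  have hlift : ∀ (p : PrimeSpectrum A) (y : PrimeSpectrum B),
      PrimeSpectrum.comap (algebraMap A B) y = p → ∃ z, PrimeSpectrum.comap
        (Algebra.TensorProduct.includeRight : B →ₐ[A] p.asIdeal.Fiber B).toRingHom z = y :=
    fun p y hy => ⟨PrimeSpectrum.preimageHomeomorphFiber A B p ⟨y, hy⟩, congrArg Subtype.val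
      ((PrimeSpectrum.preimageHomeomorphFiber A B p).symm_apply_apply ⟨y, hy⟩)⟩
  have hbasic : ∀ x : D, ∃ h : B, (PrimeSpectrum.basicOpen x : Set (PrimeSpectrum D)) =
      PrimeSpectrum.basicOpen (1 ⊗ₜ[A] h : D) := by
    intro x
    obtain ⟨r, hr, s, hs⟩ := Ideal.Fiber.exists_smul_eq_one_tmul (⊥ : Ideal A) x
    refine ⟨s, ?_⟩
    have hu : IsUnit (algebraMap A D r) := by
      rw [IsScalarTower.algebraMap_apply A K D]
      exact (Ne.isUnit fun h0 => hr (Ideal.algebraMap_residueField_eq_zero.mp h0)).map _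
    rw [← hs, Algebra.smul_def, PrimeSpectrum.basicOpen_mul,
      (TopologicalSpace.Opens.ext (Set.eq_univ_of_forall fun q h => q.isPrime.ne_top (Ideal.eq_top_of_isUnit_mem _ h hu)) : PrimeSpectrum.basicOpen (algebraMap A D r) = ⊤), top_inf_eq]
  by_cases h : (⊥ : PrimeSpectrum A) ∈ denseLocus A B E
  · haveI : IsNoetherianRing D := Algebra.FiniteType.isNoetherianRing K D
    obtain ⟨x, hx, hxE⟩ := mem_of_minimalPrime_of_dense
      (isConstructible_preimage_comap (Algebra.TensorProduct.includeRight : B →ₐ[A] D).toRingHom hE) h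
    obtain ⟨b, hb⟩ := hbasic x
    have hbmin : ∀ P ∈ minimalPrimes D, (1 ⊗ₜ[A] b : D) ∉ P := by
      intro P hP hbP
      haveI := hP.1.1
      have : (⟨P, hP.1.1⟩ : PrimeSpectrum D) ∈ (PrimeSpectrum.basicOpen x : Set (PrimeSpectrum D)) := hx P hP
      rw [hb] at this
      exact this hbP
    let T : Set (PrimeSpectrum A) :=
      PrimeSpectrum.comap (algebraMap A B) '' ((PrimeSpectrum.basicOpen b : Set (PrimeSpectrum B)) \ E)
    have hT : IsConstructible T := PrimeSpectrum.isConstructible_comap_image hfp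
      (PrimeSpectrum.isConstructible_basicOpen.sdiff hE)
    obtain ⟨g₀, hg₀, hT'⟩ := exists_basicOpen_subset_of_bot_mem (A := A) hT.compl (by
      rintro ⟨y, ⟨hyb, hyE⟩, hy⟩
      obtain ⟨z, rfl⟩ := hlift ⊥ y hy
      exact hyE (hxE (by rw [hb]; exact hyb)))
    let N := B ⧸ nilradical B
    let μ : N →ₗ[A] N := LinearMap.mulLeft A (Ideal.Quotient.mk _ b)
    haveI : Algebra.FiniteType A N := .of_surjective (Ideal.Quotient.mkₐ A _) Ideal.Quotient.mk_surjective
    obtain ⟨g₁, hg₁, hfree₁⟩ := FlatLib.gfree_of_finite (R := A) N N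
    let Mq := N ⧸ Ideal.span {(Ideal.Quotient.mk (nilradical B) b)}
    obtain ⟨g₂, hg₂, hfree₂⟩ := FlatLib.gfree_of_finite (R := A) Mq Mq
    have htor : ∀ w : N, μ w = 0 → ∃ a : A, a ≠ 0 ∧ a • w = 0 := by
      intro w hw
      obtain ⟨w, rfl⟩ := Ideal.Quotient.mk_surjective w
      have hnil : IsNilpotent (b * w) := mem_nilradical.mp (Ideal.Quotient.eq_zero_iff_mem.mp
        (by rw [map_mul]; exact hw))
      have hw' : IsNilpotent (1 ⊗ₜ[A] w : D) := by
        rw [← mem_nilradical, nilradical_eq_sInf, Ideal.mem_sInf]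
        intro P (hP : P.IsPrime)
        obtain ⟨P', hP', hP'P⟩ := Ideal.exists_minimalPrimes_le (bot_le : ⊥ ≤ P)
        haveI := hP'.1.1
        have h2 := hnil.map (Algebra.TensorProduct.includeRight : B →ₐ[A] D)
        rw [map_mul] at h2
        exact hP'P ((hP'.1.1.mem_or_mem (nilpotent_iff_mem_prime.mp h2 P' hP'.1.1)).resolve_left
          (hbmin P' hP'))
      obtain ⟨n, hn⟩ := hw'
      rw [Algebra.TensorProduct.tmul_pow, one_pow] at hn
      obtain ⟨a, ha, han⟩ := exists_torsion_of_tmul_eq_zero A (N := B) hn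
      refine ⟨a, ha, ?_⟩
      rw [← Ideal.Quotient.mkₐ_eq_mk A, ← map_smul, Ideal.Quotient.mkₐ_eq_mk, Ideal.Quotient.eq_zero_iff_mem,
        mem_nilradical]
      refine ⟨n + 1, ?_⟩
      rw [Algebra.smul_def, mul_pow, pow_succ w, pow_succ (algebraMap A B a)]
      have : algebraMap A B a * w ^ n = 0 := by rw [← Algebra.smul_def]; exact han
      linear_combination (algebraMap A B a ^ n * w) * this
    refine ⟨g₀ * (g₁ * g₂), mul_ne_zero hg₀ (mul_ne_zero hg₁ hg₂), fun p hp => iff_of_true ?_ h⟩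
    have hp0 : g₀ ∉ p.asIdeal := fun h' => hp (p.asIdeal.mul_mem_right _ h')
    have hp1 : g₁ ∉ p.asIdeal := fun h' => hp (p.asIdeal.mul_mem_left _ (p.asIdeal.mul_mem_right _ h'))
    have hp2 : g₂ ∉ p.asIdeal := fun h' => hp (p.asIdeal.mul_mem_left _ (p.asIdeal.mul_mem_left _ h'))
    let g := g₁ * g₂
    have hgp : g ∉ p.asIdeal := fun h' => (p.isPrime.mem_or_mem h').elim hp1 hp2
    let R := Localization.Away g
    have hfree : ∀ {g' : A} (_ : g' ∣ g) (P : Type u) [AddCommGroup P] [Module A P],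
        Module.Free (Localization.Away g') (Localization.Away g' ⊗[A] P) → Module.Free R (R ⊗[A] P) := by
      intro g' hd P _ _ hf
      let φ : Localization.Away g' →ₐ[A] R := IsLocalization.liftAlgHom (M := Submonoid.powers g')
        (f := Algebra.ofId A R) fun ⟨_, n, rfl⟩ => by
          rw [map_pow]
          exact ((isUnit_of_dvd_unit (map_dvd (Algebra.ofId A R) hd)
            (IsLocalization.Away.algebraMap_isUnit g))).pow n
      letI := φ.toRingHom.toAlgebra
      haveI : IsScalarTower A (Localization.Away g') R := IsScalarTower.of_algHom φ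
      exact Module.Free.of_equiv (AlgebraTensorModule.cancelBaseChange A (Localization.Away g') R R P)
    have hinj : Function.Injective (μ.lTensor R) := by
      rw [injective_iff_map_eq_zero]
      intro y hy
      obtain ⟨⟨w, s⟩, hws⟩ := IsLocalizedModule.surj (Submonoid.powers g) (TensorProduct.mk A R N 1) y
      have h1 : (TensorProduct.mk A R N 1) (μ w) = 0 := by
        have : μ.lTensor R (s.1 • y) = 0 := by rw [map_smul, hy, smul_zero]
        rw [show s.1 • y = TensorProduct.mk A R N 1 w from hws] at this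
        simpa using this
      obtain ⟨s', hs'⟩ := (IsLocalizedModule.eq_zero_iff (Submonoid.powers g) _).mp h1
      obtain ⟨a, ha, haw⟩ := htor (s'.1 • w) (by rw [map_smul]; exact hs')
      have hpow : ∀ t : Submonoid.powers g, t.1 ≠ 0 := fun t => by
        obtain ⟨n, hn⟩ := t.2
        rw [← hn]
        exact pow_ne_zero n (mul_ne_zero hg₁ hg₂)
      refine eq_zero_of_free_away A (mul_ne_zero hg₁ hg₂) (hfree (dvd_mul_right g₁ g₂) N hfree₁)
        (a := a * s'.1 * s.1) (mul_ne_zero (mul_ne_zero ha (hpow s')) (hpow s)) ?_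
      rw [mul_smul, show s.1 • y = TensorProduct.mk A R N 1 w from hws, ← map_smul, mul_smul, haw, map_zero]
    have hflat : Module.Flat R (R ⊗[A] (N ⧸ LinearMap.range μ)) := by
      have hr : LinearMap.range μ = (Ideal.span {(Ideal.Quotient.mk (nilradical B) b)}).restrictScalars A := by
        ext w
        simp only [LinearMap.mem_range, Submodule.restrictScalars_mem, Ideal.mem_span_singleton']
        exact exists_congr fun v => by rw [mul_comm v]; rfl
      let e := (Submodule.quotEquivOfEq _ _ hr).trans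
        (Submodule.Quotient.restrictScalarsEquiv A (Ideal.span {(Ideal.Quotient.mk (nilradical B) b)}))
      haveI := hfree (dvd_mul_left g₂ g₁) Mq hfree₂
      haveI : Module.Flat R (R ⊗[A] Mq) := Module.Flat.of_free
      exact Module.Flat.of_linearEquiv (LinearEquiv.baseChange A R _ _ e)
    have hker := lTensor_residue_injective_of_away A μ hinj hflat p hgp
    have hmin : ∀ P ∈ minimalPrimes (p.asIdeal.Fiber B), (1 ⊗ₜ[A] b : p.asIdeal.Fiber B) ∉ P := by
      intro P hP hbP
      haveI := hP.1.1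
      let π : p.asIdeal.Fiber B →ₐ[A] p.asIdeal.Fiber N :=
        Algebra.TensorProduct.map (AlgHom.id A p.asIdeal.ResidueField) (Ideal.Quotient.mkₐ A (nilradical B))
      have hπs : Function.Surjective π := fun z => by
        induction z using TensorProduct.induction_on with
        | zero => exact ⟨0, map_zero π⟩
        | tmul k n => obtain ⟨n, rfl⟩ := Ideal.Quotient.mk_surjective n; exact ⟨k ⊗ₜ n, rfl⟩
        | add a c ha hc =>
          obtain ⟨a, rfl⟩ := ha; obtain ⟨c, rfl⟩ := hc; exact ⟨a + c, map_add π a c⟩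
      have hπk : RingHom.ker π.toRingHom ≤ nilradical _ := by
        intro z hz
        have := Algebra.TensorProduct.lTensor_ker (A := p.asIdeal.ResidueField) (Ideal.Quotient.mkₐ A (nilradical B))
          Ideal.Quotient.mk_surjective
        rw [show RingHom.ker π.toRingHom = _ from this] at hz
        refine (Ideal.map_le_iff_le_comap.mpr ?_) hz
        intro c hc
        rw [Ideal.mem_comap, mem_nilradical]
        rw [RingHom.mem_ker] at hc
        exact (mem_nilradical.mp (Ideal.Quotient.eq_zero_iff_mem.mp hc)).map _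
      have hle : RingHom.ker π.toRingHom ≤ P := hπk.trans (nilradical_le_prime P)
      let P' := P.map π.toRingHom
      have hcomap : P'.comap π.toRingHom = P := by
        show (P.map π.toRingHom).comap π.toRingHom = P
        rw [Ideal.comap_map_of_surjective' π.toRingHom hπs]
        exact sup_eq_left.mpr hle
      have hP' : P' ∈ minimalPrimes (p.asIdeal.Fiber N) := by
        refine ⟨⟨Ideal.map_isPrime_of_surjective hπs hle, bot_le⟩, fun Q hQ hQP => ?_⟩
        haveI := hQ.1
        refine Ideal.map_le_iff_le_comap.mpr ?_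
        exact hP.2 ⟨inferInstance, bot_le⟩ ((Ideal.comap_mono hQP).trans_eq hcomap)
      obtain ⟨v, hv, hv0⟩ := Set.disjoint_left.mp (Ideal.disjoint_nonZeroDivisors_of_mem_minimalPrimes hP')
        (Ideal.mem_map_of_mem _ hbP) |> fun h' => by
          rw [SetLike.mem_coe, mem_nonZeroDivisors_iff_right] at h'
          push Not at h'
          exact h'
      have hμ : ∀ w : p.asIdeal.Fiber N,
          μ.lTensor p.asIdeal.ResidueField w = π.toRingHom (1 ⊗ₜ[A] b) * w := by
        intro w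
        induction w using TensorProduct.induction_on with
        | zero => simp
        | tmul k n => simp [μ, π]; rfl
        | add a c ha hc => rw [map_add, ha, hc, mul_add]
      refine hv0 (hker ?_)
      rw [map_zero, hμ, mul_comm]
      exact hv
    refine (dense_basicOpen _ hmin).mono fun z hz => ?_
    by_contra hzE
    exact hT' p hp0 ⟨_, ⟨hz, hzE⟩, hcomap z⟩
  · obtain ⟨U, hUo, hUne, hUd⟩ : ∃ U, IsOpen U ∧ U.Nonempty ∧ U ∩ fset A B E ⊥ = ∅ := by
      by_contra hc
      push Not at hc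
      exact h (dense_iff_inter_open.mpr fun U hU hne => hc U hU hne)
    obtain ⟨z₀, hz₀⟩ := hUne
    obtain ⟨_, ⟨_, ⟨x, rfl⟩, rfl⟩, hz₀x, hxU⟩ :=
      PrimeSpectrum.isBasis_basic_opens.exists_subset_of_mem_open hz₀ hUo
    obtain ⟨b, hb⟩ := hbasic x
    obtain ⟨g₀, hg₀, hT'⟩ := exists_basicOpen_subset_of_bot_mem (A := A)
      ((PrimeSpectrum.isConstructible_comap_image hfp
        (PrimeSpectrum.isConstructible_basicOpen (f := b))).inter
      (PrimeSpectrum.isConstructible_comap_image hfp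
        ((PrimeSpectrum.isConstructible_basicOpen (f := b)).inter hE)).compl)
      ⟨⟨_, (show z₀ ∈ (PrimeSpectrum.basicOpen (1 ⊗ₜ[A] b : D) : Set (PrimeSpectrum D)) from hb ▸ hz₀x),
          hcomap z₀⟩, by
        rintro ⟨y, ⟨hyb, hyE⟩, hy⟩
        obtain ⟨z, rfl⟩ := hlift ⊥ y hy
        exact Set.eq_empty_iff_forall_notMem.mp hUd z ⟨hxU (by rw [hb]; exact hyb), hyE⟩⟩
    refine ⟨g₀, hg₀, fun p hp => iff_of_false (fun hd => ?_) h⟩
    obtain ⟨⟨y, hyb, hy⟩, hno⟩ := hT' p hp
    obtain ⟨z, rfl⟩ := hlift p y hy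
    obtain ⟨z', hz', hz'E⟩ := dense_iff_inter_open.mp hd
      (PrimeSpectrum.basicOpen (1 ⊗ₜ[A] b : p.asIdeal.Fiber B)) PrimeSpectrum.isOpen_basicOpen ⟨z, hyb⟩
    exact hno ⟨_, ⟨hz', hz'E⟩, hcomap z'⟩

end Domain

end RichLib.FibreLoci
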