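import Mathlib
import Groth.Agent.RichLib.FibreLoci

/-!
# Fibrewise density and vanishing loci are constructible over any base ring
-/

set_option autoImplicit false
universe u

open TensorProduct Topology PrimeSpectrum

namespace RichLib.FibreLoci

section Noetherian

attribute [local instance] Algebra.TensorProduct.rightAlgebra

variable (A B : Type u) [CommRing A] [CommRing B] [Algebra A B] [Algebra.FiniteType A B]
  [IsNoetherianRing A]

theorem isConstructible_denseLocus_noetherian {E : Set (PrimeSpectrum B)} (hE : IsConstructible E) :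
    IsConstructible (denseLocus A B E) := by
  refine isConstructible_of_stratum _ fun p => ?_
  let A' := A ⧸ p.asIdeal
  obtain ⟨g, hg, hgen⟩ := denseLocus_generic A' (A' ⊗[A] B)
    (isConstructible_preimage_comap (algebraMap B (A' ⊗[A] B)) hE)
  obtain ⟨g, rfl⟩ := Ideal.Quotient.mk_surjective g
  refine ⟨g, fun h => hg (Ideal.Quotient.eq_zero_iff_mem.mpr h), fun q hpq hq => ?_⟩
  have key : ∀ r : PrimeSpectrum A', PrimeSpectrum.comap (algebraMap A A') r ∈ denseLocus A B E ↔
      r ∈ denseLocus A' (A' ⊗[A] B) (PrimeSpectrum.comap (algebraMap B (A' ⊗[A] B)) ⁻¹' E) := fun r => by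
    rw [denseLocus_baseChange (A := A) (B := B) (B' := A' ⊗[A] B)]; rfl
  have hp0 : PrimeSpectrum.comap (algebraMap A A') ⊥ = p := PrimeSpectrum.ext (by
    rw [PrimeSpectrum.comap_asIdeal]; exact Ideal.mk_ker)
  obtain ⟨q', hq'⟩ : q ∈ Set.range (PrimeSpectrum.comap (algebraMap A A')) := by
    rw [Ideal.Quotient.algebraMap_eq, range_comap_of_surjective _ _ Ideal.Quotient.mk_surjective,
      Ideal.mk_ker]
    exact hpq
  subst hq'
  conv_rhs => rw [show p = PrimeSpectrum.comap (algebraMap A A') ⊥ from hp0.symm]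
  rw [key, key]
  exact hgen q' hq

theorem isConstructible_zeroIn_noetherian (b : B) : IsConstructible (zeroIn A B b) := by
  refine isConstructible_of_stratum _ fun p => ?_
  let A' := A ⧸ p.asIdeal
  obtain ⟨g, hg, hgen⟩ := zeroIn_generic A' (A' ⊗[A] B) (algebraMap B (A' ⊗[A] B) b)
  obtain ⟨g, rfl⟩ := Ideal.Quotient.mk_surjective g
  refine ⟨g, fun h => hg (Ideal.Quotient.eq_zero_iff_mem.mpr h), fun q hpq hq => ?_⟩
  have key : ∀ r : PrimeSpectrum A', PrimeSpectrum.comap (algebraMap A A') r ∈ zeroIn A B b ↔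
      r ∈ zeroIn A' (A' ⊗[A] B) (algebraMap B (A' ⊗[A] B) b) := fun r => by
    rw [zeroIn_baseChange (A := A) (B := B) (B' := A' ⊗[A] B)]; rfl
  have hp0 : PrimeSpectrum.comap (algebraMap A A') ⊥ = p := PrimeSpectrum.ext (by
    rw [PrimeSpectrum.comap_asIdeal]; exact Ideal.mk_ker)
  obtain ⟨q', hq'⟩ : q ∈ Set.range (PrimeSpectrum.comap (algebraMap A A')) := by
    rw [Ideal.Quotient.algebraMap_eq, range_comap_of_surjective _ _ Ideal.Quotient.mk_surjective,
      Ideal.mk_ker]
    exact hpq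
  subst hq'
  conv_rhs => rw [show p = PrimeSpectrum.comap (algebraMap A A') ⊥ from hp0.symm]
  rw [key, key]
  exact hgen q' hq

end Noetherian

variable {A B : Type u} [CommRing A] [CommRing B] [Algebra A B]

theorem exists_adjoin_tmul {A₀ A B₀ : Type u} [CommRing A₀] [CommRing A] [CommRing B₀] [Algebra A₀ A]
    [Algebra A₀ B₀] (x : A ⊗[A₀] B₀) :
    ∃ t : Finset A, ∀ A₁ : Subalgebra A₀ A, (↑t : Set A) ⊆ A₁ →
      x ∈ (Algebra.TensorProduct.map A₁.val (AlgHom.id A₀ B₀)).range := by
  classical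
  induction x using TensorProduct.induction_on with
  | zero => exact ⟨∅, fun A₁ _ => zero_mem _⟩
  | tmul a y => exact ⟨{a}, fun A₁ h => ⟨(⟨a, h (by simp)⟩ : A₁) ⊗ₜ y, by simp⟩⟩
  | add x y hx hy =>
    obtain ⟨t₁, h₁⟩ := hx
    obtain ⟨t₂, h₂⟩ := hy
    exact ⟨t₁ ∪ t₂, fun A₁ h => add_mem
      (h₁ A₁ fun z hz => h (Finset.mem_union_left _ hz))
      (h₂ A₁ fun z hz => h (Finset.mem_union_right _ hz))⟩

/-- descent of a finite set of elements to a Noetherian model -/
theorem exists_model [Algebra.FinitePresentation A B] (s : Finset B) :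
    ∃ (A₁ B₁ : Type u) (_ : CommRing A₁) (_ : CommRing B₁) (_ : IsNoetherianRing A₁)
      (_ : Algebra A₁ B₁) (_ : Algebra.FiniteType A₁ B₁) (_ : Algebra A₁ A) (_ : Algebra A₁ B)
      (_ : Algebra B₁ B) (_ : IsScalarTower A₁ A B) (_ : IsScalarTower A₁ B₁ B)
      (_ : Algebra.IsPushout A₁ A B₁ B), ∀ b ∈ s, ∃ b₁ : B₁, algebraMap B₁ B b₁ = b := by
  classical
  let P := Algebra.Presentation.ofFinitePresentation A B
  let A₀ := P.Core
  let B₀ := P.ModelOfHasCoeffs A₀
  haveI : Algebra.FiniteType A₀ B₀ := inferInstance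
  haveI : IsNoetherianRing A₀ := Algebra.FiniteType.isNoetherianRing ℤ A₀
  let e : A ⊗[A₀] B₀ ≃ₐ[A] B := P.tensorModelOfHasCoeffsEquiv A₀
  choose t ht using fun b : B => exists_adjoin_tmul (e.symm b)
  let A₁ := Algebra.adjoin A₀ (↑(s.biUnion t) : Set A)
  haveI : Algebra.FiniteType A₀ A₁ := A₁.fg_iff_finiteType.mp (Subalgebra.fg_adjoin_finset _)
  haveI : IsNoetherianRing A₁ := Algebra.FiniteType.isNoetherianRing A₀ A₁
  let j : A₁ ⊗[A₀] B₀ →ₐ[A₀] A ⊗[A₀] B₀ := Algebra.TensorProduct.map A₁.val (AlgHom.id A₀ B₀)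
  let ι : A₁ ⊗[A₀] B₀ →+* B := e.toRingEquiv.toRingHom.comp j.toRingHom
  letI : Algebra (A₁ ⊗[A₀] B₀) B := ι.toAlgebra
  haveI : IsScalarTower A₁ (A₁ ⊗[A₀] B₀) B := IsScalarTower.of_algebraMap_eq (R := A₁) (S := A₁ ⊗[A₀] B₀) (A := B) fun a => by
    show algebraMap A B (a : A) = e (j (a ⊗ₜ 1))
    simp only [j, Algebra.TensorProduct.map_tmul, map_one, Subalgebra.val_apply]
    exact (e.commutes (a : A)).symm
  haveI : Algebra.IsPushout A₁ A (A₁ ⊗[A₀] B₀) B :=
    ⟨IsBaseChange.of_equiv
      ((Algebra.TensorProduct.cancelBaseChange A₀ A₁ A A B₀).trans e).toLinearEquiv fun x => by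
        show e (Algebra.TensorProduct.cancelBaseChange A₀ A₁ A A B₀ (1 ⊗ₜ x)) = e (j x)
        congr 1
        induction x using TensorProduct.induction_on with
        | zero => simp
        | tmul a y => simp [j, Algebra.smul_def]
        | add x y hx hy => simp [TensorProduct.tmul_add, map_add, hx, hy]⟩
  refine ⟨A₁, A₁ ⊗[A₀] B₀, inferInstance, inferInstance, inferInstance, inferInstance, inferInstance,
    inferInstance, inferInstance, inferInstance, inferInstance, inferInstance, inferInstance, fun b hb => ?_⟩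
  obtain ⟨x, hx⟩ := ht b A₁ (fun z hz => Algebra.subset_adjoin (Finset.mem_biUnion.mpr ⟨b, hb, hz⟩))
  refine ⟨x, ?_⟩
  show e (j x) = b
  rw [show j x = e.symm b from hx, AlgEquiv.apply_symm_apply]

variable [Algebra.FinitePresentation A B]

theorem isConstructible_zeroIn (b : B) : IsConstructible (zeroIn A B b) := by
  obtain ⟨A₁, B₁, _, _, _, _, _, _, _, _, _, _, _, h⟩ := exists_model (A := A) ({b} : Finset B)
  obtain ⟨b₁, rfl⟩ := h b (Finset.mem_singleton_self b)
  rw [zeroIn_baseChange (A := A₁) (B := B₁) (B' := B)]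
  exact isConstructible_preimage_comap _ (isConstructible_zeroIn_noetherian A₁ B₁ b₁)

theorem isConstructible_denseLocus {E : Set (PrimeSpectrum B)} (hE : IsConstructible E) :
    IsConstructible (denseLocus A B E) := by
  classical
  obtain ⟨d, rfl⟩ := PrimeSpectrum.exists_constructibleSetData_iff.mpr hE
  obtain ⟨A₁, B₁, _, _, _, _, _, _, _, _, _, _, _, h⟩ := exists_model (A := A)
    (d.biUnion fun C => insert C.f (Finset.univ.image C.g))
  choose l hl using h
  let d₁ : PrimeSpectrum.ConstructibleSetData B₁ := d.attach.image fun C =>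
    ⟨l C.1.f (Finset.mem_biUnion.mpr ⟨C.1, C.2, Finset.mem_insert_self _ _⟩), C.1.n,
      fun k => l (C.1.g k) (Finset.mem_biUnion.mpr
        ⟨C.1, C.2, Finset.mem_insert_of_mem (Finset.mem_image_of_mem _ (Finset.mem_univ k))⟩)⟩
  have hd : d₁.map (algebraMap B₁ B) = d := by
    simp only [PrimeSpectrum.ConstructibleSetData.map, d₁, Finset.image_image]
    conv_rhs => rw [← Finset.attach_image_val (s := d)]
    refine Finset.image_congr fun C _ => ?_
    ext1
    · exact hl _ _
    · rfl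
    · exact heq_of_eq (funext fun k => hl _ _)
  rw [← hd, PrimeSpectrum.ConstructibleSetData.toSet_map, denseLocus_baseChange (A := A₁) (B := B₁) (B' := B)]
  exact isConstructible_preimage_comap _ (isConstructible_denseLocus_noetherian A₁ B₁
    d₁.isConstructible_toSet)

end RichLib.FibreLoci
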