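import Mathlib
import Groth.Agent.RichLib.FibreLociGeneral

/-!
# Fibrewise closures of constructible sets
-/

set_option autoImplicit false
universe u

open CategoryTheory CategoryTheory.Limits AlgebraicGeometry Topology

namespace RichLib.FibreLoci

/-- the points over which `Z` is dense in the fibre of `K` -/
def dLocus {X S : Type u} [TopologicalSpace X] (f : X → S) (Z K : Set X) : Set S :=
  {s | K ∩ f ⁻¹' {s} ⊆ closure (Z ∩ K ∩ f ⁻¹' {s})}

theorem isConstructible_dLocus_ring {A B : Type u} [CommRing A] [CommRing B] [Algebra A B]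
    [Algebra.FinitePresentation A B] {Z K : Set (PrimeSpectrum B)} (hZ : IsConstructible Z)
    (hK : IsClosed K) (hK' : IsCompact Kᶜ) :
    IsConstructible (dLocus (PrimeSpectrum.comap (algebraMap A B)) Z K) := by
  obtain ⟨J, hJ, hJK⟩ := PrimeSpectrum.isCompact_isOpen_iff_ideal.mp ⟨hK', hK.isOpen_compl⟩
  rw [compl_inj_iff] at hJK
  let B' := B ⧸ J
  haveI : Algebra.FinitePresentation A B' := Algebra.FinitePresentation.quotient hJ
  let π := PrimeSpectrum.comap (Ideal.Quotient.mk J)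
  have key : dLocus (PrimeSpectrum.comap (algebraMap A B)) Z K = denseLocus A B' (π ⁻¹' Z) := by
    ext p
    let χ := PrimeSpectrum.comap
      (Algebra.TensorProduct.includeRight : B' →ₐ[A] p.asIdeal.Fiber B').toRingHom
    let h := PrimeSpectrum.preimageHomeomorphFiber A B' p
    have hχ : χ = Subtype.val ∘ h.symm := rfl
    have hind : IsInducing (π ∘ χ) := by
      rw [hχ]
      exact (PrimeSpectrum.isClosedEmbedding_comap_of_surjective _ _
        Ideal.Quotient.mk_surjective).isInducing.comp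
        (IsInducing.subtypeVal.comp h.symm.isInducing)
    have hπ : Set.range π = K := by
      show Set.range (PrimeSpectrum.comap (Ideal.Quotient.mk J)) = K
      rw [range_comap_of_surjective _ _ Ideal.Quotient.mk_surjective, Ideal.mk_ker]
      exact hJK
    have hcomp : ∀ y, PrimeSpectrum.comap (algebraMap A B) (π y) = PrimeSpectrum.comap (algebraMap A B') y :=
      fun y => by rw [← PrimeSpectrum.comap_comp_apply]; rfl
    have hrange : Set.range (π ∘ χ) = K ∩ PrimeSpectrum.comap (algebraMap A B) ⁻¹' {p} := by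
      ext x
      constructor
      · rintro ⟨z, rfl⟩
        refine ⟨hπ ▸ ⟨χ z, rfl⟩, ?_⟩
        show PrimeSpectrum.comap (algebraMap A B) (π (χ z)) = p
        rw [hcomp]
        exact (h.symm z).2
      · rintro ⟨hxK, hxp⟩
        rw [← hπ] at hxK
        obtain ⟨y, rfl⟩ := hxK
        have hy : PrimeSpectrum.comap (algebraMap A B') y = p := (hcomp y).symm.trans hxp
        exact ⟨h ⟨y, hy⟩, by simp [hχ]⟩
    have himg : (π ∘ χ) '' fset A B' (π ⁻¹' Z) p =
        Z ∩ K ∩ PrimeSpectrum.comap (algebraMap A B) ⁻¹' {p} := by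
      rw [Set.inter_assoc, ← hrange]
      exact Set.image_preimage_eq_inter_range
    show _ ⊆ closure _ ↔ Dense _
    rw [← himg, ← hrange, hind.dense_iff, Set.range_subset_iff]
  rw [key]
  exact isConstructible_denseLocus (isConstructible_preimage_comap _ hZ)

theorem dLocus_preimage {V X U S : Type u} [TopologicalSpace V] [TopologicalSpace X] (i : V → X) (hi : IsOpenEmbedding i)
    (f : X → S) (g : V → U) (j : U → S) (hj : Function.Injective j) (hc : j ∘ g = f ∘ i)
    (Z K : Set X) (a : U) :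
    a ∈ dLocus g (i ⁻¹' Z) (i ⁻¹' K) ↔
      K ∩ f ⁻¹' {j a} ∩ Set.range i ⊆ closure (Z ∩ K ∩ f ⁻¹' {j a}) := by
  have hpre : g ⁻¹' {a} = i ⁻¹' (f ⁻¹' {j a}) := by
    ext v
    show g v = a ↔ f (i v) = j a
    rw [← Function.comp_apply (f := f), ← hc, Function.comp_apply, hj.eq_iff]
  show i ⁻¹' K ∩ g ⁻¹' {a} ⊆ closure (i ⁻¹' Z ∩ i ⁻¹' K ∩ g ⁻¹' {a}) ↔ _
  rw [hpre, ← Set.preimage_inter, ← Set.preimage_inter, ← Set.preimage_inter,
    ← hi.isOpenMap.preimage_closure_eq_closure_preimage hi.continuous]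
  constructor
  · rintro h _ ⟨hx, v, rfl⟩
    exact h hx
  · intro h v hv
    exact h ⟨hv, v, rfl⟩

variable {X S : Scheme.{u}} (f : X ⟶ S) [LocallyOfFinitePresentation f]
  [CompactSpace S] [QuasiSeparatedSpace S] [CompactSpace X] [QuasiSeparatedSpace X]

theorem isConstructible_dLocus {Z K : Set X} (hZ : IsConstructible Z) (hK : IsClosed K)
    (hK' : IsCompact Kᶜ) : IsConstructible (dLocus f.base Z K) := by
  classical
  have hcov : ∀ x : X, ∃ (U : S.affineOpens) (V : X.affineOpens), x ∈ V.1 ∧ V.1 ≤ f ⁻¹ᵁ U.1 := by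
    intro x
    obtain ⟨_, ⟨U, hU, rfl⟩, hxU, -⟩ := S.isBasis_affineOpens.exists_subset_of_mem_open
      (Set.mem_univ (f x)) isOpen_univ
    obtain ⟨_, ⟨V, hV, rfl⟩, hxV, hVU⟩ := X.isBasis_affineOpens.exists_subset_of_mem_open
      hxU (f ⁻¹ᵁ U).2
    exact ⟨⟨U, hU⟩, ⟨V, hV⟩, hxV, hVU⟩
  choose U V hxV hVU using hcov
  obtain ⟨t, ht⟩ := isCompact_univ.elim_finite_subcover (fun x => ((V x).1 : Set X))
    (fun x => (V x).1.2) fun x _ => Set.mem_iUnion.mpr ⟨x, hxV x⟩
  let D : X → Set S := fun x =>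
    {s | K ∩ f.base ⁻¹' {s} ∩ ((V x).1 : Set X) ⊆ closure (Z ∩ K ∩ f.base ⁻¹' {s})}
  have hD : dLocus f.base Z K = ⋂ x ∈ (t : Set X), D x := by
    ext s
    simp only [Set.mem_iInter, Finset.mem_coe]
    constructor
    · exact fun h x _ y hy => h hy.1
    · intro h y hy
      obtain ⟨x, hx, hyx⟩ := Set.mem_iUnion₂.mp (ht (Set.mem_univ y))
      exact h x hx ⟨hy, hyx⟩
  rw [hD]
  refine IsConstructible.biInter t.finite_toSet fun x _ => ?_
  let i := (V x).2.fromSpec
  let j := (U x).2.fromSpec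
  letI := (f.appLE (U x).1 (V x).1 (hVU x)).hom.toAlgebra
  haveI : Algebra.FinitePresentation Γ(S, (U x).1) Γ(X, (V x).1) :=
    HasRingHomProperty.appLE (P := @LocallyOfFinitePresentation) f ‹_› (U x) (V x) (hVU x)
  have hφ := (U x).2.SpecMap_appLE_fromSpec f (V x).2 (hVU x)
  have hc : j.base ∘ PrimeSpectrum.comap (algebraMap Γ(S, (U x).1) Γ(X, (V x).1)) = f.base ∘ i.base :=
    funext fun w => by
      show (Spec.map (f.appLE (U x).1 (V x).1 (hVU x)) ≫ j).base w = (i ≫ f).base w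
      rw [hφ]
  have hcons := isConstructible_dLocus_ring (A := Γ(S, (U x).1)) (B := Γ(X, (V x).1))
    (Z := i.base ⁻¹' Z) (K := i.base ⁻¹' K) (Scheme.Hom.isConstructible_preimage i hZ)
    (hK.preimage i.continuous) (by
      rw [← Set.preimage_compl]
      exact QuasiCompact.isCompact_preimage (f := i) _ hK.isOpen_compl hK')
  have hjr : IsRetrocompact (Set.range j.base) := by
    rw [(U x).2.range_fromSpec]
    intro W hW hWo
    exact QuasiSeparatedSpace.inter_isCompact _ _ (U x).1.2 (U x).2.isCompact hWo hW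
  have hD' : D x = (j.base '' dLocus (PrimeSpectrum.comap (algebraMap Γ(S, (U x).1) Γ(X, (V x).1)))
      (i.base ⁻¹' Z) (i.base ⁻¹' K)) ∪ ((U x).1 : Set S)ᶜ := by
    ext s
    by_cases hs : s ∈ ((U x).1 : Set S)
    · rw [← (U x).2.range_fromSpec] at hs ⊢
      obtain ⟨a, rfl⟩ := hs
      simp only [Set.mem_union, Set.mem_compl_iff, Set.mem_range_self, not_true_eq_false, or_false]
      rw [Function.Injective.mem_set_image j.isOpenEmbedding.injective]
      refine Iff.trans ?_ (dLocus_preimage i.base i.isOpenEmbedding f.base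
        (PrimeSpectrum.comap (algebraMap Γ(S, (U x).1) Γ(X, (V x).1))) j.base
        j.isOpenEmbedding.injective hc Z K a).symm
      rw [(V x).2.range_fromSpec]
      rfl
    · refine iff_of_true (fun y hy => ?_) (Or.inr hs)
      have h1 : f.base y = s := hy.1.2
      exact absurd (h1 ▸ hVU x hy.2) hs
  rw [hD']
  refine (hcons.image_of_isOpenEmbedding j.isOpenEmbedding hjr).union ?_
  rw [isConstructible_compl]
  exact (U x).2.isCompact.isConstructible (U x).1.2

theorem isCompact_fibre_inter (s : S) (U : Set X) : IsCompact (f.base ⁻¹' {s} ∩ U) := by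
  haveI : QuasiCompact f := quasiCompact_of_compactSpace f
  haveI : LocallyOfFiniteType (f.fiberToSpecResidueField s) :=
    inferInstanceAs (LocallyOfFiniteType (pullback.snd _ _))
  haveI : IsLocallyNoetherian (f.fiber s) := LocallyOfFiniteType.isLocallyNoetherian (f.fiberToSpecResidueField s)
  haveI : CompactSpace (f.fiber s) := inferInstance
  haveI : IsNoetherian (f.fiber s) := {}
  have h := (TopologicalSpace.NoetherianSpace.isCompact ((f.fiberι s).base ⁻¹' U)).image (f.fiberι s).continuous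
  rwa [Set.image_preimage_eq_inter_range, f.range_fiberι, Set.inter_comm] at h

/-- the closure in the fibres spreads over a constructible neighbourhood -/
theorem exists_closure_spread {Z : Set X} (hZ : IsConstructible Z) (s : S) :
    ∃ (C : Set S) (K : Set X), IsConstructible C ∧ s ∈ C ∧ IsClosed K ∧ IsCompact Kᶜ ∧
      ∀ t ∈ C, closure (Z ∩ f.base ⁻¹' {t}) ∩ f.base ⁻¹' {t} = K ∩ f.base ⁻¹' {t} := by
  haveI : QuasiCompact f := quasiCompact_of_compactSpace f
  let O : Set X := (closure (Z ∩ f.base ⁻¹' {s}))ᶜ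
  have hO : IsOpen O := isClosed_closure.isOpen_compl
  choose V hV hyV hVO using fun y : ↥(f.base ⁻¹' {s} ∩ O) =>
    X.isBasis_affineOpens.exists_subset_of_mem_open y.2.2 hO
  obtain ⟨T, hT⟩ := (isCompact_fibre_inter f s O).elim_finite_subcover V
    (fun y => by obtain ⟨W, -, hW⟩ := hV y; rw [← hW]; exact W.2) fun y hy => Set.mem_iUnion.mpr ⟨⟨y, hy⟩, hyV ⟨y, hy⟩⟩
  let W : Set X := ⋃ y ∈ T, V y
  have hWo : IsOpen W := isOpen_iUnion fun y => isOpen_iUnion fun _ => by
    obtain ⟨W', -, h⟩ := hV y; rw [← h]; exact W'.2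
  have hWc : IsCompact W := T.isCompact_biUnion fun y _ => by
    obtain ⟨W', hW', h⟩ := hV y; rw [← h]; exact hW'.isCompact
  have hWO : W ⊆ O := Set.iUnion₂_subset fun y _ => hVO y
  refine ⟨dLocus f.base Z Wᶜ ∩ (f.base '' (W ∩ Z))ᶜ, Wᶜ,
    (isConstructible_dLocus f hZ hWo.isClosed_compl (by rwa [compl_compl])).inter
      (f.isConstructible_image ((hWc.isConstructible hWo).inter hZ)).compl, ⟨?_, ?_⟩,
    hWo.isClosed_compl, by rwa [compl_compl], fun t ht => ?_⟩
  · intro y hy
    have hyO : y ∉ O := fun hyO => hy.1 (hT ⟨hy.2, hyO⟩)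
    refine closure_mono ?_ (not_not.mp hyO)
    exact fun z hz => ⟨⟨hz.1, fun hzW => hWO hzW (subset_closure hz)⟩, hz.2⟩
  · rintro ⟨y, ⟨hyW, hyZ⟩, hy⟩
    exact hWO hyW (subset_closure ⟨hyZ, hy⟩)
  · refine Set.Subset.antisymm (fun y hy => ⟨?_, hy.2⟩) fun y hy => ⟨?_, hy.2⟩
    · refine closure_minimal (fun z hz => ?_) hWo.isClosed_compl hy.1
      exact fun hzW => ht.2 ⟨z, ⟨hzW, hz.1⟩, hz.2⟩
    · exact closure_mono (show Z ∩ Wᶜ ∩ f.base ⁻¹' {t} ⊆ Z ∩ f.base ⁻¹' {t} from
        fun z hz => ⟨hz.1.1, hz.2⟩) (ht.1 hy)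

theorem isClosed_preimage_val_iff {X : Type u} [TopologicalSpace X] (F Z : Set X) :
    IsClosed (Subtype.val ⁻¹' Z : Set F) ↔ closure (Z ∩ F) ∩ F ⊆ Z := by
  rw [← closure_subset_iff_isClosed, IsEmbedding.subtypeVal.closure_eq_preimage_closure_image,
    Subtype.image_preimage_coe, Set.inter_comm F Z]
  constructor
  · intro h x hx
    exact @h (⟨x, hx.2⟩ : F) hx.1
  · intro h x hx
    exact h ⟨hx, x.2⟩

theorem isConstructible_closedLocus {Z : Set X} (hZ : IsConstructible Z) :
    IsConstructible {s : S | IsClosed (Subtype.val ⁻¹' Z : Set ↥(f.base ⁻¹' {s}))} := by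
  haveI : QuasiCompact f := quasiCompact_of_compactSpace f
  refine isConstructible_of_forall_nhd _ fun s => ?_
  obtain ⟨C, K, hC, hsC, hK, hKc, h⟩ := exists_closure_spread f hZ s
  have hKcons : IsConstructible K := by
    rw [← isConstructible_compl]; exact hKc.isConstructible hK.isOpen_compl
  let E := f.base '' (K \ Z)
  have hE : IsConstructible E := f.isConstructible_image (hKcons.sdiff hZ)
  have key : ∀ t ∈ C, IsClosed (Subtype.val ⁻¹' Z : Set ↥(f.base ⁻¹' {t})) ↔ t ∉ E := by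
    intro t ht
    rw [isClosed_preimage_val_iff, h t ht]
    exact ⟨fun hsub ⟨y, ⟨hyK, hyZ⟩, hy⟩ => hyZ (hsub ⟨hyK, hy⟩),
      fun hne y hy => not_not.mp fun hyZ => hne ⟨y, ⟨hy.1, hyZ⟩, hy.2⟩⟩
  by_cases hs : s ∈ E
  · exact ⟨C ∩ E, hC.inter hE, ⟨hsC, hs⟩, Or.inr (Set.disjoint_left.mpr fun t ht h' =>
      (key t ht.1).mp h' ht.2)⟩
  · exact ⟨C ∩ Eᶜ, hC.inter hE.compl, ⟨hsC, hs⟩, Or.inl fun t ht => (key t ht.1).mpr ht.2⟩

theorem isConstructible_openLocus {Z : Set X} (hZ : IsConstructible Z) :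
    IsConstructible {s : S | IsOpen (Subtype.val ⁻¹' Z : Set ↥(f.base ⁻¹' {s}))} := by
  simp only [← isClosed_compl_iff, ← Set.preimage_compl]
  exact isConstructible_closedLocus f hZ.compl

theorem isConstructible_locallyClosedLocus {Z : Set X} (hZ : IsConstructible Z) :
    IsConstructible {s : S | IsLocallyClosed (Subtype.val ⁻¹' Z : Set ↥(f.base ⁻¹' {s}))} := by
  haveI : QuasiCompact f := quasiCompact_of_compactSpace f
  refine isConstructible_of_forall_nhd _ fun s => ?_
  obtain ⟨C, K, hC, hsC, hK, hKc, h⟩ := exists_closure_spread f hZ s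
  have hKcons : IsConstructible K := by
    rw [← isConstructible_compl]; exact hKc.isConstructible hK.isOpen_compl
  let E := {t : S | IsClosed (Subtype.val ⁻¹' (K \ Z) : Set ↥(f.base ⁻¹' {t}))}
  have hE : IsConstructible E := isConstructible_closedLocus f (hKcons.sdiff hZ)
  have key : ∀ t ∈ C, IsLocallyClosed (Subtype.val ⁻¹' Z : Set ↥(f.base ⁻¹' {t})) ↔ t ∈ E := by
    intro t ht
    rw [isLocallyClosed_iff_isOpen_coborder, coborder, isOpen_compl_iff]
    have : closure (Subtype.val ⁻¹' Z : Set ↥(f.base ⁻¹' {t})) \ Subtype.val ⁻¹' Z =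
        Subtype.val ⁻¹' (K \ Z) := by
      rw [IsEmbedding.subtypeVal.closure_eq_preimage_closure_image, Subtype.image_preimage_coe,
        Set.inter_comm, Set.preimage_sdiff]
      congr 1
      ext y
      have := Set.ext_iff.mp (h t ht) y.1
      simp only [Set.mem_inter_iff, y.2, and_true] at this
      exact this
    rw [this]
    rfl
  by_cases hs : s ∈ E
  · exact ⟨C ∩ E, hC.inter hE, ⟨hsC, hs⟩, Or.inl fun t ht => (key t ht.1).mpr ht.2⟩
  · exact ⟨C ∩ Eᶜ, hC.inter hE.compl, ⟨hsC, hs⟩, Or.inr (Set.disjoint_left.mpr fun t ht h' =>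
      ht.2 ((key t ht.1).mp h'))⟩

end RichLib.FibreLoci
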