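import Mathlib
import Groth.Agent.RichLib.FibreLociScheme
import Groth.Agent.RichLib.LimitDescentProps
import Groth.Agent.S12442

/-!
# Constructibility of fibrewise closedness, density and separatedness over an arbitrary base
-/

set_option autoImplicit false
universe u

open CategoryTheory CategoryTheory.Limits AlgebraicGeometry Topology

namespace RichLib.FibreLoci

/-- an embedding identifies the traces on a subset of its range -/
noncomputable def traceHomeo {X Y : Type u} [TopologicalSpace X] [TopologicalSpace Y] (ι : X → Y)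
    (hι : IsEmbedding ι) (F : Set Y) (hF : F ⊆ Set.range ι) : ↥(ι ⁻¹' F) ≃ₜ ↥F :=
  (hι.restrictPreimage F).toHomeomorphOfSurjective fun y => by
    obtain ⟨x, hx⟩ := hF y.2
    exact ⟨⟨x, by show ι x ∈ F; rw [hx]; exact y.2⟩, Subtype.ext hx⟩

variable {X Y : Type u} [TopologicalSpace X] [TopologicalSpace Y] (ι : X → Y)
  (hι : IsEmbedding ι) (F Z : Set Y) (hF : F ⊆ Set.range ι)

theorem traceHomeo_preimage : traceHomeo ι hι F hF ⁻¹' (Subtype.val ⁻¹' Z) = Subtype.val ⁻¹' (ι ⁻¹' Z) := rfl

include hι hF in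
theorem isClosed_trace_iff :
    IsClosed (Subtype.val ⁻¹' (ι ⁻¹' Z) : Set ↥(ι ⁻¹' F)) ↔ IsClosed (Subtype.val ⁻¹' Z : Set F) := by
  rw [← traceHomeo_preimage ι hι F Z hF, Homeomorph.isClosed_preimage]

include hι hF in
theorem isOpen_trace_iff :
    IsOpen (Subtype.val ⁻¹' (ι ⁻¹' Z) : Set ↥(ι ⁻¹' F)) ↔ IsOpen (Subtype.val ⁻¹' Z : Set F) := by
  rw [← traceHomeo_preimage ι hι F Z hF, Homeomorph.isOpen_preimage]

include hι hF in
theorem isLocallyClosed_trace_iff :
    IsLocallyClosed (Subtype.val ⁻¹' (ι ⁻¹' Z) : Set ↥(ι ⁻¹' F)) ↔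
      IsLocallyClosed (Subtype.val ⁻¹' Z : Set F) := by
  rw [← traceHomeo_preimage ι hι F Z hF]
  refine ⟨fun h => ?_, fun h => h.preimage (traceHomeo ι hι F hF).continuous⟩
  have h2 := h.preimage (traceHomeo ι hι F hF).symm.continuous
  rwa [← Set.preimage_comp, Homeomorph.self_comp_symm, Set.preimage_id] at h2

include hι in
theorem isClosed_preimage_iff_trace (hr : Set.range ι = F) :
    IsClosed (ι ⁻¹' Z) ↔ IsClosed (Subtype.val ⁻¹' Z : Set F) := by
  rw [← isClosed_trace_iff ι hι F Z hr.ge]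
  have hu : ι ⁻¹' F = Set.univ := Set.eq_univ_of_forall fun x => hr ▸ ⟨x, rfl⟩
  refine ⟨fun h => h.preimage continuous_subtype_val, fun h => ?_⟩
  have h2 := h.preimage (continuous_id.subtype_mk (fun x : X => show x ∈ ι ⁻¹' F from hu ▸ trivial))
  exact h2

omit ι hι F Z hF

variable {X S : Scheme.{u}} (f : X ⟶ S) [LocallyOfFinitePresentation f]
  [QuasiCompact f] [QuasiSeparated f]

theorem isLocallyConstructible_of_affine (D : Set S)
    (H : ∀ U : S.Opens, IsAffineOpen U → IsConstructible (Subtype.val ⁻¹' D : Set U)) :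
    IsLocallyConstructible D := fun s => by
  obtain ⟨_, ⟨U, hU, rfl⟩, hsU, -⟩ := S.isBasis_affineOpens.exists_subset_of_mem_open
    (Set.mem_univ s) isOpen_univ
  exact ⟨U, U.2.mem_nhds hsU, U.2, H U hU⟩

theorem fibre_restrict (U : S.Opens) (u : U.toScheme) :
    (f ∣_ U).base ⁻¹' {u} = (f ⁻¹ᵁ U).ι.base ⁻¹' (f.base ⁻¹' {U.ι.base u}) := by
  ext x
  show (f ∣_ U).base x = u ↔ f.base ((f ⁻¹ᵁ U).ι.base x) = U.ι.base u
  rw [← Scheme.Hom.comp_apply (f ⁻¹ᵁ U).ι f, ← morphismRestrict_ι, Scheme.Hom.comp_apply,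
    U.ι.isOpenEmbedding.injective.eq_iff]

omit [LocallyOfFinitePresentation f] [QuasiCompact f] [QuasiSeparated f] in
theorem fibre_subset (U : S.Opens) (u : U.toScheme) :
    f.base ⁻¹' {U.ι.base u} ⊆ Set.range (f ⁻¹ᵁ U).ι.base := by
  rw [Scheme.Opens.range_ι]
  intro x hx
  show f.base x ∈ U
  rw [Set.mem_preimage, Set.mem_singleton_iff] at hx
  rw [hx]
  exact u.2

theorem qcqs_restrict {U : S.Opens} (hU : IsAffineOpen U) :
    CompactSpace ↥(U.toScheme) ∧ QuasiSeparatedSpace ↥(U.toScheme) ∧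
      CompactSpace ↥((f ⁻¹ᵁ U).toScheme) ∧ QuasiSeparatedSpace ↥((f ⁻¹ᵁ U).toScheme) := by
  haveI : IsAffine U.toScheme := hU
  haveI : QuasiCompact (f ∣_ U) := IsZariskiLocalAtTarget.restrict ‹_› U
  haveI : QuasiSeparated (f ∣_ U) := IsZariskiLocalAtTarget.restrict ‹_› U
  exact ⟨inferInstance, inferInstance, QuasiCompact.compactSpace_of_compactSpace (f ∣_ U),
    quasiSeparatedSpace_of_quasiSeparated (f ∣_ U)⟩

theorem isLocallyConstructible_fibreLoci {Z : Set X} (hZ : IsLocallyConstructible Z) :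
    IsLocallyConstructible {s : S | IsClosed (Subtype.val ⁻¹' Z : Set ↥(f.base ⁻¹' {s}))} ∧
      IsLocallyConstructible {s : S | IsOpen (Subtype.val ⁻¹' Z : Set ↥(f.base ⁻¹' {s}))} ∧
      IsLocallyConstructible {s : S | IsLocallyClosed (Subtype.val ⁻¹' Z : Set ↥(f.base ⁻¹' {s}))} := by
  have key : ∀ U : S.Opens, IsAffineOpen U →
      IsConstructible (Subtype.val ⁻¹' {s : S | IsClosed (Subtype.val ⁻¹' Z : Set ↥(f.base ⁻¹' {s}))} : Set U) ∧
      IsConstructible (Subtype.val ⁻¹' {s : S | IsOpen (Subtype.val ⁻¹' Z : Set ↥(f.base ⁻¹' {s}))} : Set U) ∧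
      IsConstructible (Subtype.val ⁻¹' {s : S | IsLocallyClosed (Subtype.val ⁻¹' Z : Set ↥(f.base ⁻¹' {s}))} : Set U) := by
    intro U hU
    obtain ⟨_, _, _, _⟩ := qcqs_restrict f hU
    haveI : LocallyOfFinitePresentation (f ∣_ U) := IsZariskiLocalAtTarget.restrict ‹_› U
    let i := (f ⁻¹ᵁ U).ι
    have hZ' : IsConstructible (i.base ⁻¹' Z) :=
      (hZ.preimage_of_isOpenEmbedding i.isOpenEmbedding).isConstructible
    refine ⟨?_, ?_, ?_⟩
    · convert isConstructible_closedLocus (f ∣_ U) hZ' using 1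
      ext u
      refine Iff.trans (isClosed_trace_iff i.base i.isOpenEmbedding.isEmbedding _ Z (fibre_subset f U u)).symm ?_
      exact Iff.of_eq (by rw [Set.mem_ofPred_eq, fibre_restrict f U u])
    · convert isConstructible_openLocus (f ∣_ U) hZ' using 1
      ext u
      refine Iff.trans (isOpen_trace_iff i.base i.isOpenEmbedding.isEmbedding _ Z (fibre_subset f U u)).symm ?_
      exact Iff.of_eq (by rw [Set.mem_ofPred_eq, fibre_restrict f U u])
    · convert isConstructible_locallyClosedLocus (f ∣_ U) hZ' using 1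
      ext u
      refine Iff.trans (isLocallyClosed_trace_iff i.base i.isOpenEmbedding.isEmbedding _ Z (fibre_subset f U u)).symm ?_
      exact Iff.of_eq (by rw [Set.mem_ofPred_eq, fibre_restrict f U u])
  exact ⟨isLocallyConstructible_of_affine _ fun U hU => (key U hU).1,
    isLocallyConstructible_of_affine _ fun U hU => (key U hU).2.1,
    isLocallyConstructible_of_affine _ fun U hU => (key U hU).2.2⟩

theorem isLocallyConstructible_dLocus_univ {Z : Set X} (hZ : IsLocallyConstructible Z) :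
    IsLocallyConstructible (dLocus f.base Z Set.univ) := by
  refine isLocallyConstructible_of_affine _ fun U hU => ?_
  obtain ⟨_, _, _, _⟩ := qcqs_restrict f hU
  haveI : LocallyOfFinitePresentation (f ∣_ U) := IsZariskiLocalAtTarget.restrict ‹_› U
  let i := (f ⁻¹ᵁ U).ι
  have h := isConstructible_dLocus (f ∣_ U)
    (hZ.preimage_of_isOpenEmbedding i.isOpenEmbedding).isConstructible isClosed_univ
    (by rw [Set.compl_univ]; exact isCompact_empty)
  convert h using 1
  ext u
  refine Iff.trans ?_ (dLocus_preimage i.base i.isOpenEmbedding f.base (f ∣_ U).base U.ι.base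
    U.ι.isOpenEmbedding.injective (funext fun x => by
      show ((f ∣_ U) ≫ U.ι).base x = (i ≫ f).base x
      rw [morphismRestrict_ι]) Z Set.univ u).symm
  show _ ⊆ closure _ ↔ _
  rw [Set.inter_eq_left.mpr (Set.inter_subset_right.trans (fibre_subset f U u))]
  rfl

variable {X₀ Y₀ : Scheme.{u}} (f₀ : X₀ ⟶ Y₀) (g₀ : Y₀ ⟶ S)
  [LocallyOfFinitePresentation g₀] [QuasiCompact g₀] [QuasiSeparated g₀]
  [LocallyOfFinitePresentation (f₀ ≫ g₀)] [QuasiCompact (f₀ ≫ g₀)] [QuasiSeparated (f₀ ≫ g₀)]

omit [LocallyOfFinitePresentation g₀] [QuasiCompact g₀] [QuasiSeparated g₀] in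
theorem range_fst_fromSpec (s : S) :
    Set.range (pullback.fst g₀ (S.fromSpecResidueField s)).base = g₀.base ⁻¹' {s} := by
  rw [Scheme.Pullback.range_fst, Scheme.range_fromSpecResidueField]

theorem isLocallyConstructible_dominant :
    IsLocallyConstructible {s : S |
      IsDominant (pullback.lift (pullback.fst (f₀ ≫ g₀) (S.fromSpecResidueField s) ≫ f₀)
        (pullback.snd (f₀ ≫ g₀) (S.fromSpecResidueField s))
        ((Category.assoc _ _ _).trans pullback.condition) :
        pullback (f₀ ≫ g₀) (S.fromSpecResidueField s) ⟶ pullback g₀ (S.fromSpecResidueField s))} := by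
  haveI : LocallyOfFinitePresentation f₀ := Groth.Agent.S12442.result f₀ g₀
  haveI : QuasiCompact f₀ := .of_comp f₀ g₀
  have hR : IsLocallyConstructible (Set.range f₀.base) := by
    rw [← Set.image_univ]; exact f₀.isLocallyConstructible_image IsLocallyConstructible.univ
  convert isLocallyConstructible_dLocus_univ g₀ hR using 1
  ext s
  let e := (pullback.fst g₀ (S.fromSpecResidueField s)).base
  have he : IsEmbedding e := (pullback.fst g₀ (S.fromSpecResidueField s)).isEmbedding
  let fs : pullback (f₀ ≫ g₀) (S.fromSpecResidueField s) ⟶ pullback g₀ (S.fromSpecResidueField s) :=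
    pullback.lift (pullback.fst (f₀ ≫ g₀) (S.fromSpecResidueField s) ≫ f₀)
      (pullback.snd (f₀ ≫ g₀) (S.fromSpecResidueField s)) ((Category.assoc _ _ _).trans pullback.condition)
  have hrange : Set.range fs.base = e ⁻¹' Set.range f₀.base := by
    have sq : IsPullback (pullback.fst (f₀ ≫ g₀) (S.fromSpecResidueField s)) fs f₀
        (pullback.fst g₀ (S.fromSpecResidueField s)) :=
      IsPullback.of_bot (by rw [pullback.lift_snd]; exact IsPullback.of_hasPullback _ _)
        (pullback.lift_fst _ _ _).symm (IsPullback.of_hasPullback _ _)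
    ext y
    constructor
    · rintro ⟨x, rfl⟩
      refine ⟨(pullback.fst (f₀ ≫ g₀) (S.fromSpecResidueField s)).base x, ?_⟩
      rw [← Scheme.Hom.comp_apply, sq.w, Scheme.Hom.comp_apply]
    · rintro ⟨x₀, hx₀⟩
      obtain ⟨x, -, hx⟩ := Scheme.exists_preimage_of_isPullback sq x₀ y hx₀
      exact ⟨x, hx⟩
  show IsDominant fs ↔ _
  rw [isDominant_iff, DenseRange, hrange, he.isInducing.dense_iff]
  show _ ↔ Set.univ ∩ g₀.base ⁻¹' {s} ⊆ closure (Set.range f₀.base ∩ Set.univ ∩ g₀.base ⁻¹' {s})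
  rw [Set.univ_inter, Set.inter_univ, ← range_fst_fromSpec g₀ s, Set.image_preimage_eq_inter_range,
    Set.range_subset_iff]

theorem isLocallyConstructible_separated :
    IsLocallyConstructible {s : S |
      IsSeparated (pullback.lift (pullback.fst (f₀ ≫ g₀) (S.fromSpecResidueField s) ≫ f₀)
        (pullback.snd (f₀ ≫ g₀) (S.fromSpecResidueField s))
        ((Category.assoc _ _ _).trans pullback.condition) :
        pullback (f₀ ≫ g₀) (S.fromSpecResidueField s) ⟶ pullback g₀ (S.fromSpecResidueField s))} := by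
  haveI : LocallyOfFinitePresentation f₀ := Groth.Agent.S12442.result f₀ g₀
  haveI : QuasiCompact f₀ := .of_comp f₀ g₀
  haveI : QuasiSeparated f₀ := .of_comp f₀ g₀
  haveI : LocallyOfFinitePresentation (pullback.diagonal f₀) := by
    haveI : LocallyOfFinitePresentation (pullback.diagonal f₀ ≫ pullback.fst f₀ f₀) := by
      rw [pullback.diagonal_fst]; infer_instance
    exact Groth.Agent.S12442.result (pullback.diagonal f₀) (pullback.fst f₀ f₀)
  haveI : QuasiCompact (pullback.diagonal f₀) := QuasiSeparated.quasiCompact_diagonal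
  let k := pullback.fst f₀ f₀ ≫ f₀ ≫ g₀
  have hR : IsLocallyConstructible (Set.range (pullback.diagonal f₀).base) := by
    rw [← Set.image_univ]; exact (pullback.diagonal f₀).isLocallyConstructible_image IsLocallyConstructible.univ
  convert (isLocallyConstructible_fibreLoci k hR).1 using 1
  ext s
  let t := S.fromSpecResidueField s
  let fs : pullback (f₀ ≫ g₀) t ⟶ pullback g₀ t := pullback.lift (pullback.fst (f₀ ≫ g₀) t ≫ f₀)
      (pullback.snd (f₀ ≫ g₀) t) ((Category.assoc _ _ _).trans pullback.condition)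
  have sq : IsPullback (pullback.fst (f₀ ≫ g₀) t) fs f₀ (pullback.fst g₀ t) :=
    IsPullback.of_bot (by rw [pullback.lift_snd]; exact IsPullback.of_hasPullback _ _)
      (pullback.lift_fst _ _ _).symm (IsPullback.of_hasPullback _ _)
  have hd := RichLib.LimBC.isPullback_diagonal sq
  set m := pullback.map fs fs f₀ f₀ (pullback.fst (f₀ ≫ g₀) t) (pullback.fst (f₀ ≫ g₀) t)
    (pullback.fst g₀ t) sq.w.symm sq.w.symm with hm
  have hm1 : m ≫ pullback.fst f₀ f₀ = pullback.fst fs fs ≫ pullback.fst (f₀ ≫ g₀) t :=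
    pullback.lift_fst _ _ _
  have hm2 : m ≫ pullback.snd f₀ f₀ = pullback.snd fs fs ≫ pullback.fst (f₀ ≫ g₀) t :=
    pullback.lift_snd _ _ _
  -- `pullback fs fs` is the fibre of `pullback f₀ f₀`
  have sqP : IsPullback m (pullback.fst fs fs ≫ fs ≫ pullback.snd g₀ t) k t := by
    have top : IsPullback m (pullback.fst fs fs) (pullback.fst f₀ f₀) (pullback.fst (f₀ ≫ g₀) t) := by
      refine IsPullback.of_right (h₁₂ := pullback.snd f₀ f₀) (h₂₂ := f₀) (v₁₃ := f₀) ?_ hm1
        (IsPullback.of_hasPullback f₀ f₀).flip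
      rw [hm2, sq.w]
      exact (IsPullback.of_hasPullback fs fs).flip.paste_horiz sq
    have h2 := (top.paste_vert sq).paste_vert (IsPullback.of_hasPullback g₀ t)
    simp only [Category.assoc] at h2
    exact h2
  have hmr : Set.range m.base = k.base ⁻¹' {s} := by
    rw [← range_fst_fromSpec k s, ← sqP.isoPullback_hom_fst]
    simp only [Scheme.Hom.comp_base, TopCat.coe_comp, Set.range_comp]
    rw [Set.range_eq_univ.mpr sqP.isoPullback.hom.surjective, Set.image_univ]
  haveI : IsPreimmersion m := MorphismProperty.of_isPullback (P := @IsPreimmersion) sqP.flip inferInstance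
  have hdr : Set.range (pullback.diagonal fs).base = m.base ⁻¹' Set.range (pullback.diagonal f₀).base := by
    ext y
    constructor
    · rintro ⟨x, rfl⟩
      refine ⟨(pullback.fst (f₀ ≫ g₀) t).base x, ?_⟩
      rw [← Scheme.Hom.comp_apply, hd.w, Scheme.Hom.comp_apply]
    · rintro ⟨x₀, hx₀⟩
      obtain ⟨x, -, hx⟩ := Scheme.exists_preimage_of_isPullback hd x₀ y hx₀
      exact ⟨x, hx⟩
  show IsSeparated fs ↔ IsClosed _
  rw [← isClosed_preimage_iff_trace m.base m.isEmbedding _ _ hmr, ← hdr]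
  exact ⟨fun h => (pullback.diagonal fs).isClosedEmbedding.isClosed_range,
    fun h => ⟨IsClosedImmersion.of_isPreimmersion _ h⟩⟩

end RichLib.FibreLoci
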