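import Mathlib
import Groth.Agent.RichLib.FibreRange
import Groth.Agent.RichLib.QFLocusConstructible

/-!
# Local quasi-finiteness of base changes in terms of a constructible set of the base
-/

set_option autoImplicit false
universe u

open CategoryTheory CategoryTheory.Limits AlgebraicGeometry Topology

namespace RichLib.FibreRange

variable {X₀ Y₀ S T Xi Yi : Scheme.{u}} (f₀ : X₀ ⟶ Y₀) (g₀ : Y₀ ⟶ S) {t : T ⟶ S}
  {fi : Xi ⟶ Yi} {gi : Yi ⟶ T} {pY : Yi ⟶ Y₀} {pX : Xi ⟶ X₀}

/-- the bad set for local quasi-finiteness -/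
def badLQF : Set S := (f₀ ≫ g₀).base '' {x | ¬ f₀.QuasiFiniteAt x}

variable {f₀ g₀}

theorem locallyQuasiFinite_iff (hY : IsPullback pY gi g₀ t) (hX : IsPullback pX fi f₀ pY)
    [LocallyOfFiniteType f₀] : LocallyQuasiFinite fi ↔ t.base ⁻¹' badLQF f₀ g₀ = ∅ := by
  haveI : LocallyOfFiniteType fi := MorphismProperty.of_isPullback hX inferInstance
  constructor
  · intro h
    rw [Set.eq_empty_iff_forall_notMem]
    rintro c ⟨x₀, hx₀, hc⟩
    obtain ⟨y, hy1, -⟩ := Scheme.exists_preimage_of_isPullback hY (f₀.base x₀) c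
      (by rw [← Scheme.Hom.comp_apply]; exact hc)
    obtain ⟨x, rfl, -⟩ := Scheme.exists_preimage_of_isPullback hX x₀ y hy1.symm
    exact hx₀ ((RichLib.QFLocus.quasiFiniteAt_iff_of_isPullback hX x).mp (fi.quasiFiniteAt x))
  · intro h
    rw [← Scheme.Hom.quasiFiniteLocus_eq_top_iff, eq_top_iff]
    intro x _
    refine (RichLib.QFLocus.quasiFiniteAt_iff_of_isPullback hX x).mpr ?_
    by_contra hx
    refine Set.eq_empty_iff_forall_notMem.mp h ((fi ≫ gi).base x) ⟨pX.base x, hx, ?_⟩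
    rw [← Scheme.Hom.comp_apply, ← Scheme.Hom.comp_apply]
    congr 2
    simp [hY.w, reassoc_of% hX.w]

variable (f₀ g₀)

theorem isLocallyConstructible_badLQF [LocallyOfFinitePresentation g₀]
    [LocallyOfFinitePresentation (f₀ ≫ g₀)] [QuasiCompact (f₀ ≫ g₀)] :
    IsLocallyConstructible (badLQF f₀ g₀) := by
  haveI : LocallyOfFinitePresentation f₀ := Groth.Agent.S12442.result f₀ g₀
  exact (f₀ ≫ g₀).isLocallyConstructible_image
    (isLocallyConstructible_compl (RichLib.QFLocus.isLocallyConstructible_quasiFiniteLocus f₀))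

end RichLib.FibreRange
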