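import Mathlib
import Groth.Agent.RichLib.LimitBaseChange

/-!
# A point of an affine scheme as a limit of locally closed strata of finite presentation

For a prime `p` of a ring `A`, the residue field is the colimit of the rings `(A ⧸ I)[1/a]` with `I`
finitely generated inside `p` and `a` outside `p`.  Hence a property of fibres which descends along
affine limits holds over a whole constructible stratum through the point.
-/

set_option autoImplicit false
universe u

open CategoryTheory CategoryTheory.Limits AlgebraicGeometry Topology Opposite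

noncomputable section

namespace RichLib.Strata

section Ring

variable (A : Type u) [CommRing A] (p : Ideal A) [p.IsPrime]

/-- strata through `p` -/
structure Idx where
  /-- the ideal to kill -/
  I : Ideal A
  fg : Submodule.FG I
  le : I ≤ p
  /-- the elements to invert -/
  els : Finset {a : A // a ∉ p}

variable {A p}

instance : Preorder (Idx A p) :=
  Preorder.lift fun k => (k.I, k.els)

/-- the element to invert -/
def Idx.elt (k : Idx A p) : A := ∏ a ∈ k.els, (a : A)

theorem Idx.elt_notMem (k : Idx A p) : k.elt ∉ p := fun h => by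
  obtain ⟨a, -, ha⟩ := (Ideal.IsPrime.prod_mem_iff (p := p)).mp h
  exact a.2 ha

/-- the stratum of an index -/
abbrev Idx.B (k : Idx A p) : Type u := Localization.Away (Ideal.Quotient.mk k.I k.elt)

theorem isUnit_transition {k l : Idx A p} (h : k ≤ l) :
    IsUnit (((algebraMap (A ⧸ l.I) l.B).comp (Ideal.Quotient.factor h.1))
      (Ideal.Quotient.mk k.I k.elt)) := by
  rw [RingHom.comp_apply, Ideal.Quotient.factor_mk]
  refine isUnit_of_dvd_unit ?_
    (IsLocalization.map_units l.B (⟨_, Submonoid.mem_powers (Ideal.Quotient.mk l.I l.elt)⟩ :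
      Submonoid.powers (Ideal.Quotient.mk l.I l.elt)))
  exact map_dvd _ (map_dvd _ (Finset.prod_dvd_prod_of_subset _ _ _ h.2))

/-- transition maps -/
def transition {k l : Idx A p} (h : k ≤ l) : k.B →+* l.B :=
  IsLocalization.Away.lift (Ideal.Quotient.mk k.I k.elt) (isUnit_transition h)

theorem transition_mk {k l : Idx A p} (h : k ≤ l) (a : A) :
    transition h (algebraMap (A ⧸ k.I) k.B (Ideal.Quotient.mk _ a)) =
      algebraMap (A ⧸ l.I) l.B (Ideal.Quotient.mk _ a) := by
  rw [transition, IsLocalization.Away.lift_eq]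
  rfl

theorem ringHom_ext {k : Idx A p} {T : Type u} [CommRing T] {f g : k.B →+* T}
    (h : ∀ a : A, f (algebraMap (A ⧸ k.I) k.B (Ideal.Quotient.mk _ a)) =
      g (algebraMap (A ⧸ k.I) k.B (Ideal.Quotient.mk _ a))) : f = g :=
  IsLocalization.ringHom_ext (Submonoid.powers (Ideal.Quotient.mk k.I k.elt))
    (Ideal.Quotient.ringHom_ext (RingHom.ext h))

theorem algebraMap_B (k : Idx A p) (a : A) :
    algebraMap A k.B a = algebraMap (A ⧸ k.I) k.B (Ideal.Quotient.mk _ a) := rfl

theorem isUnit_toResidueField (k : Idx A p) :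
    IsUnit (Ideal.Quotient.lift k.I (algebraMap A p.ResidueField)
      (fun _ h => Ideal.algebraMap_residueField_eq_zero.mpr (k.le h)) (Ideal.Quotient.mk _ k.elt)) := by
  rw [Ideal.Quotient.lift_mk, isUnit_iff_ne_zero, Ne, Ideal.algebraMap_residueField_eq_zero]
  exact k.elt_notMem

/-- a stratum maps to the residue field -/
def toResidueField (k : Idx A p) : k.B →+* p.ResidueField :=
  IsLocalization.Away.lift (Ideal.Quotient.mk k.I k.elt) (isUnit_toResidueField k)

theorem toResidueField_mk (k : Idx A p) (a : A) :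
    toResidueField k (algebraMap (A ⧸ k.I) k.B (Ideal.Quotient.mk _ a)) =
      algebraMap A p.ResidueField a := by
  rw [toResidueField, IsLocalization.Away.lift_eq, Ideal.Quotient.lift_mk]

instance : Nonempty (Idx A p) := ⟨⟨⊥, Submodule.fg_bot, bot_le, ∅⟩⟩

instance : IsDirected (Idx A p) (· ≤ ·) := by
  classical
  exact ⟨fun k l => ⟨⟨k.I ⊔ l.I, k.fg.sup l.fg, sup_le k.le l.le, k.els ∪ l.els⟩,
    ⟨le_sup_left (a := k.I), Finset.subset_union_left⟩,
    ⟨le_sup_right (a := k.I), Finset.subset_union_right⟩⟩⟩

variable (A p)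

/-- the diagram of strata -/
def diag : Idx A p ⥤ CommRingCat.{u} where
  obj k := CommRingCat.of k.B
  map h := CommRingCat.ofHom (transition (leOfHom h))
  map_id k := CommRingCat.hom_ext (ringHom_ext fun a => by
    simpa using transition_mk (le_refl k) a)
  map_comp f g := CommRingCat.hom_ext (ringHom_ext fun a => by
    simp [transition_mk])

/-- the residue field as a cocone -/
def cocone : Cocone (diag A p) where
  pt := CommRingCat.of p.ResidueField
  ι :=
    { app := fun k => CommRingCat.ofHom (toResidueField k)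
      naturality := fun k l h => CommRingCat.hom_ext (ringHom_ext fun a => by
        simp [diag, transition_mk, toResidueField_mk]) }

theorem toResidueField_transition {k l : Idx A p} (h : k ≤ l) (y : k.B) :
    toResidueField l (transition h y) = toResidueField k y :=
  RingHom.congr_fun (ringHom_ext (f := (toResidueField l).comp (transition h))
    (g := toResidueField k) fun a => by
      rw [RingHom.comp_apply, transition_mk, toResidueField_mk, toResidueField_mk]) y

theorem transition_trans {k l m : Idx A p} (h : k ≤ l) (h' : l ≤ m) (y : k.B) :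
    transition (h.trans h') y = transition h' (transition h y) :=
  RingHom.congr_fun (ringHom_ext (f := transition (h.trans h'))
    (g := (transition h').comp (transition h)) fun a => by
      rw [RingHom.comp_apply, transition_mk, transition_mk, transition_mk]) y

theorem exists_toResidueField_eq (x : p.ResidueField) :
    ∃ (k : Idx A p) (y : k.B), toResidueField k y = x := by
  obtain ⟨⟨r, s⟩, hx⟩ := IsLocalization.surj (nonZeroDivisors (A ⧸ p)) x
  obtain ⟨r, rfl⟩ := Ideal.Quotient.mk_surjective r
  obtain ⟨s', hs'⟩ := Ideal.Quotient.mk_surjective (s : A ⧸ p)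
  have hs : s' ∉ p := fun h => nonZeroDivisors.coe_ne_zero s (by
    rw [← hs']; exact Ideal.Quotient.eq_zero_iff_mem.mpr h)
  let k : Idx A p := ⟨⊥, Submodule.fg_bot, bot_le, {⟨s', hs⟩}⟩
  have hk : k.elt = s' := by simp [k, Idx.elt]
  refine ⟨k, algebraMap (A ⧸ k.I) k.B (Ideal.Quotient.mk _ r) *
    IsLocalization.Away.invSelf (Ideal.Quotient.mk k.I k.elt), ?_⟩
  have h1 := congrArg (toResidueField k)
    (IsLocalization.Away.mul_invSelf (S := k.B) (Ideal.Quotient.mk k.I k.elt))
  rw [map_mul, map_one, toResidueField_mk, congrArg (algebraMap A p.ResidueField) hk] at h1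
  have hx' : x * algebraMap A p.ResidueField s' = algebraMap A p.ResidueField r := by
    rw [IsScalarTower.algebraMap_apply A (A ⧸ p) p.ResidueField,
      IsScalarTower.algebraMap_apply A (A ⧸ p) p.ResidueField, Ideal.Quotient.algebraMap_eq, hs']
    exact hx
  rw [map_mul, toResidueField_mk, ← hx', mul_assoc, h1, mul_one]

theorem exists_transition_eq_zero {k : Idx A p} (d : k.B) (hd : toResidueField k d = 0) :
    ∃ (m : Idx A p) (h : k ≤ m), transition h d = 0 := by
  obtain ⟨⟨r, s⟩, hds⟩ := IsLocalization.surj (Submonoid.powers (Ideal.Quotient.mk k.I k.elt)) d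
  obtain ⟨r, rfl⟩ := Ideal.Quotient.mk_surjective r
  have hr : r ∈ p := by
    rw [← Ideal.algebraMap_residueField_eq_zero, ← toResidueField_mk k, ← hds, map_mul, hd,
      zero_mul]
  let m : Idx A p := ⟨k.I ⊔ Ideal.span {r}, k.fg.sup (Submodule.fg_span_singleton r),
    sup_le k.le ((Ideal.span_singleton_le_iff_mem p).mpr hr), k.els⟩
  have hm : k ≤ m := ⟨le_sup_left (a := k.I), le_refl k.els⟩
  refine ⟨m, hm, ?_⟩
  have hu := IsLocalization.map_units k.B s
  have h2 := congrArg (transition hm) hds
  rw [map_mul, transition_mk, Ideal.Quotient.eq_zero_iff_mem.mpr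
    (Ideal.mem_sup_right (Ideal.mem_span_singleton_self r)), map_zero] at h2
  exact (hu.map (transition hm)).mul_left_eq_zero.mp h2

theorem cocone_isColimit : Nonempty (IsColimit (cocone A p)) := by
  haveI : ReflectsColimit (diag A p) (forget CommRingCat.{u}) :=
    reflectsColimit_of_reflectsIsomorphisms _ _
  refine ⟨isColimitOfReflects (forget CommRingCat)
    (Types.FilteredColimit.isColimitOf _ _ (fun (x : p.ResidueField) => ?_) ?_)⟩
  · obtain ⟨k, y, hy⟩ := exists_toResidueField_eq A p x
    exact ⟨k, y, hy.symm⟩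
  · intro k l (y : k.B) (z : l.B) (h : toResidueField k y = toResidueField l z)
    obtain ⟨m₀, hk, hl⟩ := exists_ge_ge k l
    obtain ⟨m, hm, h0⟩ := exists_transition_eq_zero A p (transition hk y - transition hl z)
      (by rw [map_sub, toResidueField_transition, toResidueField_transition, h, sub_self])
    refine ⟨m, homOfLE (hk.trans hm), homOfLE (hl.trans hm), ?_⟩
    show transition (hk.trans hm) y = transition (hl.trans hm) z
    rw [transition_trans A p hk hm, transition_trans A p hl hm, ← sub_eq_zero, ← map_sub, h0]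

theorem range_comap_B (k : Idx A p) :
    Set.range (PrimeSpectrum.comap (algebraMap A k.B)) =
      PrimeSpectrum.zeroLocus (k.I : Set A) ∩ PrimeSpectrum.basicOpen k.elt := by
  have : algebraMap A k.B = (algebraMap (A ⧸ k.I) k.B).comp (Ideal.Quotient.mk k.I) := rfl
  rw [this, PrimeSpectrum.comap_comp, Set.range_comp, PrimeSpectrum.localization_away_comap_range
    k.B (Ideal.Quotient.mk k.I k.elt)]
  ext x
  constructor
  · rintro ⟨y, hy, rfl⟩
    refine ⟨fun a ha => ?_, hy⟩
    show Ideal.Quotient.mk k.I a ∈ y.asIdeal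
    rw [Ideal.Quotient.eq_zero_iff_mem.mpr ha]
    exact zero_mem _
  · rintro ⟨hx, hx'⟩
    obtain ⟨y, rfl⟩ : x ∈ Set.range (PrimeSpectrum.comap (Ideal.Quotient.mk k.I)) := by
      rw [range_comap_of_surjective _ _ Ideal.Quotient.mk_surjective, Ideal.mk_ker]
      exact hx
    exact ⟨y, hx', rfl⟩

end Ring

section Scheme

variable {S : Scheme.{u}} (R : Type u) [CommRing R] (e : S ≅ Spec (CommRingCat.of R)) (q : Ideal R)
  [q.IsPrime]

/-- the system of strata through a point -/
def sys : RichLib.LimBC.Sys (Idx R q)ᵒᵖ S where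
  D := (diag R q).op ⋙ Scheme.Spec
  t k := Spec.map (CommRingCat.ofHom (algebraMap R k.unop.B)) ≫ e.inv
  w {k l} h := by
    show Spec.map ((diag R q).map h.unop) ≫ _ ≫ e.inv = _
    rw [← Category.assoc, ← Spec.map_comp]
    congr 2
    exact CommRingCat.hom_ext (RingHom.ext fun a => transition_mk (leOfHom h.unop) a)
  c := Scheme.Spec.mapCone (cocone R q).op
  hc := isLimitOfPreserves Scheme.Spec (cocone_isColimit R q).some.op
  affine k :=
    haveI : IsAffine (((diag R q).op ⋙ Scheme.Spec).obj k) :=
      inferInstanceAs (IsAffine (Spec (CommRingCat.of k.unop.B)))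
    MorphismProperty.comp_mem _ _ _ (isAffineHom_of_isAffine _) inferInstance
  s := Spec.map (CommRingCat.ofHom (algebraMap R q.ResidueField)) ≫ e.inv
  hs k := by
    show Spec.map (CommRingCat.ofHom (toResidueField k.unop)) ≫
      Spec.map (CommRingCat.ofHom (algebraMap R k.unop.B)) ≫ e.inv = _
    rw [← Category.assoc, ← Spec.map_comp]
    congr 2
    exact CommRingCat.hom_ext (RingHom.ext fun a => toResidueField_mk _ a)

theorem locallyOfFinitePresentation_t (k : (Idx R q)ᵒᵖ) :
    LocallyOfFinitePresentation ((sys R e q).t k) := by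
  haveI : Algebra.FinitePresentation R (R ⧸ k.unop.I) :=
    Algebra.FinitePresentation.quotient k.unop.fg
  haveI : Algebra.FinitePresentation R k.unop.B :=
    Algebra.FinitePresentation.trans R (R ⧸ k.unop.I) k.unop.B
  haveI : LocallyOfFinitePresentation (Spec.map (CommRingCat.ofHom (algebraMap R k.unop.B))) :=
    (HasRingHomProperty.Spec_iff (P := @LocallyOfFinitePresentation)).mpr
      (RingHom.finitePresentation_algebraMap.mpr inferInstance)
  exact MorphismProperty.comp_mem _ _ _ this inferInstance

theorem isPreimmersion_t (k : (Idx R q)ᵒᵖ) : IsPreimmersion ((sys R e q).t k) := by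
  haveI : IsClosedImmersion (Spec.map (CommRingCat.ofHom (algebraMap R (R ⧸ k.unop.I)))) :=
    IsClosedImmersion.spec_of_surjective _ Ideal.Quotient.mk_surjective
  haveI : IsOpenImmersion (Spec.map (CommRingCat.ofHom (algebraMap (R ⧸ k.unop.I) k.unop.B))) :=
    IsOpenImmersion.of_isLocalization (Ideal.Quotient.mk k.unop.I k.unop.elt)
  have : Spec.map (CommRingCat.ofHom (algebraMap R k.unop.B)) =
      Spec.map (CommRingCat.ofHom (algebraMap (R ⧸ k.unop.I) k.unop.B)) ≫
        Spec.map (CommRingCat.ofHom (algebraMap R (R ⧸ k.unop.I))) := by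
    rw [← Spec.map_comp]; rfl
  show IsPreimmersion (Spec.map (CommRingCat.ofHom (algebraMap R k.unop.B)) ≫ e.inv)
  rw [this]
  infer_instance

theorem mem_range_t (s : S) (hs : e.hom.base s = ⟨q, inferInstance⟩) (k : (Idx R q)ᵒᵖ) :
    s ∈ Set.range ((sys R e q).t k).base := by
  show s ∈ Set.range (Spec.map (CommRingCat.ofHom (algebraMap R k.unop.B)) ≫ e.inv).base
  obtain ⟨y, hy⟩ : (⟨q, inferInstance⟩ : PrimeSpectrum R) ∈
      Set.range (PrimeSpectrum.comap (algebraMap R k.unop.B)) := by
    rw [range_comap_B]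
    exact ⟨k.unop.le, k.unop.elt_notMem⟩
  refine ⟨y, ?_⟩
  rw [Scheme.Hom.comp_apply]
  show e.inv.base (PrimeSpectrum.comap (algebraMap R k.unop.B) y) = s
  rw [hy, ← hs, ← Scheme.Hom.comp_apply, Iso.hom_inv_id]
  rfl

theorem s_base_apply (s : S) (hs : e.hom.base s = ⟨q, inferInstance⟩)
    (x : (sys R e q).c.pt) : (sys R e q).s.base x = s := by
  show (Spec.map (CommRingCat.ofHom (algebraMap R q.ResidueField)) ≫ e.inv).base x = s
  rw [Scheme.Hom.comp_apply]
  have : (Spec.map (CommRingCat.ofHom (algebraMap R q.ResidueField))).base x = ⟨q, inferInstance⟩ := by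
    apply PrimeSpectrum.ext
    ext a
    show algebraMap R q.ResidueField a ∈ (show PrimeSpectrum q.ResidueField from x).asIdeal ↔ a ∈ q
    rw [Ideal.eq_bot_of_prime (show PrimeSpectrum q.ResidueField from x).asIdeal, Ideal.mem_bot,
      Ideal.algebraMap_residueField_eq_zero]
  rw [this, ← hs, ← Scheme.Hom.comp_apply, Iso.hom_inv_id]
  rfl

end Scheme

section Loci

variable {X Y S : Scheme.{u}} (f : X ⟶ Y) (g : Y ⟶ S)

/-- the base change of `f` along `T ⟶ S` -/
abbrev fib {T : Scheme.{u}} (t : T ⟶ S) := pullback.snd f (pullback.fst g t)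

/-- the points over which the fibre of `f` has a property -/
def loc (P : MorphismProperty Scheme.{u}) : Set S := {s | P (fib f g (S.fromSpecResidueField s))}

variable {f g}

theorem iff_of_isPullback (P : MorphismProperty Scheme.{u}) [P.RespectsIso] {T Xt Yt : Scheme.{u}}
    {t : T ⟶ S} {a : Xt ⟶ X} {ft : Xt ⟶ Yt} {b : Yt ⟶ Y} {gt : Yt ⟶ T}
    (hY : IsPullback b gt g t) (hX : IsPullback a ft f b) : P ft ↔ P (fib f g t) := by
  have hX' : IsPullback a (ft ≫ hY.isoPullback.hom) f (pullback.fst g t) :=
    hX.of_iso (Iso.refl _) (Iso.refl _) hY.isoPullback (Iso.refl _) (by simp) (by simp) (by simp)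
      (by simp)
  show _ ↔ P (pullback.snd f (pullback.fst g t))
  rw [← hX'.isoPullback_inv_snd, MorphismProperty.cancel_left_of_respectsIso P,
    MorphismProperty.cancel_right_of_respectsIso P]

variable (f g)

theorem of_fib (P : MorphismProperty Scheme.{u}) [P.IsStableUnderBaseChange] {T T' : Scheme.{u}}
    (t : T ⟶ S) (h : T' ⟶ T) (hP : P (fib f g t)) : P (fib f g (h ≫ t)) := by
  let m : pullback g (h ≫ t) ⟶ pullback g t :=
    pullback.lift (pullback.fst g (h ≫ t)) (pullback.snd g (h ≫ t) ≫ h)
      (by rw [pullback.condition, Category.assoc])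
  refine MorphismProperty.of_isPullback (P := P) (g := fib f g t) (f := m)
    (f' := pullback.lift (pullback.fst f (pullback.fst g (h ≫ t)))
      (fib f g (h ≫ t) ≫ m) (by
        rw [Category.assoc, pullback.lift_fst, pullback.condition])) ?_ hP
  refine IsPullback.of_right ?_ (pullback.lift_snd _ _ _) (IsPullback.of_hasPullback f (pullback.fst g t))
  rw [pullback.lift_fst, pullback.lift_fst]
  exact IsPullback.of_hasPullback _ _

theorem fib_iso_comp_iff (P : MorphismProperty Scheme.{u}) [P.IsStableUnderBaseChange]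
    {T T' : Scheme.{u}} (t : T ⟶ S) (h : T' ⟶ T) [IsIso h] :
    P (fib f g (h ≫ t)) ↔ P (fib f g t) := by
  refine ⟨fun hP => ?_, of_fib f g P t h⟩
  have := of_fib f g P (h ≫ t) (inv h) hP
  rwa [IsIso.inv_hom_id_assoc] at this

theorem of_field_point (P : MorphismProperty Scheme.{u}) [P.IsStableUnderBaseChange] {K : Type u}
    [Field K] (x : Spec (CommRingCat.of K) ⟶ S) (s : S) (hx : x.base (IsLocalRing.closedPoint K) = s)
    (hP : s ∈ loc f g P) : P (fib f g x) := by
  subst hx
  rw [← Scheme.descResidueField_stalkClosedPointTo_fromSpecResidueField K S x]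
  exact of_fib f g P _ _ hP

theorem fib_comp_iff (P : MorphismProperty Scheme.{u}) [P.RespectsIso] {T U : Scheme.{u}}
    (ι : T ⟶ S) (a : U ⟶ T) :
    P (fib (fib f g ι) (pullback.snd g ι) a) ↔ P (fib f g (a ≫ ι)) :=
  iff_of_isPullback P
    ((IsPullback.of_hasPullback (pullback.snd g ι) a).paste_horiz (IsPullback.of_hasPullback g ι))
    ((IsPullback.of_hasPullback (fib f g ι) (pullback.fst (pullback.snd g ι) a)).paste_horiz
      (IsPullback.of_hasPullback f (pullback.fst g ι)))

/-- the loci of the restriction to a stratum are the traces -/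
theorem preimage_loc (P : MorphismProperty Scheme.{u}) [P.IsStableUnderBaseChange] {T : Scheme.{u}}
    (ι : T ⟶ S) [IsPreimmersion ι] :
    ι.base ⁻¹' loc f g P = loc (fib f g ι) (pullback.snd g ι) P := by
  ext u
  show P (fib f g (S.fromSpecResidueField (ι.base u))) ↔
    P (fib (fib f g ι) (pullback.snd g ι) (T.fromSpecResidueField u))
  rw [fib_comp_iff f g P, ← Scheme.Hom.SpecMap_residueFieldMap_fromSpecResidueField ι u]
  haveI : IsIso (ι.residueFieldMap u) := by
    refine (ConcreteCategory.isIso_iff_bijective _).mpr ⟨(ι.residueFieldMap u).hom.injective, fun y => ?_⟩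
    obtain ⟨y, rfl⟩ := T.residue_surjective u y
    obtain ⟨z, rfl⟩ := ι.stalkMap_surjective u y
    exact ⟨S.residue (ι.base u) z, by
      rw [← ConcreteCategory.comp_apply, Scheme.residue_residueFieldMap]; rfl⟩
  exact (fib_iso_comp_iff f g P _ _).symm

variable [IsAffine S]

/-- a property of a fibre which descends along affine limits holds over a stratum -/
theorem exists_stratum (P : MorphismProperty Scheme.{u}) [P.IsStableUnderBaseChange]
    (H : ∀ {J : Type u} [SmallCategory J] [IsCofiltered J] (B : RichLib.LimBC.Sys J Y),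
      RichLib.LimBC.AtLim B f P → ∃ j, RichLib.LimBC.At B f P j)
    {s : S} (hs : s ∈ loc f g P) :
    ∃ (T : Scheme.{u}) (ι : T ⟶ S), IsAffine T ∧ IsPreimmersion ι ∧ LocallyOfFinitePresentation ι ∧
      s ∈ Set.range ι.base ∧ P (fib f g ι) := by
  let q := S.isoSpec.hom.base s
  let Sy := sys Γ(S, ⊤) S.isoSpec q.asIdeal
  have hq : S.isoSpec.hom.base s = ⟨q.asIdeal, inferInstance⟩ := rfl
  obtain ⟨k, hk⟩ := H (RichLib.LimBC.pb Sy g) (by
    show P (fib f g Sy.s)
    exact of_field_point f g P (K := q.asIdeal.ResidueField) Sy.s s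
      (s_base_apply Γ(S, ⊤) S.isoSpec q.asIdeal s hq _) hs)
  exact ⟨Sy.D.obj k, Sy.t k, inferInstanceAs (IsAffine (Spec (CommRingCat.of k.unop.B))),
    isPreimmersion_t _ _ _ k, locallyOfFinitePresentation_t _ _ _ k, mem_range_t _ _ _ s hq k, hk⟩

end Loci

end RichLib.Strata
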