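import Mathlib
import Groth.Agent.RichLib.PointStrata
import Groth.Agent.RichLib.FibreLociApps
import Groth.Agent.RichLib.FibreRangeFU
import Groth.Agent.RichLib.FibreRangeQF
import Groth.Agent.ConsLib.PairProper
import Groth.Agent.ChowLib.ChowAll

/-!
# Properness of fibres is constructible on the base (EGA IV 9.6.1)

Positive spreading is descent along the strata through a point. For negative spreading Chow's lemma
is applied to the fibre: properness forces a certain constructible set to be closed in the fibres.
-/

set_option autoImplicit false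
universe u

open CategoryTheory CategoryTheory.Limits AlgebraicGeometry Topology

noncomputable section

namespace RichLib.FibreLoci

open RichLib.Strata

theorem lfp_of_isLocallyNoetherian {X Y : Scheme.{u}} (f : X ⟶ Y) [LocallyOfFiniteType f]
    [IsLocallyNoetherian Y] : LocallyOfFinitePresentation f := by
  rw [HasRingHomProperty.iff_appLE (P := @LocallyOfFinitePresentation)]
  intro U V e
  haveI := IsLocallyNoetherian.component_noetherian U
  exact RingHom.FinitePresentation.of_finiteType.mp
    ((HasRingHomProperty.iff_appLE (P := @LocallyOfFiniteType)).mp ‹_› U V e)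

theorem lfp_toBase (n : ℕ) (Y : Scheme.{u}) :
    LocallyOfFinitePresentation (CohB1.ProjSpaceOver.toBase n Y) := by
  haveI : IsProper (CohB1.ProjSpace.toSpec n (ULift.{u} ℤ)) := ChowLib.isProper_toSpec n
  haveI : IsNoetherianRing (ULift.{u} ℤ) :=
    isNoetherianRing_of_ringEquiv ℤ ULift.ringEquiv.symm
  haveI : LocallyOfFinitePresentation (CohB1.ProjSpace.toSpec n (ULift.{u} ℤ)) :=
    lfp_of_isLocallyNoetherian _
  exact MorphismProperty.pullback_snd _ _ this

theorem isPullback_toBase (n : ℕ) {Y' Y : Scheme.{u}} (b : Y' ⟶ Y) :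
    ∃ bP : CohB1.ProjSpaceOver n Y' ⟶ CohB1.ProjSpaceOver n Y,
      IsPullback bP (CohB1.ProjSpaceOver.toBase n Y') (CohB1.ProjSpaceOver.toBase n Y) b := by
  refine ⟨pullback.lift (pullback.fst _ _) (CohB1.ProjSpaceOver.toBase n Y' ≫ b) ?_, ?_⟩
  · refine pullback.condition.trans ?_
    rw [Category.assoc]
    exact congrArg _ (specULiftZIsTerminal.hom_ext _ _)
  · refine IsPullback.of_right ?_ (pullback.lift_snd _ _ _) (IsPullback.of_hasPullback _ _)
    erw [pullback.lift_fst]
    rw [specULiftZIsTerminal.hom_ext (b ≫ _) (specULiftZIsTerminal.from Y')]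
    exact IsPullback.of_hasPullback _ _

/-- a closed subset of a noetherian subscheme is the trace of a constructible closed set -/
theorem exists_closed_constructible {X' X : Scheme.{u}} [CompactSpace X] [QuasiSeparatedSpace X]
    (i : X' ⟶ X) [IsPreimmersion i] [IsNoetherian X'] {K : Set X'} (hK : IsClosed K) :
    ∃ Z : Set X, IsClosed Z ∧ IsConstructible Z ∧ i.base ⁻¹' Z = K := by
  obtain ⟨O, hO, hOK⟩ := i.isEmbedding.isInducing.isOpen_iff.mp hK.isOpen_compl
  choose V hV hyV hVO using fun y : ↥(i.base ⁻¹' O) =>
    X.isBasis_affineOpens.exists_subset_of_mem_open y.2 hO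
  obtain ⟨T, hT⟩ := ((TopologicalSpace.NoetherianSpace.isCompact (i.base ⁻¹' O)).image i.continuous).elim_finite_subcover
    V (fun y => by obtain ⟨W, -, hW⟩ := hV y; rw [← hW]; exact W.2)
    (by rintro _ ⟨x, hx, rfl⟩; exact Set.mem_iUnion.mpr ⟨⟨x, hx⟩, hyV ⟨x, hx⟩⟩)
  let W : Set X := ⋃ y ∈ T, V y
  have hWo : IsOpen W := isOpen_iUnion fun y => isOpen_iUnion fun _ => by
    obtain ⟨W', -, h⟩ := hV y; rw [← h]; exact W'.2
  have hWc : IsCompact W := T.isCompact_biUnion fun y _ => by
    obtain ⟨W', hW', h⟩ := hV y; rw [← h]; exact hW'.isCompact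
  refine ⟨Wᶜ, hWo.isClosed_compl, (hWc.isConstructible hWo).compl, ?_⟩
  have h1 : i.base ⁻¹' W = i.base ⁻¹' O := by
    refine Set.Subset.antisymm (fun x hx => ?_) fun x hx => hT ⟨x, hx, rfl⟩
    obtain ⟨y, hy, hxy⟩ := Set.mem_iUnion₂.mp hx
    exact hVO y hxy
  rw [Set.preimage_compl, h1, hOK, compl_compl]

theorem image_preimage_of_isPullback {Q' Q P' P : Scheme.{u}} {a : Q' ⟶ Q} {q' : Q' ⟶ P'}
    {q : Q ⟶ P} {b : P' ⟶ P} (h : IsPullback a q' q b) (Z : Set Q) :
    q'.base '' (a.base ⁻¹' Z) = b.base ⁻¹' (q.base '' Z) := by
  ext y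
  constructor
  · rintro ⟨x, hx, rfl⟩
    exact ⟨a.base x, hx, by rw [← Scheme.Hom.comp_apply, h.w, Scheme.Hom.comp_apply]⟩
  · rintro ⟨z, hz, hzy⟩
    obtain ⟨x, hx1, hx2⟩ := Scheme.exists_preimage_of_isPullback h z y hzy
    exact ⟨x, by show a.base x ∈ Z; rw [hx1]; exact hz, hx2⟩

variable {X Y S : Scheme.{u}} (f : X ⟶ Y) (g : Y ⟶ S)

theorem mem_loc_iff (P : MorphismProperty Scheme.{u}) [P.RespectsIso] (s : S) :
    P (pullback.lift (pullback.fst (f ≫ g) (S.fromSpecResidueField s) ≫ f)
        (pullback.snd (f ≫ g) (S.fromSpecResidueField s))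
        ((Category.assoc _ _ _).trans pullback.condition) :
      pullback (f ≫ g) (S.fromSpecResidueField s) ⟶ pullback g (S.fromSpecResidueField s)) ↔
    s ∈ loc f g P :=
  iff_of_isPullback P (IsPullback.of_hasPullback _ _) (RichLib.FibreRange.isPullback_fiber f g s)

theorem isPullback_open {U : Scheme.{u}} (ι : U ⟶ S) :
    IsPullback (pullback.fst f (pullback.fst g ι)) (fib f g ι ≫ pullback.snd g ι) (f ≫ g) ι :=
  (IsPullback.of_hasPullback f (pullback.fst g ι)).paste_vert (IsPullback.of_hasPullback g ι)

/-- reduction to an affine base -/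
theorem isLocallyConstructible_loc_of_affine (P : MorphismProperty Scheme.{u})
    [P.IsStableUnderBaseChange] [LocallyOfFinitePresentation g] [QuasiCompact g] [QuasiSeparated g]
    [LocallyOfFinitePresentation (f ≫ g)] [QuasiCompact (f ≫ g)] [QuasiSeparated (f ≫ g)]
    (H : ∀ {X Y S : Scheme.{u}} [IsAffine S] (f : X ⟶ Y) (g : Y ⟶ S)
      [LocallyOfFinitePresentation g] [QuasiCompact g] [QuasiSeparated g]
      [LocallyOfFinitePresentation (f ≫ g)] [QuasiCompact (f ≫ g)] [QuasiSeparated (f ≫ g)],
      IsConstructible (loc f g P)) :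
    IsLocallyConstructible (loc f g P) := by
  refine isLocallyConstructible_of_affine _ fun U hU => ?_
  haveI : IsAffine U.toScheme := hU
  have sq := isPullback_open f g U.ι
  haveI : LocallyOfFinitePresentation (fib f g U.ι ≫ pullback.snd g U.ι) :=
    MorphismProperty.of_isPullback sq ‹_›
  haveI : QuasiCompact (fib f g U.ι ≫ pullback.snd g U.ι) := MorphismProperty.of_isPullback sq ‹_›
  haveI : QuasiSeparated (fib f g U.ι ≫ pullback.snd g U.ι) := MorphismProperty.of_isPullback sq ‹_›
  have h := H (fib f g U.ι) (pullback.snd g U.ι)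
  rw [← preimage_loc f g P U.ι] at h
  exact h

/-- the instances carried by a base change to an affine scheme -/
theorem instances_fib [LocallyOfFinitePresentation g] [QuasiCompact g] [QuasiSeparated g]
    [LocallyOfFinitePresentation (f ≫ g)] [QuasiCompact (f ≫ g)] [QuasiSeparated (f ≫ g)]
    {T : Scheme.{u}} (ι : T ⟶ S) :
    LocallyOfFinitePresentation (fib f g ι ≫ pullback.snd g ι) ∧
      QuasiCompact (fib f g ι ≫ pullback.snd g ι) ∧ QuasiSeparated (fib f g ι ≫ pullback.snd g ι) :=
  have sq := isPullback_open f g ι
  ⟨MorphismProperty.of_isPullback sq ‹_›, MorphismProperty.of_isPullback sq ‹_›,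
    MorphismProperty.of_isPullback sq ‹_›⟩

variable {f g}

/-- constructibility on a stratum gives a neighbourhood on the base -/
theorem exists_nhd_of_stratum [IsAffine S] (P : MorphismProperty Scheme.{u})
    [P.IsStableUnderBaseChange] {T : Scheme.{u}} (ι : T ⟶ S) [IsAffine T] [IsPreimmersion ι]
    [LocallyOfFinitePresentation ι] {s : S} (hs : s ∈ Set.range ι.base)
    (h : IsConstructible (loc (fib f g ι) (pullback.snd g ι) P)) :
    ∃ C : Set S, IsConstructible C ∧ s ∈ C ∧ (C ⊆ loc f g P ∨ Disjoint C (loc f g P)) := by
  rw [← preimage_loc f g P ι] at h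
  haveI : QuasiCompact ι := inferInstance
  obtain ⟨u, rfl⟩ := hs
  by_cases hu : ι.base u ∈ loc f g P
  · exact ⟨_, ι.isConstructible_image h, ⟨u, hu, rfl⟩,
      Or.inl (Set.image_preimage_subset _ _)⟩
  · refine ⟨_, ι.isConstructible_image h.compl, ⟨u, hu, rfl⟩, Or.inr ?_⟩
    rw [Set.disjoint_left]
    rintro _ ⟨v, hv, rfl⟩
    exact hv

/-- a stratum on which everything holds gives a neighbourhood -/
theorem exists_nhd_of_forall [IsAffine S] (P : MorphismProperty Scheme.{u})
    [P.IsStableUnderBaseChange]
    (H : ∀ {J : Type u} [SmallCategory J] [IsCofiltered J] (B : RichLib.LimBC.Sys J Y),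
      RichLib.LimBC.AtLim B f P → ∃ j, RichLib.LimBC.At B f P j)
    {s : S} (hs : s ∈ loc f g P) :
    ∃ C : Set S, IsConstructible C ∧ s ∈ C ∧ (C ⊆ loc f g P ∨ Disjoint C (loc f g P)) := by
  obtain ⟨T, ι, _, _, _, hsι, hP⟩ := exists_stratum f g P H hs
  haveI : QuasiCompact ι := inferInstance
  refine ⟨Set.range ι.base, ?_, hsι, Or.inl ?_⟩
  · rw [← Set.image_univ]; exact ι.isConstructible_image IsConstructible.univ
  · rintro _ ⟨u, rfl⟩
    show u ∈ ι.base ⁻¹' loc f g P
    rw [preimage_loc f g P ι]
    exact MorphismProperty.pullback_snd _ _ hP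

variable [IsAffine S] [LocallyOfFinitePresentation g] [QuasiCompact g] [QuasiSeparated g]
  [LocallyOfFinitePresentation (f ≫ g)] [QuasiCompact (f ≫ g)] [QuasiSeparated (f ≫ g)]

theorem isConstructible_loc_separated : IsConstructible (loc f g @IsSeparated) := by
  have h := (isLocallyConstructible_separated f g).isConstructible
  convert h using 1
  ext s
  exact (mem_loc_iff f g @IsSeparated s).symm

/-- properness of the fibres forces a constructible set to be closed in the fibres -/
theorem exists_nhd_of_not_proper {s : S} (hsep : s ∈ loc f g @IsSeparated)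
    (hs : s ∉ loc f g @IsProper) :
    ∃ C : Set S, IsConstructible C ∧ s ∈ C ∧ Disjoint C (loc f g @IsProper) := by
  haveI : LocallyOfFinitePresentation f := Groth.Agent.S12442.result f g
  haveI : QuasiCompact f := .of_comp f g
  haveI : QuasiSeparated f := .of_comp f g
  haveI : CompactSpace Y := QuasiCompact.compactSpace_of_compactSpace g
  haveI : QuasiSeparatedSpace Y := quasiSeparatedSpace_of_quasiSeparated g
  -- Chow's lemma in the fibre
  let a := pullback.fst g (S.fromSpecResidueField s)
  let fs := fib f g (S.fromSpecResidueField s)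
  haveI : IsSeparated fs := hsep
  haveI : CompactSpace ↥(pullback g (S.fromSpecResidueField s)) :=
    QuasiCompact.compactSpace_of_compactSpace (pullback.snd g (S.fromSpecResidueField s))
  haveI : QuasiSeparatedSpace ↥(pullback g (S.fromSpecResidueField s)) :=
    quasiSeparatedSpace_of_quasiSeparated (pullback.snd g (S.fromSpecResidueField s))
  haveI : CompactSpace ↥(pullback f a) := QuasiCompact.compactSpace_of_compactSpace fs
  haveI : QuasiSeparatedSpace ↥(pullback f a) := quasiSeparatedSpace_of_quasiSeparated fs
  obtain ⟨n, X', π, j, hj, hjb, hπ, hπs, -⟩ := ChowLib.chow_all fs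
  obtain ⟨aP, haP⟩ := isPullback_toBase n a
  let p := CohB1.ProjSpaceOver.toBase n Y
  haveI := lfp_toBase n Y
  haveI : IsProper p := inferInstanceAs (IsProper (pullback.snd _ _))
  let q := pullback.snd f p
  let p' := CohB1.ProjSpaceOver.toBase n (pullback g (S.fromSpecResidueField s))
  haveI : IsProper p' := inferInstanceAs (IsProper (pullback.snd _ _))
  let qs := pullback.snd fs p'
  let aQ : pullback fs p' ⟶ pullback f p :=
    pullback.lift (pullback.fst fs p' ≫ pullback.fst f a) (qs ≫ aP) (by
      rw [Category.assoc, pullback.condition, ← Category.assoc, pullback.condition, Category.assoc,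
        Category.assoc, haP.w])
  have sqQ : IsPullback aQ qs q aP := by
    refine IsPullback.of_right ?_ (pullback.lift_snd _ _ _) (IsPullback.of_hasPullback f p).flip.flip
    rw [pullback.lift_fst, haP.w]
    exact (IsPullback.of_hasPullback fs p').paste_horiz (IsPullback.of_hasPullback f a)
  -- the fibre of the projective space
  let k := p ≫ g
  have sqk : IsPullback aP (p' ≫ pullback.snd g (S.fromSpecResidueField s)) k
      (S.fromSpecResidueField s) := haP.paste_vert (IsPullback.of_hasPullback g _)
  haveI : IsPreimmersion aP := MorphismProperty.of_isPullback (P := @IsPreimmersion) sqk.flip inferInstance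
  haveI : IsPreimmersion aQ := MorphismProperty.of_isPullback (P := @IsPreimmersion) sqQ.flip inferInstance
  haveI : CompactSpace ↥(pullback f p) := by
    haveI : CompactSpace ↥(CohB1.ProjSpaceOver n Y) := QuasiCompact.compactSpace_of_compactSpace p
    exact QuasiCompact.compactSpace_of_compactSpace q
  haveI : QuasiSeparatedSpace ↥(pullback f p) := by
    haveI : QuasiSeparatedSpace ↥(CohB1.ProjSpaceOver n Y) := quasiSeparatedSpace_of_quasiSeparated p
    exact quasiSeparatedSpace_of_quasiSeparated q
  haveI : IsNoetherian (pullback fs p') := by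
    haveI : LocallyOfFiniteType (qs ≫ p' ≫ pullback.snd g (S.fromSpecResidueField s)) := inferInstance
    haveI := LocallyOfFiniteType.isLocallyNoetherian (qs ≫ p' ≫ pullback.snd g (S.fromSpecResidueField s))
    haveI : CompactSpace ↥(pullback fs p') :=
      QuasiCompact.compactSpace_of_compactSpace (pullback.fst fs p')
    exact {}
  -- the graph of `j`
  let e : X' ⟶ pullback fs p' := pullback.lift π j hjb.symm
  haveI : IsProper π := hπ
  haveI : IsProper e := by
    haveI : IsProper (e ≫ pullback.fst fs p') := by rw [pullback.lift_fst]; exact hπ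
    exact IsProper.of_comp e (pullback.fst fs p')
  obtain ⟨Z, hZ, hZc, hZK⟩ := exists_closed_constructible aQ (e.isClosedMap.isClosed_range)
  have hR : IsLocallyConstructible (q.base '' Z) := q.isLocallyConstructible_image hZc.isLocallyConstructible
  let D : Set S := {t | IsClosed (Subtype.val ⁻¹' (q.base '' Z) : Set ↥(k.base ⁻¹' {t}))}
  have hD : IsLocallyConstructible D := (isLocallyConstructible_fibreLoci k hR).1
  have hsub : loc f g @IsProper ⊆ D := by
    intro t ht
    let b := pullback.fst g (S.fromSpecResidueField t)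
    obtain ⟨bP, hbP⟩ := isPullback_toBase n b
    let pt := CohB1.ProjSpaceOver.toBase n (pullback g (S.fromSpecResidueField t))
    let ft := fib f g (S.fromSpecResidueField t)
    let bQ : pullback ft pt ⟶ pullback f p :=
      pullback.lift (pullback.fst ft pt ≫ pullback.fst f b) (pullback.snd ft pt ≫ bP) (by
        rw [Category.assoc, pullback.condition, ← Category.assoc, pullback.condition, Category.assoc,
          Category.assoc, hbP.w])
    have sqt : IsPullback bQ (pullback.snd ft pt) q bP := by
      refine IsPullback.of_right ?_ (pullback.lift_snd _ _ _) (IsPullback.of_hasPullback f p)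
      rw [pullback.lift_fst, hbP.w]
      exact (IsPullback.of_hasPullback ft pt).paste_horiz (IsPullback.of_hasPullback f b)
    have sqkt : IsPullback bP (pt ≫ pullback.snd g (S.fromSpecResidueField t)) k
        (S.fromSpecResidueField t) := hbP.paste_vert (IsPullback.of_hasPullback g _)
    haveI : IsPreimmersion bP := MorphismProperty.of_isPullback (P := @IsPreimmersion) sqkt.flip inferInstance
    haveI : IsProper ft := ht
    show IsClosed _
    rw [← isClosed_preimage_iff_trace bP.base bP.isEmbedding _ _ (range_of_isPullback_fromSpec sqkt),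
      ← image_preimage_of_isPullback sqt]
    exact (pullback.snd ft pt).isClosedMap _ (hZ.preimage bQ.continuous)
  refine ⟨Dᶜ, hD.isConstructible.compl, fun hsD => hs ?_, Set.disjoint_left.mpr fun t ht ht' => ht (hsub ht')⟩
  have hc : IsClosed (qs.base '' (aQ.base ⁻¹' Z)) := by
    rw [image_preimage_of_isPullback sqQ, isClosed_preimage_iff_trace aP.base aP.isEmbedding _ _
      (range_of_isPullback_fromSpec sqk)]
    exact hsD
  have hje : e ≫ qs = j := pullback.lift_snd _ _ _
  haveI : IsClosedImmersion j := by
    haveI := hj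
    refine IsClosedImmersion.of_isPreimmersion _ ?_
    rw [← hje, Scheme.Hom.comp_base, TopCat.coe_comp, Set.range_comp, ← hZK]
    exact hc
  haveI : IsProper (π ≫ fs) := by rw [← hjb]; infer_instance
  haveI : UniversallyClosed fs := UniversallyClosed.of_comp_surjective π fs
  show IsProper fs
  exact { }
where
  range_of_isPullback_fromSpec {W W' : Scheme.{u}} {k : W ⟶ S} {t : S} {b : W' ⟶ W}
      {v : W' ⟶ Spec (S.residueField t)} (h : IsPullback b v k (S.fromSpecResidueField t)) :
      Set.range b.base = k.base ⁻¹' {t} := by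
    rw [← range_fst_fromSpec k t, ← h.isoPullback_hom_fst]
    simp only [Scheme.Hom.comp_base, TopCat.coe_comp, Set.range_comp]
    rw [Set.range_eq_univ.mpr h.isoPullback.hom.surjective, Set.image_univ]

variable (f g)

theorem isConstructible_loc_proper : IsConstructible (loc f g @IsProper) := by
  haveI : LocallyOfFinitePresentation f := Groth.Agent.S12442.result f g
  haveI : QuasiCompact f := .of_comp f g
  haveI : QuasiSeparated f := .of_comp f g
  haveI : CompactSpace Y := QuasiCompact.compactSpace_of_compactSpace g
  haveI : QuasiSeparatedSpace Y := quasiSeparatedSpace_of_quasiSeparated g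
  refine isConstructible_of_forall_nhd _ fun s => ?_
  by_cases hs : s ∈ loc f g @IsProper
  · exact exists_nhd_of_forall @IsProper (fun B hB => ConsLib.exists_at_isProper B f hB) hs
  by_cases hsep : s ∈ loc f g @IsSeparated
  · obtain ⟨C, hC, hsC, hd⟩ := exists_nhd_of_not_proper hsep hs
    exact ⟨C, hC, hsC, Or.inr hd⟩
  · exact ⟨_, isConstructible_loc_separated.compl, hsep, Or.inr (Set.disjoint_left.mpr fun t ht ht' =>
      ht (show IsSeparated (fib f g (S.fromSpecResidueField t)) by
        haveI : IsProper (fib f g (S.fromSpecResidueField t)) := ht'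
        infer_instance))⟩

theorem isConstructible_loc_mono : IsConstructible (loc f g (MorphismProperty.monomorphisms Scheme.{u})) := by
  haveI : LocallyOfFinitePresentation f := Groth.Agent.S12442.result f g
  have h := (RichLib.FibreRange.isLocallyConstructible_badMono f g).isConstructible.compl
  rw [← RichLib.FibreRange.setOf_preimage_fromSpec] at h
  convert h using 1
  ext s
  exact (RichLib.FibreRange.mono_iff (IsPullback.of_hasPullback g (S.fromSpecResidueField s))
    (IsPullback.of_hasPullback f (pullback.fst g (S.fromSpecResidueField s))))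

theorem isConstructible_loc_closedImmersion : IsConstructible (loc f g @IsClosedImmersion) := by
  convert (isConstructible_loc_proper f g).inter (isConstructible_loc_mono f g) using 1
  ext s
  exact IsClosedImmersion.iff_isProper_and_mono _

theorem isConstructible_loc_finite : IsConstructible (loc f g @IsFinite) := by
  haveI : LocallyOfFinitePresentation f := Groth.Agent.S12442.result f g
  have h := (RichLib.FibreRange.isLocallyConstructible_badLQF f g).isConstructible.compl
  rw [← RichLib.FibreRange.setOf_preimage_fromSpec] at h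
  convert (isConstructible_loc_proper f g).inter h using 1
  ext s
  exact (IsFinite.iff_isProper_and_locallyQuasiFinite (fib f g (S.fromSpecResidueField s))).trans
    (and_congr_right fun _ => RichLib.FibreRange.locallyQuasiFinite_iff
      (IsPullback.of_hasPullback g (S.fromSpecResidueField s))
      (IsPullback.of_hasPullback f (pullback.fst g (S.fromSpecResidueField s))))

end RichLib.FibreLoci
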