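import Mathlib

/-! Sections over an affine open of a stage and of the limit; tensor products over a filtered union of rings. -/

set_option autoImplicit false
universe u

open CategoryTheory CategoryTheory.Limits AlgebraicGeometry TensorProduct

namespace RichLib.LimSec

variable {I : Type u} [SmallCategory I] [IsCofiltered I] (D : I ⥤ Scheme.{u}) (c : Cone D)
  [∀ {i j : I} (f : i ⟶ j), IsAffineHom (D.map f)]

theorem le_preimage {i : I} (U : (D.obj i).Opens) {j : I} (a : j ⟶ i) :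
    c.π.app i ⁻¹ᵁ U ≤ c.π.app j ⁻¹ᵁ (D.map a ⁻¹ᵁ U) := by
  rw [← Scheme.Hom.comp_preimage, c.w]

theorem le_preimage_map {i : I} (U : (D.obj i).Opens) {j k : I} (a : j ⟶ i) (b : k ⟶ j) :
    D.map (b ≫ a) ⁻¹ᵁ U ≤ D.map b ⁻¹ᵁ (D.map a ⁻¹ᵁ U) := by
  rw [Functor.map_comp, Scheme.Hom.comp_preimage]

/-- A section on the limit comes from a stage. -/
theorem exists_app_π_eq (hc : IsLimit c) {i : I} {U : (D.obj i).Opens} (hU : IsAffineOpen U)
    (s : Γ(c.pt, c.π.app i ⁻¹ᵁ U)) :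
    ∃ (j : I) (a : j ⟶ i) (t : Γ(D.obj j, D.map a ⁻¹ᵁ U)),
      (c.π.app j).appLE (D.map a ⁻¹ᵁ U) (c.π.app i ⁻¹ᵁ U) (le_preimage D c U a) t = s := by
  haveI hA : ∀ j : Over i, IsAffine ((opensDiagram D i U).obj j) := fun j => hU.preimage (D.map j.hom)
  haveI : ∀ j : Over i, CompactSpace ↥((opensDiagram D i U).obj j) := fun j => inferInstance
  haveI : ∀ j : Over i, QuasiSeparatedSpace ↥((opensDiagram D i U).obj j) := fun j => inferInstance
  obtain ⟨j, t, ht⟩ := exists_appTop_π_eq_of_isLimit (opensDiagram D i U) (opensCone D c i U)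
    (isLimitOpensCone D c hc i U) ((c.π.app i ⁻¹ᵁ U).topIso.inv s)
  refine ⟨j.left, j.hom, (D.map j.hom ⁻¹ᵁ U).topIso.hom t, ?_⟩
  have h2 := congrArg ((c.π.app i ⁻¹ᵁ U).topIso.hom) ht
  rw [Iso.inv_hom_id_apply] at h2
  refine Eq.trans ?_ h2.symm
  show _ = (c.π.app i ⁻¹ᵁ U).topIso.hom (((c.π.app j.left).resLE (D.map j.hom ⁻¹ᵁ U) (c.π.app i ⁻¹ᵁ U)
    (le_preimage D c U j.hom)).app ⊤ t)
  rw [Scheme.Hom.resLE_app_top]
  exact (Iso.inv_hom_id_apply _ _).symm

/-- A finite set of sections on the limit comes from a stage. -/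
theorem exists_app_π_eq_finset (hc : IsLimit c) {i : I} {U : (D.obj i).Opens} (hU : IsAffineOpen U)
    (S : Finset Γ(c.pt, c.π.app i ⁻¹ᵁ U)) :
    ∃ (j : I) (a : j ⟶ i), ∀ s ∈ S, ∃ t : Γ(D.obj j, D.map a ⁻¹ᵁ U),
      (c.π.app j).appLE (D.map a ⁻¹ᵁ U) (c.π.app i ⁻¹ᵁ U) (le_preimage D c U a) t = s := by
  classical
  induction S using Finset.induction_on with
  | empty => exact ⟨i, 𝟙 i, by simp⟩
  | insert s S _ ih =>
    obtain ⟨j, a, hj⟩ := ih
    obtain ⟨k, b, t, ht⟩ := exists_app_π_eq D c hc hU s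
    obtain ⟨l, la, lb, hl⟩ := IsCofiltered.cospan a b
    refine ⟨l, la ≫ a, fun r hr => ?_⟩
    rcases Finset.mem_insert.mp hr with rfl | hr
    · refine ⟨(D.map lb).appLE (D.map b ⁻¹ᵁ U) (D.map (la ≫ a) ⁻¹ᵁ U)
        (by rw [hl]; exact le_preimage_map D U b lb) t, ?_⟩
      rw [← ht, ← CommRingCat.comp_apply, Scheme.Hom.appLE_comp_appLE]
      simp only [c.w]
    · obtain ⟨t', ht'⟩ := hj r hr
      refine ⟨(D.map la).appLE (D.map a ⁻¹ᵁ U) (D.map (la ≫ a) ⁻¹ᵁ U) (le_preimage_map D U a la) t', ?_⟩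
      rw [← ht', ← CommRingCat.comp_apply, Scheme.Hom.appLE_comp_appLE]
      simp only [c.w]

/-- Finitely many sections vanishing on the limit vanish at a stage. -/
theorem exists_app_map_eq_zero_finset (hc : IsLimit c) {i : I} {U : (D.obj i).Opens} (hU : IsAffineOpen U)
    {j : I} (a : j ⟶ i) (S : Finset Γ(D.obj j, D.map a ⁻¹ᵁ U))
    (hS : ∀ s ∈ S, (c.π.app j).appLE (D.map a ⁻¹ᵁ U) (c.π.app i ⁻¹ᵁ U) (le_preimage D c U a) s = 0) :
    ∃ (k : I) (b : k ⟶ j), ∀ s ∈ S,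
      (D.map b).appLE (D.map a ⁻¹ᵁ U) (D.map (b ≫ a) ⁻¹ᵁ U) (le_preimage_map D U a b) s = 0 := by
  classical
  induction S using Finset.induction_on with
  | empty => exact ⟨j, 𝟙 j, by simp⟩
  | insert s S _ ih =>
    obtain ⟨k, b, hk⟩ := ih fun r hr => hS r (Finset.mem_insert_of_mem hr)
    have e : c.π.app j ⁻¹ᵁ (D.map a ⁻¹ᵁ U) = c.π.app i ⁻¹ᵁ U := by rw [← Scheme.Hom.comp_preimage, c.w]
    obtain ⟨k', b', hk'⟩ := exists_app_map_eq_zero_of_isLimit D c hc
      (hU.preimage (D.map a)).isCompact s (by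
        have h0 := hS s (Finset.mem_insert_self s S)
        rw [Scheme.Hom.app_eq_appLE]
        rw [show (c.π.app j).appLE (D.map a ⁻¹ᵁ U) (c.π.app j ⁻¹ᵁ (D.map a ⁻¹ᵁ U)) le_rfl =
          (c.π.app j).appLE (D.map a ⁻¹ᵁ U) (c.π.app i ⁻¹ᵁ U) (le_preimage D c U a) ≫
            c.pt.presheaf.map (homOfLE e.le).op from (Scheme.Hom.appLE_map _ _ _).symm,
          CommRingCat.comp_apply, h0, map_zero])
    obtain ⟨l, lb, lb', hl⟩ := IsCofiltered.cospan b b'
    refine ⟨l, lb ≫ b, fun r hr => ?_⟩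
    rcases Finset.mem_insert.mp hr with rfl | hr
    · have h1 := congrArg ((D.map lb').appLE (D.map b' ⁻¹ᵁ (D.map a ⁻¹ᵁ U)) (D.map ((lb ≫ b) ≫ a) ⁻¹ᵁ U)
        (by rw [hl, Category.assoc, Functor.map_comp, Scheme.Hom.comp_preimage, Functor.map_comp,
          Scheme.Hom.comp_preimage])) hk'
      rw [map_zero, Scheme.Hom.app_eq_appLE, ← CommRingCat.comp_apply, Scheme.Hom.appLE_comp_appLE] at h1
      simp only [← Functor.map_comp, ← hl] at h1
      exact h1
    · have h1 := congrArg ((D.map lb).appLE (D.map (b ≫ a) ⁻¹ᵁ U) (D.map ((lb ≫ b) ≫ a) ⁻¹ᵁ U)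
        (by rw [Category.assoc]; exact le_preimage_map D U (b ≫ a) lb)) (hk r hr)
      rw [map_zero, ← CommRingCat.comp_apply, Scheme.Hom.appLE_comp_appLE] at h1
      simp only [← Functor.map_comp] at h1
      exact h1

/-- A vanishing relation in a base change of a finitely presented module holds at a stage. -/
theorem exists_stage_smul_tmul_eq_zero {R M L : Type u} [CommRing R] [AddCommGroup M] [Module R M]
    [Module.FinitePresentation R M] [CommRing L] [Algebra R L] {κ : Type u} (S : κ → Type u)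
    [∀ j, CommRing (S j)] [∀ j, Algebra R (S j)] (φ : ∀ j, S j →ₐ[R] L)
    (hsurj : ∀ F : Finset L, ∃ j, ∀ a ∈ F, ∃ b, φ j b = a)
    (hinj : ∀ j (F : Finset (S j)), (∀ b ∈ F, φ j b = 0) →
      ∃ (j' : κ) (ψ : S j →ₐ[R] S j'), (∀ b, φ j' (ψ b) = φ j b) ∧ ∀ b ∈ F, ψ b = 0)
    (t : L) (m : M) (h : t ⊗ₜ[R] m = 0) : ∃ (j : κ) (b : S j), φ j b = t ∧ b ⊗ₜ[R] m = 0 := by
  classical
  obtain ⟨n, p, hp⟩ := Module.Finite.exists_fin' R M
  obtain ⟨T, hT⟩ := Module.FinitePresentation.fg_ker p hp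
  have hex : ∀ (Q : Type u) [AddCommGroup Q] [Module R Q],
      Function.Exact ((LinearMap.ker p).subtype.lTensor Q) (p.lTensor Q) := fun Q _ _ =>
    lTensor_exact Q (LinearMap.exact_subtype_ker_map p) hp
  obtain ⟨v, rfl⟩ := hp m
  obtain ⟨w, hw⟩ := (hex L _).mp (show p.lTensor L (t ⊗ₜ[R] v) = 0 by rw [LinearMap.lTensor_tmul]; exact h)
  have hspan : ∀ w : L ⊗[R] LinearMap.ker p, ∃ c : T → L,
      (LinearMap.ker p).subtype.lTensor L w = ∑ r : T, c r ⊗ₜ[R] (r : Fin n → R) := fun w => by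
    induction w using TensorProduct.induction_on with
    | zero => exact ⟨0, by simp⟩
    | add a b ha hb =>
      obtain ⟨ca, hca⟩ := ha
      obtain ⟨cb, hcb⟩ := hb
      exact ⟨ca + cb, by simp [map_add, hca, hcb, add_tmul, Finset.sum_add_distrib]⟩
    | tmul a k =>
      obtain ⟨c, hc⟩ := Submodule.mem_span_finset.mp (hT.ge k.2 : (k : Fin n → R) ∈ Submodule.span R (T : Set _))
      refine ⟨fun r => c r • a, ?_⟩
      rw [LinearMap.lTensor_tmul, Submodule.subtype_apply, ← hc.2, tmul_sum,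
        ← Finset.sum_coe_sort T (fun r => a ⊗ₜ[R] (c r • r))]
      exact Finset.sum_congr rfl fun r _ => by rw [tmul_smul, smul_tmul']
  obtain ⟨c, hc⟩ := hspan w
  have heq : t ⊗ₜ[R] v = ∑ r : T, c r ⊗ₜ[R] (r : Fin n → R) := hw.symm.trans hc
  obtain ⟨j, hj⟩ := hsurj (insert t (Finset.univ.image c))
  obtain ⟨b, hb⟩ := hj t (Finset.mem_insert_self _ _)
  choose d hd using fun r : T => hj (c r) (Finset.mem_insert_of_mem (Finset.mem_image_of_mem c (Finset.mem_univ r)))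
  let δ : Fin n → S j := fun l => v l • b - ∑ r : T, (r : Fin n → R) l • d r
  obtain ⟨j', ψ, hψ, hψ0⟩ := hinj j (Finset.univ.image δ) fun e he => by
    obtain ⟨l, -, rfl⟩ := Finset.mem_image.mp he
    have h1 := congrFun (congrArg (TensorProduct.piScalarRight R R L (Fin n)) heq) l
    simp only [map_sum, TensorProduct.piScalarRight_apply, TensorProduct.piScalarRightHom_tmul,
      Finset.sum_apply] at h1
    simp only [δ, map_sub, map_smul, map_sum, hb, hd]
    rw [sub_eq_zero]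
    exact h1
  refine ⟨j', ψ b, (hψ b).trans hb, ?_⟩
  have h2 : ψ b ⊗ₜ[R] v = ∑ r : T, ψ (d r) ⊗ₜ[R] (r : Fin n → R) := by
    refine (TensorProduct.piScalarRight R R (S j') (Fin n)).injective (funext fun l => ?_)
    simp only [map_sum, TensorProduct.piScalarRight_apply, TensorProduct.piScalarRightHom_tmul,
      Finset.sum_apply]
    have h3 := hψ0 (δ l) (Finset.mem_image_of_mem δ (Finset.mem_univ l))
    simp only [δ, map_sub, map_smul, map_sum, sub_eq_zero] at h3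
    exact h3
  have h4 := congrArg (p.lTensor (S j')) h2
  rw [LinearMap.lTensor_tmul, map_sum] at h4
  rw [h4]
  refine Finset.sum_eq_zero fun r _ => ?_
  rw [LinearMap.lTensor_tmul, show p (r : Fin n → R) = 0 from
    LinearMap.mem_ker.mp (hT.le (Submodule.subset_span r.2)), tmul_zero]

end RichLib.LimSec
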