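import Groth.Agent.FlatLib.PullbackInjective
import Groth.Agent.RichLib.LimitSections
import Groth.Agent.RichLib.LimitBaseChange
import Groth.Agent.RichLib.FlatSyzygy
import Groth.Agent.RichLib.FlatLociOpen
import Groth.Agent.S4851

/-! Injectivity of a map of modules with flat cokernel, under base change and along limits. -/

set_option autoImplicit false
universe u

open CategoryTheory CategoryTheory.Limits AlgebraicGeometry TensorProduct TopologicalSpace

namespace RichLib.InjStage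

open FlatLib

theorem isFP_cokernel {X : Scheme.{u}} {F G : X.Modules} [Coh.IsQCoh F] [Coh.IsQCoh G] (hF : CohB1.IsFP F)
    (hG : CohB1.IsFP G) (w : F ⟶ G) : CohB1.IsFP (cokernel w) := by
  haveI : Coh.IsQCoh (cokernel w) := QCohLib.isQCoh_cokernel w
  refine RichLib.IsFPAffine.isFP_of_finitePresentation _ fun x => ?_
  obtain ⟨V, hV, -, hxV, hfF, hfG⟩ :=
    RichLib.IsFPAffine.exists_finitePresentation_two hF hG (x := x) (U := ⊤) trivial
  refine ⟨V, hV, hxV, Module.finitePresentation_of_surjective (QCohLib.appLin (cokernel.π w) V)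
    (RichLib.IsFPAffine.appLin_surjective (cokernel.π w) hV) ?_⟩
  rw [RichLib.IsFPAffine.ker_appLin_cokernel_π w hV, ← Submodule.map_top]
  exact (Module.Finite.fg_top).map _

variable {P P' T T' : Scheme.{u}} {m : P' ⟶ P} {f' : P' ⟶ T'} {f : P ⟶ T} {h : T' ⟶ T}
  {F G : P.Modules} [Coh.IsQCoh F] [Coh.IsQCoh G] (w : F ⟶ G)

set_option maxHeartbeats 800000 in
/-- Over a chart on which the cokernel is flat, base change creates kernel only from kernel. -/
theorem ker_baseChange_chart (sq : IsPullback m f' f h) [IsAffineHom h] {U : T.Opens} (hU : IsAffineOpen U)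
    {V : P.Opens} (hV : IsAffineOpen V) (hVU : V ≤ f ⁻¹ᵁ U)
    (hflat : ∀ z ∈ V, FlatMod.IsFlatOverAt f (cokernel w) z) {S : Set Γ(F, V)}
    (hS : LinearMap.ker (QCohLib.appLin w V) ≤ Submodule.span Γ(P, V) S)
    {V' : P'.Opens} (hV' : V' = m ⁻¹ᵁ V) (hle : V' ≤ m ⁻¹ᵁ V) :
    letI := (m.appLE V V' hle).hom.toAlgebra
    LinearMap.ker ((QCohLib.appLin w V).baseChange Γ(P', V')) ≤
      Submodule.span Γ(P', V') ((fun k => (1 : Γ(P', V')) ⊗ₜ[Γ(P, V)] k) '' S) := by
  subst hV'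
  haveI : Coh.IsQCoh (cokernel w) := QCohLib.isQCoh_cokernel w
  let U' := h ⁻¹ᵁ U
  have hU' : IsAffineOpen U' := hU.preimage h
  have hVU' : m ⁻¹ᵁ V ≤ f' ⁻¹ᵁ U' := by
    rw [← Scheme.Hom.comp_preimage, ← sq.w, Scheme.Hom.comp_preimage]
    exact Scheme.Hom.preimage_mono m hVU
  letI : Algebra Γ(T, U) Γ(T', U') := (h.appLE U U' le_rfl).hom.toAlgebra
  letI : Algebra Γ(T, U) Γ(P, V) := (f.appLE U V hVU).hom.toAlgebra
  letI : Algebra Γ(P, V) Γ(P', m ⁻¹ᵁ V) := (m.appLE V (m ⁻¹ᵁ V) hle).hom.toAlgebra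
  letI : Algebra Γ(T', U') Γ(P', m ⁻¹ᵁ V) := (f'.appLE U' (m ⁻¹ᵁ V) hVU').hom.toAlgebra
  letI : Algebra Γ(T, U) Γ(P', m ⁻¹ᵁ V) :=
    ((m.appLE V (m ⁻¹ᵁ V) hle).hom.comp (f.appLE U V hVU).hom).toAlgebra
  haveI : IsScalarTower Γ(T, U) Γ(P, V) Γ(P', m ⁻¹ᵁ V) := IsScalarTower.of_algebraMap_eq fun _ => rfl
  haveI : IsScalarTower Γ(T, U) Γ(T', U') Γ(P', m ⁻¹ᵁ V) := IsScalarTower.of_algebraMap_eq fun r => by
    show (f.appLE U V hVU ≫ m.appLE V (m ⁻¹ᵁ V) hle) r = (h.appLE U U' le_rfl ≫ f'.appLE U' (m ⁻¹ᵁ V) hVU') r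
    simp only [Scheme.Hom.appLE_comp_appLE, sq.w]
  haveI : Algebra.IsPushout Γ(T, U) Γ(T', U') Γ(P, V) Γ(P', m ⁻¹ᵁ V) := by
    have hUY : m ⁻¹ᵁ V = m ⁻¹ᵁ V ⊓ f' ⁻¹ᵁ U' := (inf_eq_left.mpr hVU').symm
    have hp := (isIso_pushoutSection_iff sq le_rfl hVU hUY).mp
      (isIso_pushoutSection_of_isAffineOpen sq le_rfl hVU hUY hU hU' hV)
    exact CommRingCat.isPushout_iff_isPushout.mp hp.flip
  letI : Module Γ(T, U) Γ(cokernel w, V) := Module.compHom Γ(cokernel w, V) (f.appLE U V hVU).hom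
  haveI : IsScalarTower Γ(T, U) Γ(P, V) Γ(cokernel w, V) := IsScalarTower.of_algebraMap_smul fun _ _ => rfl
  letI : Module Γ(T, U) Γ(G, V) := Module.compHom Γ(G, V) (f.appLE U V hVU).hom
  haveI : IsScalarTower Γ(T, U) Γ(P, V) Γ(G, V) := IsScalarTower.of_algebraMap_smul fun _ _ => rfl
  haveI : Module.Flat Γ(T, U) Γ(cokernel w, V) :=
    RichLib.IsFPAffine.flat_sections f (cokernel w) hU hV hVU rfl hflat
  exact ker_baseChange_le_span (A := Γ(T, U)) (A' := Γ(T', U')) (QCohLib.appLin w V)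
    (QCohLib.appLin (cokernel.π w) V) (RichLib.IsFPAffine.appLin_surjective (cokernel.π w) hV)
    (RichLib.IsFPAffine.ker_appLin_cokernel_π w hV) hS

/-- A stalkwise injective map with flat cokernel stays injective after base change. -/
theorem stalkInj_pullback_of_flat_coker (sq : IsPullback m f' f h) [IsAffineHom h] [LocallyOfFinitePresentation f]
    (hF : CohB1.IsFP F) (hG : CohB1.IsFP G) (x' : P') (hinj : StalkInj w (m x'))
    (hflat : FlatMod.IsFlatOverAt f (cokernel w) (m x')) :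
    StalkInj ((Scheme.Modules.pullback m).map w) x' := by
  haveI : IsAffineHom m := MorphismProperty.of_isPullback (P := @IsAffineHom) sq.flip inferInstance
  let W : P.Opens := ⟨_, Groth.Agent.S4851.result f G F hG hF w⟩
  obtain ⟨U, hU, hxU⟩ := QCohLib.exists_affine_nhd (f (m x'))
  obtain ⟨V, hV, hxV, hVW⟩ : ∃ V : P.Opens, IsAffineOpen V ∧ m x' ∈ V ∧ V ≤ f ⁻¹ᵁ U ⊓ W :=
    Opens.isBasis_iff_nbhd.mp P.isBasis_affineOpens (U := f ⁻¹ᵁ U ⊓ W) (x := m x') ⟨hxU, hinj, hflat⟩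
  have hinjV := appLin_injective_of_stalkInj w hV fun z hz => (hVW hz).2.1
  refine (stalkInj_pullback_iff m w hV (hV.preimage m) le_rfl (y := x') hxV).mpr fun z hz => ?_
  letI := (m.appLE V (m ⁻¹ᵁ V) le_rfl).hom.toAlgebra
  have hz' := ker_baseChange_chart w sq hU hV (hVW.trans inf_le_left) (fun z hz => (hVW hz).2.2) (S := ∅)
    (by rw [LinearMap.ker_eq_bot.mpr hinjV]; exact bot_le) rfl le_rfl (LinearMap.mem_ker.mpr hz)
  rw [Set.image_empty, Submodule.span_empty, Submodule.mem_bot] at hz'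
  exact ⟨1, fun h1 => ((hV.preimage m).primeIdealOf ⟨x', hxV⟩).isPrime.ne_top
    ((Ideal.eq_top_iff_one _).mpr h1), by rw [hz', smul_zero]⟩

section Limit

open RichLib.LimBC RichLib.LimSec

variable {I : Type u} [SmallCategory I] [IsCofiltered I] {Y : Scheme.{u}} (B : RichLib.LimBC.Sys I Y)
  {X : Scheme.{u}} (g : X ⟶ Y)

set_option maxHeartbeats 1600000 in
/-- Injectivity at a point of the limit holds at a stage, the cokernel being flat at a stage. -/
theorem exists_stalkInj_stage [LocallyOfFinitePresentation g] (i : I) {F G : (pullback g (B.t i)).Modules}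
    [Coh.IsQCoh F] [Coh.IsQCoh G] (hF : CohB1.IsFP F) (hG : CohB1.IsFP G) (w : F ⟶ G)
    (x : ↥(pullback g B.s))
    (hflat : FlatMod.IsFlatOverAt (pullback.snd g (B.t i)) (cokernel w) (pbπ B g i x))
    (hinj : StalkInj ((Scheme.Modules.pullback (pbπ B g i)).map w) x) :
    ∃ (j : I) (a : j ⟶ i), StalkInj ((Scheme.Modules.pullback (pbMap B g a)).map w) (pbπ B g j x) := by
  classical
  let PS := pb B g
  haveI : ∀ {a b : I} (φ : a ⟶ b), IsAffineHom (PS.D.map φ) := fun φ => PS.affine_map φ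
  haveI : ∀ j, IsAffineHom (B.t j) := B.affine
  haveI : ∀ {a b : I} (φ : a ⟶ b), IsAffineHom (B.D.map φ) := fun φ => B.affine_map φ
  haveI : IsAffineHom (B.c.π.app i) := isAffineHom_π_app B.D B.c B.hc i
  have hfp : LocallyOfFinitePresentation (pullback.snd g (B.t i)) := inferInstance
  haveI : Coh.IsQCoh (cokernel w) := QCohLib.isQCoh_cokernel w
  let O : (pullback g (B.t i)).Opens :=
    ⟨_, RichLib.FlatLoci.isOpen_setOf_isFlatOverAt (pullback.snd g (B.t i)) (cokernel w) (isFP_cokernel hF hG w)⟩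
  obtain ⟨U, hU, hxU⟩ := QCohLib.exists_affine_nhd (pullback.snd g (B.t i) (pbπ B g i x))
  obtain ⟨V, hV, hVO, hxV, hfF, hfG⟩ := RichLib.IsFPAffine.exists_finitePresentation_two hF hG
    (U := pullback.snd g (B.t i) ⁻¹ᵁ U ⊓ O) (x := pbπ B g i x) ⟨hxU, hflat⟩
  have hVU : V ≤ pullback.snd g (B.t i) ⁻¹ᵁ U := hVO.trans inf_le_left
  have hVflat : ∀ z ∈ V, FlatMod.IsFlatOverAt (pullback.snd g (B.t i)) (cokernel w) z := fun z hz => (hVO hz).2
  -- the kernel is finitely generated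
  obtain ⟨S, hS⟩ : (LinearMap.ker (QCohLib.appLin w V)).FG := by
    haveI : Coh.IsQCoh (cokernel w) := QCohLib.isQCoh_cokernel w
    have hfp2 := (pullback.snd g (B.t i)).finitePresentation_appLE hU hV hVU
    algebraize [((pullback.snd g (B.t i)).appLE U V hVU).hom]
    letI : Module Γ(B.D.obj i, U) Γ(cokernel w, V) :=
      Module.compHom Γ(cokernel w, V) ((pullback.snd g (B.t i)).appLE U V hVU).hom
    haveI : IsScalarTower Γ(B.D.obj i, U) Γ(pullback g (B.t i), V) Γ(cokernel w, V) :=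
      IsScalarTower.of_algebraMap_smul fun _ _ => rfl
    haveI : Module.Flat Γ(B.D.obj i, U) Γ(cokernel w, V) :=
      RichLib.IsFPAffine.flat_sections (pullback.snd g (B.t i)) (cokernel w) hU hV hVU rfl hVflat
    have hπ := RichLib.IsFPAffine.appLin_surjective (cokernel.π w) hV
    haveI : Module.FinitePresentation Γ(pullback g (B.t i), V) Γ(cokernel w, V) :=
      Module.finitePresentation_of_surjective (QCohLib.appLin (cokernel.π w) V) hπ (by
        rw [RichLib.IsFPAffine.ker_appLin_cokernel_π w hV, ← Submodule.map_top]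
        exact (Module.Finite.fg_top).map _)
    haveI : Module.FinitePresentation Γ(pullback g (B.t i), V) (LinearMap.range (QCohLib.appLin w V)) := by
      haveI := RichLib.FlatSyzygy.fp_ker (A := Γ(B.D.obj i, U)) (QCohLib.appLin (cokernel.π w) V) hπ
      exact Module.FinitePresentation.of_equiv
        (LinearEquiv.ofEq _ _ (RichLib.IsFPAffine.ker_appLin_cokernel_π w hV))
    rw [← LinearMap.ker_rangeRestrict]
    exact Module.FinitePresentation.fg_ker (QCohLib.appLin w V).rangeRestrict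
      (QCohLib.appLin w V).surjective_rangeRestrict
  -- the rings
  let Vinf : (pullback g B.s).Opens := pbπ B g i ⁻¹ᵁ V
  let Vst : ∀ a : Over i, (pullback g (B.t a.left)).Opens := fun a => pbMap B g a.hom ⁻¹ᵁ V
  haveI : IsAffineHom (pbπ B g i) :=
    MorphismProperty.of_isPullback (P := @IsAffineHom) (isPullback_cone B g i).flip inferInstance
  have hVinf : IsAffineOpen Vinf := hV.preimage (pbπ B g i)
  haveI : ∀ a : Over i, IsAffineHom (pbMap B g a.hom) := fun a => PS.affine_map a.hom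
  have hVst : ∀ a : Over i, IsAffineOpen (Vst a) := fun a => hV.preimage (pbMap B g a.hom)
  let R := Γ(pullback g (B.t i), V)
  let L := Γ(pullback g B.s, Vinf)
  letI : Algebra R L := ((pbπ B g i).appLE V Vinf le_rfl).hom.toAlgebra
  let St : Over i → Type u := fun a => Γ(pullback g (B.t a.left), Vst a)
  letI : ∀ a, Algebra R (St a) := fun a => ((pbMap B g a.hom).appLE V (Vst a) le_rfl).hom.toAlgebra
  have hle : ∀ a : Over i, Vinf ≤ pbπ B g a.left ⁻¹ᵁ Vst a := fun a => le_preimage PS.D PS.c V a.hom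
  let φ : ∀ a, St a →ₐ[R] L := fun a =>
    { ((pbπ B g a.left).appLE (Vst a) Vinf (hle a)).hom with
      commutes' := fun r => by
        show ((pbMap B g a.hom).appLE V (Vst a) le_rfl ≫ (pbπ B g a.left).appLE (Vst a) Vinf (hle a)) r =
          (pbπ B g i).appLE V Vinf le_rfl r
        simp only [Scheme.Hom.appLE_comp_appLE, pbπ_map] }
  have hsurj : ∀ Fs : Finset L, ∃ a, ∀ s ∈ Fs, ∃ b, φ a b = s := fun Fs => by
    obtain ⟨j, a, hj⟩ := exists_app_π_eq_finset PS.D PS.c PS.hc hV Fs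
    exact ⟨Over.mk a, hj⟩
  have hkill : ∀ (a : Over i) (Fs : Finset (St a)), (∀ b ∈ Fs, φ a b = 0) →
      ∃ (a' : Over i) (ψ : St a →ₐ[R] St a'), (∀ b, φ a' (ψ b) = φ a b) ∧ ∀ b ∈ Fs, ψ b = 0 := fun a Fs hFs => by
    obtain ⟨k, b, hk⟩ := exists_app_map_eq_zero_finset PS.D PS.c PS.hc hV a.hom Fs hFs
    have hleb : Vst (Over.mk (b ≫ a.hom)) ≤ pbMap B g b ⁻¹ᵁ Vst a := le_preimage_map PS.D V a.hom b
    let ψ : St a →ₐ[R] St (Over.mk (b ≫ a.hom)) :=
      { ((pbMap B g b).appLE (Vst a) (Vst (Over.mk (b ≫ a.hom))) hleb).hom with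
        commutes' := fun r => by
          show ((pbMap B g a.hom).appLE V (Vst a) le_rfl ≫ (pbMap B g b).appLE (Vst a) _ hleb) r =
            (pbMap B g (b ≫ a.hom)).appLE V _ le_rfl r
          rw [Scheme.Hom.appLE_comp_appLE]
          simp only [show pbMap B g b ≫ pbMap B g a.hom = pbMap B g (b ≫ a.hom) from (PS.D.map_comp b a.hom).symm]
          rfl }
    refine ⟨_, ψ, fun r => ?_, hk⟩
    show ((pbMap B g b).appLE (Vst a) _ hleb ≫ (pbπ B g k).appLE _ Vinf (hle (Over.mk (b ≫ a.hom)))) r = _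
    rw [Scheme.Hom.appLE_comp_appLE]
    simp only [pbπ_map]
    rfl
  -- the point
  let q := (hVinf.primeIdealOf ⟨x, hxV⟩).asIdeal
  have hxst : ∀ a : Over i, pbπ B g a.left x ∈ Vst a := fun a => hle a hxV
  let qst : ∀ a : Over i, Ideal (St a) := fun a => ((hVst a).primeIdealOf ⟨pbπ B g a.left x, hxst a⟩).asIdeal
  have hq : ∀ (a : Over i) (b : St a), φ a b ∉ q → b ∉ qst a := fun a b hb hb' => hb (by
    rw [show qst a = q.comap ((pbπ B g a.left).appLE (Vst a) Vinf (hle a)).hom from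
      (congrArg PrimeSpectrum.asIdeal (IsAffineOpen.comap_primeIdealOf_appLE (Vst a) (hVst a) Vinf hVinf
        (f := pbπ B g a.left) (hle a) hxV)).symm] at hb'
    exact hb')
  have hlimit := (stalkInj_pullback_iff (pbπ B g i) w hV hVinf le_rfl (y := x) hxV).mp hinj
  have hgen : ∀ k : Γ(F, V), k ∈ S → ∃ (a : Over i) (t : St a), t ∉ qst a ∧ t ⊗ₜ[R] k = 0 := fun k hk => by
    obtain ⟨t, ht, ht0⟩ := hlimit ((1 : L) ⊗ₜ[R] k) (by
      rw [LinearMap.baseChange_tmul, LinearMap.mem_ker.mp (hS.le (Submodule.subset_span hk)), tmul_zero])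
    rw [smul_tmul', smul_eq_mul, mul_one] at ht0
    obtain ⟨a, b, hb, hb0⟩ := exists_stage_smul_tmul_eq_zero St φ hsurj hkill t k ht0
    exact ⟨a, b, hq a b (hb.symm ▸ ht), hb0⟩
  choose ak tk htk htk0 using hgen
  let akk : ↥S → Over i := fun k => ak k.1 k.2
  obtain ⟨a₀, ha₀⟩ := IsCofiltered.inf_objs_exists (Finset.univ.image akk)
  refine ⟨a₀.left, a₀.hom, (stalkInj_pullback_iff (pbMap B g a₀.hom) w hV (hVst a₀) le_rfl (hxst a₀)).mpr
    fun z hz => ?_⟩
  have hz' := ker_baseChange_chart w (isPullback_map B g a₀.hom) hU hV hVU hVflat (S := (S : Set Γ(F, V))) hS.ge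
    rfl le_rfl (LinearMap.mem_ker.mpr hz)
  refine exists_smul_eq_zero_of_mem_span (qst a₀) ?_ hz'
  rintro _ ⟨k, hk, rfl⟩
  obtain ⟨e⟩ := ha₀ (Finset.mem_image_of_mem akk (Finset.mem_univ (⟨k, hk⟩ : ↥S)))
  have hee : Vst a₀ ≤ pbMap B g e.left ⁻¹ᵁ Vst (ak k hk) := by
    show pbMap B g a₀.hom ⁻¹ᵁ V ≤ _
    rw [← Over.w e]
    exact le_preimage_map PS.D V (ak k hk).hom e.left
  let ψ : St (ak k hk) →ₐ[R] St a₀ :=
    { ((pbMap B g e.left).appLE (Vst (ak k hk)) (Vst a₀) hee).hom with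
      commutes' := fun r => by
        show ((pbMap B g (ak k hk).hom).appLE V (Vst (ak k hk)) le_rfl ≫ (pbMap B g e.left).appLE _ _ hee) r =
          (pbMap B g a₀.hom).appLE V _ le_rfl r
        rw [Scheme.Hom.appLE_comp_appLE]
        simp only [show pbMap B g e.left ≫ pbMap B g (ak k hk).hom = pbMap B g a₀.hom from
          (PS.D.map_comp e.left (ak k hk).hom).symm.trans (congrArg PS.D.map (Over.w e))]
        rfl }
  refine ⟨ψ (tk k hk), fun hmem => htk k hk ?_, ?_⟩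
  · have hp : pbπ B g (ak k hk).left x = pbMap B g e.left (pbπ B g a₀.left x) := by
      rw [← Scheme.Hom.comp_apply, pbπ_map]
    have h1 : qst (ak k hk) = (qst a₀).comap ((pbMap B g e.left).appLE (Vst (ak k hk)) (Vst a₀) hee).hom := by
      refine Eq.trans ?_ (congrArg PrimeSpectrum.asIdeal (IsAffineOpen.comap_primeIdealOf_appLE (Vst (ak k hk))
        (hVst _) (Vst a₀) (hVst a₀) (f := pbMap B g e.left) hee (hxst a₀))).symm
      exact congrArg (fun y => ((hVst (ak k hk)).primeIdealOf y).asIdeal) (Subtype.ext hp)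
    rw [h1]
    exact hmem
  · rw [smul_tmul', smul_eq_mul, mul_one]
    have := congrArg (ψ.toLinearMap.rTensor Γ(F, V)) (htk0 k hk)
    rwa [LinearMap.rTensor_tmul, map_zero] at this

end Limit

end RichLib.InjStage
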