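import Mathlib
import Groth.Prelude.Def_MoreMor
import Groth.Agent.RichLib.QuasiAffineMor

/-!
# Ind-quasi-affine morphisms
-/

set_option autoImplicit false
universe u

open CategoryTheory CategoryTheory.Limits AlgebraicGeometry TopologicalSpace

noncomputable section

namespace RichLib.QA

variable {X Y Z : Scheme.{u}}

/-- compact opens lying over affine opens are quasi-affine -/
theorem indQA_iff (f : X ⟶ Y) :
    MoreMor.IsIndQuasiAffineHom f ↔ ∀ V : Y.Opens, IsAffineOpen V → ∀ U : X.Opens, U ≤ f ⁻¹ᵁ V →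
      IsCompact (U : Set X) → Scheme.IsQuasiAffine (U : Scheme.{u}) := by
  constructor
  · intro h V hV U hUV hU
    let U' := (f ⁻¹ᵁ V).ι ⁻¹ᵁ U
    have hU' : (f ⁻¹ᵁ V).ι ''ᵁ U' = U := by
      rw [Scheme.Hom.image_preimage_eq_opensRange_inf, Scheme.Opens.opensRange_ι, inf_eq_right.mpr hUV]
    have hc : IsCompact (U' : Set (f ⁻¹ᵁ V).toScheme) := by
      rw [(f ⁻¹ᵁ V).ι.isOpenEmbedding.isEmbedding.isCompact_iff]
      have : (f ⁻¹ᵁ V).ι.base '' (U' : Set (f ⁻¹ᵁ V).toScheme) = (U : Set X) := congrArg SetLike.coe hU'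
      rwa [this]
    haveI := h V hV U' hc
    rw [← hU']
    exact isQuasiAffine_of_iso ((f ⁻¹ᵁ V).ι.isoImage U').inv
  · intro h V hV U hU
    haveI := h V hV ((f ⁻¹ᵁ V).ι ''ᵁ U) (by
      rintro _ ⟨x, -, rfl⟩; exact x.2) (hU.image (f ⁻¹ᵁ V).ι.continuous)
    exact isQuasiAffine_of_iso ((f ⁻¹ᵁ V).ι.isoImage U).hom

/-- a compact open over an affine is quasi-affine if it is so locally on the affine -/
theorem isQuasiAffine_local (f : X ⟶ Y) {V : Y.Opens} (hV : IsAffineOpen V) {U : X.Opens}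
    (hUV : U ≤ f ⁻¹ᵁ V) (hU : IsCompact (U : Set X))
    (h : ∀ y ∈ V, ∃ a : Γ(Y, V), y ∈ Y.basicOpen a ∧
      ∀ U' : X.Opens, U' ≤ U ⊓ f ⁻¹ᵁ Y.basicOpen a → IsCompact (U' : Set X) →
        Scheme.IsQuasiAffine (U' : Scheme.{u})) :
    Scheme.IsQuasiAffine (U : Scheme.{u}) := by
  choose a hya ha using h
  haveI : IsAffine V.toScheme := hV
  haveI : CompactSpace U.toScheme := isCompact_iff_compactSpace.mp hU
  let q := f.resLE V U hUV
  haveI : QuasiCompact q := quasiCompact_of_compactSpace _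
  refine isQuasiAffine_of_cover q (fun y : V.toScheme => V.ι ⁻¹ᵁ Y.basicOpen (a (V.ι.base y) y.2))
    (eq_top_iff.mpr fun y _ => TopologicalSpace.Opens.mem_iSup.mpr ⟨y, hya _ _⟩) fun y => ?_
  have hD : IsAffineOpen (V.ι ⁻¹ᵁ Y.basicOpen (a (V.ι.base y) y.2)) :=
    (hV.basicOpen _).preimage_of_isOpenImmersion _ (by
      rw [Scheme.Opens.opensRange_ι]; exact Y.basicOpen_le _)
  let O := q ⁻¹ᵁ (V.ι ⁻¹ᵁ Y.basicOpen (a (V.ι.base y) y.2))
  have hO : IsCompact (O : Set U.toScheme) := QuasiCompact.isCompact_preimage _ (Opens.isOpen _) hD.isCompact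
  haveI := ha (V.ι.base y) y.2 (U.ι ''ᵁ O) (by
    rintro _ ⟨x, hx, rfl⟩
    refine ⟨x.2, ?_⟩
    show f.base (U.ι.base x) ∈ Y.basicOpen _
    have : (q ≫ V.ι).base x ∈ Y.basicOpen (a (V.ι.base y) y.2) := hx
    rwa [Scheme.Hom.resLE_comp_ι] at this) (hO.image U.ι.continuous)
  exact isQuasiAffine_of_iso (U.ι.isoImage O).hom

theorem indQA_iff_resLE (f : X ⟶ Y) :
    MoreMor.IsIndQuasiAffineHom f ↔ ∀ (V : Y.Opens), IsCompact (V : Set ↑Y) → IsQuasiSeparated (V : Set ↑Y) →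
      ∀ (U : X.Opens) (hUV : U ≤ f ⁻¹ᵁ V), IsCompact (U : Set ↑X) → MoreMor.IsQuasiAffineHom (f.resLE V U hUV) := by
  rw [indQA_iff]
  constructor
  · intro h V hVc hVq U hUV hU
    haveI : CompactSpace U.toScheme := isCompact_iff_compactSpace.mp hU
    haveI : QuasiSeparatedSpace V.toScheme := (isQuasiSeparated_iff_quasiSeparatedSpace _ V.2).mp hVq
    haveI : QuasiCompact (f.resLE V U hUV) := quasiCompact_of_compactSpace _
    refine ⟨‹_›, fun W hW => ?_⟩
    let O := (f.resLE V U hUV) ⁻¹ᵁ W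
    haveI := h (V.ι ''ᵁ W) (hW.image_of_isOpenImmersion V.ι) (U.ι ''ᵁ O) (by
      rintro _ ⟨x, hx, rfl⟩
      refine ⟨(f.resLE V U hUV).base x, hx, ?_⟩
      exact congr($(Scheme.Hom.resLE_comp_ι f hUV).base x)) ((QuasiCompact.isCompact_preimage _ W.2 hW.isCompact).image U.ι.continuous)
    exact isQuasiAffine_of_iso (U.ι.isoImage O).hom
  · intro h V hV U hUV hU
    haveI : IsAffine V.toScheme := hV
    have h1 := (h V hV.isCompact hV.isQuasiSeparated U hUV hU).2 ⊤ (isAffineOpen_top V.toScheme)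
    rw [Scheme.Hom.preimage_top] at h1
    exact isQuasiAffine_of_iso U.toScheme.topIso.inv

theorem indQA_of_isImmersion (f : X ⟶ Y) [IsImmersion f] : MoreMor.IsIndQuasiAffineHom f := by
  refine (indQA_iff f).mpr fun V hV U hUV hU => ?_
  haveI : IsAffine V.toScheme := hV
  haveI : CompactSpace U.toScheme := isCompact_iff_compactSpace.mp hU
  haveI : IsImmersion (f.resLE V U hUV ≫ V.ι) := by rw [Scheme.Hom.resLE_comp_ι]; infer_instance
  haveI : IsImmersion (f.resLE V U hUV) := IsImmersion.of_comp _ V.ι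
  exact .of_isImmersion (f.resLE V U hUV)

theorem indQA_of_qa (f : X ⟶ Y) (h : MoreMor.IsQuasiAffineHom f) : MoreMor.IsIndQuasiAffineHom f :=
  (indQA_iff f).mpr fun V hV U hUV hU => isQuasiAffine_of_le hUV hU (h.2 V hV)

theorem indQA_comp (f : X ⟶ Y) (g : Y ⟶ Z) (hf : MoreMor.IsIndQuasiAffineHom f)
    (hg : MoreMor.IsIndQuasiAffineHom g) : MoreMor.IsIndQuasiAffineHom (f ≫ g) := by
  refine (indQA_iff _).mpr fun W hW U hUW hU => ?_
  have hcpt : IsCompact (f.base '' (U : Set X)) := hU.image f.continuous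
  choose D hD hyD hDW using fun y : ↥(f.base '' (U : Set X)) =>
    Y.isBasis_affineOpens.exists_subset_of_mem_open (show y.1 ∈ g ⁻¹ᵁ W by
      obtain ⟨x, hx, hxy⟩ := y.2
      rw [← hxy]; exact hUW hx) (g ⁻¹ᵁ W).2
  choose D' hD' hDD' using hD
  obtain ⟨t, ht⟩ := hcpt.elim_finite_subcover (fun y => (D' y : Set Y)) (fun y => (D' y).2)
    fun y hy => Set.mem_iUnion.mpr ⟨⟨y, hy⟩, by rw [hDD']; exact hyD ⟨y, hy⟩⟩
  let V : Y.Opens := ⟨⋃ y ∈ t, (D' y : Set Y), isOpen_iUnion fun y => isOpen_iUnion fun _ => (D' y).2⟩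
  have hVc : IsCompact (V : Set Y) := t.isCompact_biUnion fun y _ => (hD' y).isCompact
  have hVW : V ≤ g ⁻¹ᵁ W := fun y hy => by
    obtain ⟨z, -, hz⟩ := Set.mem_iUnion₂.mp hy
    exact hDW z (by rw [← hDD']; exact hz)
  have hUV : U ≤ f ⁻¹ᵁ V := fun x hx => ht ⟨x, hx, rfl⟩
  haveI hVqa : Scheme.IsQuasiAffine (V : Scheme.{u}) := (indQA_iff g).mp hg W hW V hVW hVc
  have hVq : IsQuasiSeparated (V : Set Y) :=
    (isQuasiSeparated_iff_quasiSeparatedSpace _ V.2).mpr (inferInstance : QuasiSeparatedSpace V.toScheme)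
  have h1 := (indQA_iff_resLE f).mp hf V hVc hVq U hUV hU
  exact isQuasiAffine_of_cover (f.resLE V U hUV) (fun D : V.toScheme.affineOpens => D.1)
    (iSup_affineOpens_eq_top _) fun D => h1.2 D.1 D.2

theorem indQA_of_comp (f : X ⟶ Y) (g : Y ⟶ Z) (h : MoreMor.IsIndQuasiAffineHom (f ≫ g)) :
    MoreMor.IsIndQuasiAffineHom f := by
  refine (indQA_iff f).mpr fun V hV U hUV hU => isQuasiAffine_local f hV hUV hU fun y hy => ?_
  obtain ⟨_, ⟨W, hW, rfl⟩, hyW, -⟩ :=
    Z.isBasis_affineOpens.exists_subset_of_mem_open (Set.mem_univ (g.base y)) isOpen_univ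
  obtain ⟨a, ha, hya⟩ := hV.exists_basicOpen_le (V := g ⁻¹ᵁ W) ⟨y, hyW⟩ hy
  exact ⟨a, hya, fun U' hU' hc => (indQA_iff _).mp h W hW U' (fun x hx => ha (hU' hx).2) hc⟩

theorem indQA_baseChange {X' S S' : Scheme.{u}} (f : X ⟶ S) (f' : X' ⟶ S') (g' : X' ⟶ X) (g : S' ⟶ S)
    (hc : IsPullback g' f' f g) (hf : MoreMor.IsIndQuasiAffineHom f) : MoreMor.IsIndQuasiAffineHom f' := by
  refine (indQA_iff f').mpr fun V' hV' U hUV hU => isQuasiAffine_local f' hV' hUV hU fun y hy => ?_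
  obtain ⟨_, ⟨V, hV, rfl⟩, hyV, -⟩ :=
    S.isBasis_affineOpens.exists_subset_of_mem_open (Set.mem_univ (g.base y)) isOpen_univ
  obtain ⟨a, ha, hya⟩ := hV'.exists_basicOpen_le (V := g ⁻¹ᵁ V) ⟨y, hyV⟩ hy
  refine ⟨a, hya, fun U' hU' hc' => ?_⟩
  let D := S'.basicOpen a
  have hDa : IsAffineOpen D := hV'.basicOpen a
  -- a compact open of `X` over `V` containing the image of `U'`
  have himg : IsCompact (g'.base '' (U' : Set X')) := hc'.image g'.continuous
  choose O hO hxO hOV using fun x : ↥(g'.base '' (U' : Set X')) =>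
    X.isBasis_affineOpens.exists_subset_of_mem_open (show x.1 ∈ f ⁻¹ᵁ V by
      obtain ⟨z, hz, hzx⟩ := x.2
      rw [← hzx]
      show f.base (g'.base z) ∈ V
      rw [← Scheme.Hom.comp_apply, hc.w, Scheme.Hom.comp_apply]
      exact ha (hU' hz).2) (f ⁻¹ᵁ V).2
  choose O' hO' hOO' using hO
  obtain ⟨t, ht⟩ := himg.elim_finite_subcover (fun x => (O' x : Set X)) (fun x => (O' x).2)
    fun x hx => Set.mem_iUnion.mpr ⟨⟨x, hx⟩, by rw [hOO']; exact hxO ⟨x, hx⟩⟩
  let W : X.Opens := ⟨⋃ x ∈ t, (O' x : Set X), isOpen_iUnion fun x => isOpen_iUnion fun _ => (O' x).2⟩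
  have hWV : W ≤ f ⁻¹ᵁ V := fun x hx => by
    obtain ⟨z, -, hz⟩ := Set.mem_iUnion₂.mp hx
    exact hOV z (by rw [← hOO']; exact hz)
  haveI : Scheme.IsQuasiAffine (W : Scheme.{u}) :=
    (indQA_iff f).mp hf V hV W hWV (t.isCompact_biUnion fun x _ => (hO' x).isCompact)
  haveI : IsAffine (D : Scheme.{u}) := hDa
  haveI : IsAffine (V : Scheme.{u}) := hV
  haveI : CompactSpace U'.toScheme := isCompact_iff_compactSpace.mp hc'
  -- `U'` is open in `W ×_V D`, which is affine over the quasi-affine `W`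
  let p := f.resLE V W hWV
  let q := g.resLE V D ha
  haveI : IsAffineHom q := isAffineHom_of_isAffine q
  haveI : IsAffineHom (pullback.fst p q) := MorphismProperty.pullback_fst _ _ ‹_›
  haveI hPull : Scheme.IsQuasiAffine (pullback p q) := .of_isAffineHom (pullback.fst p q)
  let j : U'.toScheme ⟶ pullback p q :=
    pullback.lift (g'.resLE W U' fun x hx => ht ⟨x, hx, rfl⟩) (f'.resLE D U' fun x hx => (hU' hx).2)
      (by rw [← cancel_mono (Scheme.Opens.ι V)]; simp [p, q, hc.w])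
  let m : pullback p q ⟶ X' := hc.lift (pullback.fst p q ≫ W.ι) (pullback.snd p q ≫ Scheme.Opens.ι D)
    (by
      have := congrArg (· ≫ Scheme.Opens.ι V) (pullback.condition (f := p) (g := q))
      simpa [p, q] using this)
  have hjm : j ≫ m = U'.ι := hc.hom_ext
    (by rw [Category.assoc, IsPullback.lift_fst, ← Category.assoc, pullback.lift_fst,
      Scheme.Hom.resLE_comp_ι])
    (by rw [Category.assoc, IsPullback.lift_snd, ← Category.assoc, pullback.lift_snd,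
      Scheme.Hom.resLE_comp_ι])
  haveI : IsImmersion (j ≫ m) := by rw [hjm]; infer_instance
  haveI : IsImmersion j := IsImmersion.of_comp j m
  exact .of_isImmersion j

end RichLib.QA
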