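import Mathlib.RingTheory.DedekindDomain.Different
import Mathlib.RingTheory.DiscreteValuationRing.Basic
import Mathlib.RingTheory.LocalRing.ResidueField.Basic
import Mathlib.RingTheory.RamificationInertia.Basic
import Mathlib.FieldTheory.Separable

set_option autoImplicit false
universe u

namespace RichLib.TameDiff

attribute [local instance] FractionRing.liftAlgebra FractionRing.isScalarTower_liftAlgebra

/-- Additivity of the trace in a short exact sequence of finite dimensional spaces. -/
theorem trace_eq_add_of_exact {k U V Q : Type*} [Field k] [AddCommGroup U] [Module k U]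
    [AddCommGroup V] [Module k V] [AddCommGroup Q] [Module k Q] [FiniteDimensional k V]
    (ι : U →ₗ[k] V) (π : V →ₗ[k] Q) (hι : Function.Injective ι) (hπ : Function.Surjective π)
    (hex : LinearMap.range ι = LinearMap.ker π)
    (f : V →ₗ[k] V) (g : U →ₗ[k] U) (h : Q →ₗ[k] Q)
    (hg : f ∘ₗ ι = ι ∘ₗ g) (hh : π ∘ₗ f = h ∘ₗ π) :
    LinearMap.trace k V f = LinearMap.trace k U g + LinearMap.trace k Q h := by
  haveI : FiniteDimensional k U := FiniteDimensional.of_injective ι hι
  haveI : FiniteDimensional k Q := Module.Finite.of_surjective π hπ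
  obtain ⟨s, hs⟩ := π.exists_rightInverse_of_surjective (LinearMap.range_eq_top.mpr hπ)
  have hmem : ∀ v, (LinearMap.id - s ∘ₗ π : V →ₗ[k] V) v ∈ LinearMap.range ι := by
    intro v
    rw [hex, LinearMap.mem_ker]
    have := LinearMap.congr_fun hs (π v)
    simp only [LinearMap.comp_apply, LinearMap.id_apply] at this
    simp [this]
  let r : V →ₗ[k] U := (LinearEquiv.ofInjective ι hι).symm.toLinearMap ∘ₗ
    LinearMap.codRestrict _ (LinearMap.id - s ∘ₗ π) hmem
  have hr : ι ∘ₗ r + s ∘ₗ π = LinearMap.id := by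
    ext v
    have : ι (r v) = v - s (π v) := by
      simp only [r, LinearMap.comp_apply, LinearEquiv.coe_toLinearMap]
      exact congrArg Subtype.val ((LinearEquiv.ofInjective ι hι).apply_symm_apply _)
    simp [this]
  have hrι : r ∘ₗ ι = LinearMap.id := by
    ext u
    apply hι
    have h1 := LinearMap.congr_fun hr (ι u)
    have h2 : π (ι u) = 0 := by
      have : ι u ∈ LinearMap.ker π := hex ▸ LinearMap.mem_range_self ι u
      exact this
    simpa [h2] using h1
  have e1 : f = (f ∘ₗ ι) ∘ₗ r + (f ∘ₗ s) ∘ₗ π := by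
    rw [LinearMap.comp_assoc, LinearMap.comp_assoc, ← LinearMap.comp_add, hr, LinearMap.comp_id]
  conv_lhs => rw [e1]
  clear_value r
  rw [map_add, LinearMap.trace_comp_comm' r (f ∘ₗ ι), LinearMap.trace_comp_comm' π (f ∘ₗ s)]
  congr 1
  · rw [hg, ← LinearMap.comp_assoc, hrι, LinearMap.id_comp]
  · rw [← LinearMap.comp_assoc, hh, LinearMap.comp_assoc, hs, LinearMap.comp_id]

variable {A B : Type u} [CommRing A] [CommRing B] [Algebra A B] [Module.Finite A B]
  [IsDomain B] [IsDedekindDomain B]

/-- trace on `B/P^n` over `A/p` is `n` times the trace on `B/P`. -/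
theorem trace_quot_pow (p : Ideal A) [p.IsMaximal] (P : Ideal B) [P.IsMaximal]
    (π : B) (hπP : P = Ideal.span {π}) (hπ : π ≠ 0)
    [Algebra (A ⧸ p) (B ⧸ P)] [IsScalarTower A (A ⧸ p) (B ⧸ P)]
    (e : ℕ) (hp : p.map (algebraMap A B) ≤ P ^ e) (b : B) :
    ∀ n ≤ e, ∀ (I : Ideal B), I = P ^ n → ∀ [Algebra (A ⧸ p) (B ⧸ I)] [IsScalarTower A (A ⧸ p) (B ⧸ I)],
      Algebra.trace (A ⧸ p) (B ⧸ I) (Ideal.Quotient.mk I b) =
        n • Algebra.trace (A ⧸ p) (B ⧸ P) (Ideal.Quotient.mk P b) := by
  letI := Ideal.Quotient.field p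
  have hsurj : Function.Surjective (algebraMap A (A ⧸ p)) := Ideal.Quotient.mk_surjective
  intro n
  induction n with
  | zero =>
    intro _ I hI _ _
    have : Subsingleton (B ⧸ I) :=
      Ideal.Quotient.subsingleton_iff.mpr (by simpa using hI)
    rw [show Ideal.Quotient.mk I b = 0 from Subsingleton.elim _ _, map_zero, zero_nsmul]
  | succ n ih =>
    intro hn I hI _ _
    subst hI
    have hle : p ≤ (P ^ n).comap (algebraMap A B) :=
      Ideal.map_le_iff_le_comap.mp (hp.trans (Ideal.pow_le_pow_right (by omega)))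
    letI : Algebra (A ⧸ p) (B ⧸ P ^ n) := Ideal.Quotient.algebraQuotientOfLEComap hle
    haveI : IsScalarTower A (A ⧸ p) (B ⧸ P ^ n) := .of_algebraMap_eq' rfl
    haveI : Module.Finite (A ⧸ p) (B ⧸ P ^ (n+1)) := .of_restrictScalars_finite A _ _
    have mem : ∀ (i : ℕ) (y : B), y ∈ P ^ i ↔ π ^ i ∣ y := fun i y => by
      rw [hπP, Ideal.span_singleton_pow, Ideal.mem_span_singleton]
    have hmul : P ≤ Submodule.comap (LinearMap.mulLeft B (π ^ n)) (P ^ (n+1) : Ideal B) := by
      intro x hx
      rw [Submodule.mem_comap, LinearMap.mulLeft_apply]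
      rw [hπP, Ideal.span_singleton_pow, Ideal.mem_span_singleton]
      rw [hπP, Ideal.mem_span_singleton] at hx
      rw [pow_succ]; exact mul_dvd_mul_left _ hx
    let ι₀ : (B ⧸ P) →ₗ[B] (B ⧸ P ^ (n+1)) := Submodule.mapQ P (P ^ (n+1)) (LinearMap.mulLeft B (π ^ n)) hmul
    let π₀ : (B ⧸ P ^ (n+1)) →ₗ[B] (B ⧸ P ^ n) :=
      Submodule.mapQ (P ^ (n+1)) (P ^ n) LinearMap.id (Ideal.pow_le_pow_right n.le_succ)
    have hι : Function.Injective ι₀ := by
      rw [← LinearMap.ker_eq_bot, Submodule.eq_bot_iff]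
      intro x hx
      obtain ⟨x, rfl⟩ := Submodule.Quotient.mk_surjective _ x
      rw [LinearMap.mem_ker, Submodule.mapQ_apply, LinearMap.mulLeft_apply,
        Submodule.Quotient.mk_eq_zero, hπP, Ideal.span_singleton_pow, Ideal.mem_span_singleton,
        pow_succ, mul_dvd_mul_iff_left (pow_ne_zero _ hπ)] at hx
      rw [Submodule.Quotient.mk_eq_zero, hπP, Ideal.mem_span_singleton]
      exact hx
    have hπs : Function.Surjective π₀ := by
      intro x
      obtain ⟨x, rfl⟩ := Submodule.Quotient.mk_surjective _ x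
      exact ⟨Submodule.Quotient.mk x, rfl⟩
    have hex : LinearMap.range ι₀ = LinearMap.ker π₀ := by
      ext x
      obtain ⟨x, rfl⟩ := Submodule.Quotient.mk_surjective _ x
      rw [LinearMap.mem_ker, Submodule.mapQ_apply, LinearMap.id_apply, Submodule.Quotient.mk_eq_zero,
        mem, LinearMap.mem_range]
      constructor
      · rintro ⟨y, hy⟩
        obtain ⟨y, rfl⟩ := Submodule.Quotient.mk_surjective _ y
        rw [Submodule.mapQ_apply, LinearMap.mulLeft_apply, Submodule.Quotient.eq, mem] at hy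
        have h1 : π ^ n ∣ π ^ n * y - x := (pow_dvd_pow π n.le_succ).trans hy
        exact (dvd_sub_right (dvd_mul_right _ _)).mp h1
      · rintro ⟨c, rfl⟩
        exact ⟨Submodule.Quotient.mk c, rfl⟩
    let ι₁ := (ι₀.restrictScalars A).extendScalarsOfSurjective hsurj
    let π₁ := (π₀.restrictScalars A).extendScalarsOfSurjective hsurj
    have key := trace_eq_add_of_exact ι₁ π₁ hι hπs
      (by ext x; exact SetLike.ext_iff.mp hex x)
      (Algebra.lmul (A ⧸ p) (B ⧸ P ^ (n+1)) (Ideal.Quotient.mk _ b))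
      (Algebra.lmul (A ⧸ p) (B ⧸ P) (Ideal.Quotient.mk _ b))
      (Algebra.lmul (A ⧸ p) (B ⧸ P ^ n) (Ideal.Quotient.mk _ b))
      (by
        refine LinearMap.ext fun x => ?_
        obtain ⟨x, rfl⟩ := Ideal.Quotient.mk_surjective x
        show Ideal.Quotient.mk _ b * Ideal.Quotient.mk _ (π ^ n * x) =
          Ideal.Quotient.mk _ (π ^ n * (b * x))
        rw [← map_mul, mul_left_comm])
      (by
        refine LinearMap.ext fun x => ?_
        obtain ⟨x, rfl⟩ := Ideal.Quotient.mk_surjective x
        rfl)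
    rw [Algebra.trace_apply, key, ← Algebra.trace_apply, ← Algebra.trace_apply,
      ih (by omega) _ rfl, succ_nsmul']

variable [IsDomain A] [IsDiscreteValuationRing A] [IsDiscreteValuationRing B]
  [Module.IsTorsionFree A B] [IsLocalHom (algebraMap A B)]
  [Algebra.IsSeparable (FractionRing A) (FractionRing B)]

open IsLocalRing nonZeroDivisors in
theorem differentIdeal_eq_iff :
    differentIdeal A B = maximalIdeal B ^ (Ideal.ramificationIdx (maximalIdeal B) A - 1) ↔
      (Algebra.IsSeparable (ResidueField A) (ResidueField B) ∧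
        ((Ideal.ramificationIdx (maximalIdeal B) A : ℕ) : ResidueField A) ≠ 0) := by
  set p := maximalIdeal A with hpdef
  set P := maximalIdeal B with hPdef
  have hp0 : p ≠ ⊥ := IsDiscreteValuationRing.not_a_field A
  have hP0 : P ≠ ⊥ := IsDiscreteValuationRing.not_a_field B
  haveI hlo : P.LiesOver p := ⟨(IsLocalRing.maximalIdeal_comap (algebraMap A B)).symm⟩
  obtain ⟨π, hπ⟩ := IsDiscreteValuationRing.exists_irreducible B
  have hπP : P = Ideal.span {π} := hπ.maximalIdeal_eq
  have hmap0 : p.map (algebraMap A B) ≠ ⊥ :=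
    (Ideal.map_eq_bot_iff_of_injective (FaithfulSMul.algebraMap_injective A B)).not.mpr hp0
  obtain ⟨e, he⟩ := IsDiscreteValuationRing.ideal_eq_span_pow_irreducible hmap0 hπ
  rw [← Ideal.span_singleton_pow, ← hπP] at he
  have hinj : Function.Injective fun i : ℕ => P ^ i :=
    (Ideal.pow_right_strictAnti P hP0 (Ideal.IsPrime.ne_top inferInstance)).injective
  have hram : Ideal.ramificationIdx P A = e := by
    rw [← Ideal.ramificationIdx'_eq_ramificationIdx p P hp0]
    apply Ideal.ramificationIdx'_spec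
    · rw [he]
    · rw [he]
      intro hle
      have := hinj (le_antisymm hle (Ideal.pow_le_pow_right e.le_succ))
      omega
  rw [hram]
  have he1 : 1 ≤ e := by
    by_contra h
    have : p.map (algebraMap A B) ≤ P := Ideal.map_le_iff_le_comap.mpr hlo.over.le
    rw [he, show e = 0 by omega, pow_zero, Ideal.one_eq_top, top_le_iff] at this
    exact Ideal.IsPrime.ne_top inferInstance this
  have hd0 : differentIdeal A B ≠ ⊥ := differentIdeal_ne_bot
  obtain ⟨m, hm⟩ := IsDiscreteValuationRing.ideal_eq_span_pow_irreducible hd0 hπ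
  rw [← Ideal.span_singleton_pow, ← hπP] at hm
  have hdiv : P ^ (e - 1) ∣ differentIdeal A B :=
    pow_sub_one_dvd_differentIdeal A P e hp0 (dvd_of_eq he.symm)
  -- trace formula
  letI : Field (A ⧸ p) := Ideal.Quotient.field p
  letI : Field (B ⧸ P) := Ideal.Quotient.field P
  haveI : Module.Finite (A ⧸ p) (B ⧸ P) := .of_restrictScalars_finite A _ _
  have htr : ∀ x : B, Ideal.Quotient.mk p (Algebra.intTrace A B x) =
      e • Algebra.trace (A ⧸ p) (B ⧸ P) (Ideal.Quotient.mk P x) := fun x => by
    rw [← trace_quot_pow p P π hπP hπ.ne_zero e he.le x e le_rfl _ he,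
      Algebra.trace_quotient_eq_of_isDedekindDomain]
  have hkey : P ^ e ∣ differentIdeal A B ↔ ∀ x : B, Algebra.intTrace A B x ∈ p := by
    constructor
    · intro h x
      by_contra hx
      exact not_dvd_differentIdeal_of_intTrace_not_mem A (P ^ e) ⊤
        (by rw [Ideal.mul_top, he]) x trivial hx h
    · intro h
      let K := FractionRing A
      let L := FractionRing B
      have : IsLocalization (Algebra.algebraMapSubmonoid B A⁰) L :=
        IsIntegralClosure.isLocalization _ K _ _
      have : FiniteDimensional K L := .of_isLocalization A B A⁰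
      rw [Ideal.dvd_iff_le, differentialIdeal_le_iff (K := K) (L := L) (pow_ne_zero _ hP0),
        Submodule.map_le_iff_le_comap, ← he]
      intro x hx
      rw [Submodule.restrictScalars_mem, FractionalIdeal.mem_coe,
        FractionalIdeal.mem_inv_iff (by simpa using hmap0)] at hx
      rw [Submodule.mem_comap, LinearMap.coe_restrictScalars, ← FractionalIdeal.coe_one,
        ← div_self (G₀ := FractionalIdeal A⁰ K) (a := p) (by simpa using hp0),
        FractionalIdeal.mem_coe, FractionalIdeal.mem_div_iff_of_ne_zero (by simpa using hp0)]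
      intro y hy'
      obtain ⟨y, hy, rfl⟩ := (FractionalIdeal.mem_coeIdeal _).mp hy'
      obtain ⟨z, hz⟩ := (FractionalIdeal.mem_one_iff _).mp
        (hx (algebraMap B L (algebraMap A B y))
          ((FractionalIdeal.mem_coeIdeal _).mpr ⟨_, Ideal.mem_map_of_mem _ hy, rfl⟩))
      have : Algebra.trace K L (algebraMap B L z) ∈ (p : FractionalIdeal A⁰ K) := by
        rw [← Algebra.algebraMap_intTrace (A := A)]
        exact (FractionalIdeal.mem_coeIdeal _).mpr ⟨_, h z, rfl⟩
      rwa [mul_comm, ← smul_eq_mul, ← map_smul, Algebra.smul_def, mul_comm,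
        ← IsScalarTower.algebraMap_apply A K L, IsScalarTower.algebraMap_apply A B L, ← hz]
  have hsep : (∀ x : B, Algebra.intTrace A B x ∈ p) ↔
      ¬ (Algebra.IsSeparable (A ⧸ p) (B ⧸ P) ∧ ((e : ℕ) : A ⧸ p) ≠ 0) := by
    constructor
    · rintro h ⟨hs, hne⟩
      apply Algebra.trace_ne_zero (A ⧸ p) (B ⧸ P)
      refine LinearMap.ext fun y => ?_
      obtain ⟨x, rfl⟩ := Ideal.Quotient.mk_surjective y
      have := htr x
      rw [Ideal.Quotient.eq_zero_iff_mem.mpr (h x), nsmul_eq_mul] at this
      simpa [hne] using this.symm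
    · intro h x
      rw [← Ideal.Quotient.eq_zero_iff_mem, htr, nsmul_eq_mul]
      by_cases hs : Algebra.IsSeparable (A ⧸ p) (B ⧸ P)
      · rw [show ((e : ℕ) : A ⧸ p) = 0 by tauto, zero_mul]
      · rw [Algebra.trace_eq_zero_of_not_isSeparable hs, LinearMap.zero_apply, mul_zero]
  have hiff : differentIdeal A B = P ^ (e - 1) ↔ ¬ P ^ e ∣ differentIdeal A B := by
    rw [hm] at hdiv ⊢
    have hm1 : e - 1 ≤ m := by
      by_contra h
      have h1 := Ideal.le_of_dvd hdiv
      have := hinj (le_antisymm h1 (Ideal.pow_le_pow_right (by omega)))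
      omega
    constructor
    · intro h hd
      have h1 := Ideal.le_of_dvd hd
      have h2 := hinj h
      subst h2
      have := hinj (le_antisymm h1 (Ideal.pow_le_pow_right (by omega)))
      omega
    · intro h
      have : m < e := by
        by_contra h'
        exact h (pow_dvd_pow P (by omega))
      rw [show m = e - 1 by omega]
  rw [hiff, hkey, hsep, not_not]
  rfl

end RichLib.TameDiff
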