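import Groth.Prelude.Def_Curves
import Groth.Agent.CSALib.RedNorm
import Groth.Agent.CSALib.Split
import Mathlib.RingTheory.Norm.Defs
import Mathlib.RingTheory.MvPolynomial.Homogeneous
import Mathlib.RingTheory.LittleWedderburn
import Mathlib.FieldTheory.Galois.Basic

/-!
# C₁ fields
-/

set_option autoImplicit false
universe u v w

open scoped TensorProduct
open MvPolynomial (X C)

noncomputable section

namespace RichLib

theorem isHomogeneous_det {R : Type u} [CommRing R] {σ : Type v} {m d : ℕ}
    (M : Matrix (Fin m) (Fin m) (MvPolynomial σ R)) (h : ∀ i j, (M i j).IsHomogeneous d) :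
    M.det.IsHomogeneous (m * d) := by
  rw [Matrix.det_apply']
  refine MvPolynomial.IsHomogeneous.sum _ _ _ fun g _ => ?_
  have h1 : (∏ i, M (g i) i).IsHomogeneous (m * d) := by
    have := MvPolynomial.IsHomogeneous.prod Finset.univ (fun i => M (g i) i) (fun _ => d) fun i _ => h _ _
    simpa using this
  rw [← map_intCast (MvPolynomial.C (σ := σ) (R := R))]
  exact h1.C_mul _

/-- A finite extension of a C₁ field is C₁. -/
theorem isCr_one_of_finite {K : Type u} [Field K] {L : Type v} [Field L] [Algebra K L]
    [FiniteDimensional K L] (hK : Curves.IsCr K 1) : Curves.IsCr L 1 := by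
  intro n d f hf hd hn
  rw [pow_one] at hn
  let m := Module.finrank K L
  have hm : 0 < m := Module.finrank_pos
  let b := Module.finBasis K L
  let e := (finProdFinEquiv : Fin n × Fin m ≃ Fin (n * m))
  let sub : Fin n → MvPolynomial (Fin (n * m)) L := fun i => ∑ j, b j • X (e (i, j))
  let F : MvPolynomial (Fin (n * m)) L := MvPolynomial.aeval sub f
  have hF : F.IsHomogeneous d := by
    have := MvPolynomial.IsHomogeneous.aeval hf sub (n := 1) fun i => MvPolynomial.IsHomogeneous.sum _ _ _ fun j _ => by
      rw [MvPolynomial.smul_eq_C_mul]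
      exact (MvPolynomial.isHomogeneous_X L _).C_mul _
    rw [one_mul] at this
    exact this
  let g : Fin m → MvPolynomial (Fin (n * m)) K := fun l =>
    ∑ s ∈ F.support, MvPolynomial.monomial s (b.repr (F.coeff s) l)
  have hg : ∀ l, (g l).IsHomogeneous d := fun l =>
    MvPolynomial.IsHomogeneous.sum _ _ _ fun s hs =>
      MvPolynomial.isHomogeneous_monomial _ (by
        have := hF (MvPolynomial.mem_support_iff.mp hs)
        rwa [Finsupp.degree_eq_weight_one])
  let M : Matrix (Fin m) (Fin m) (MvPolynomial (Fin (n * m)) K) :=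
    Matrix.of fun p q => ∑ l, Algebra.leftMulMatrix b (b l) p q • g l
  have hM : ∀ p q, (M p q).IsHomogeneous d := fun p q => by
    simp only [M, Matrix.of_apply]
    refine MvPolynomial.IsHomogeneous.sum _ _ _ fun l _ => ?_
    rw [MvPolynomial.smul_eq_C_mul]
    exact (hg l).C_mul _
  obtain ⟨a, ha, h0⟩ := hK (n * m) (m * d) M.det (isHomogeneous_det M hM) (Nat.mul_pos hm hd) (by
    rw [pow_one, mul_comm n m]
    exact Nat.mul_lt_mul_of_pos_left hn hm)
  let v : Fin n → L := fun i => ∑ j, a (e (i, j)) • b j
  refine ⟨v, fun hv => ha (funext fun t => ?_), ?_⟩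
  · obtain ⟨⟨i, j⟩, rfl⟩ := e.surjective t
    have := congrArg (fun z => b.repr z j) (congrFun hv i)
    simpa [v, Finsupp.single_apply] using this
  · have e1 : MvPolynomial.eval v f = MvPolynomial.eval (fun t => algebraMap K L (a t)) F := by
      rw [← MvPolynomial.aeval_eq_eval, ← MvPolynomial.aeval_eq_eval]
      change _ = MvPolynomial.aeval _ (MvPolynomial.aeval sub f)
      rw [MvPolynomial.aeval_eq_bind₁, MvPolynomial.aeval_bind₁]
      refine DFunLike.congr_fun (MvPolynomial.algHom_ext fun i => ?_) f
      simp [sub, v, Algebra.smul_def, mul_comm]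
      rfl
    have e2 : ∀ l, MvPolynomial.eval a (g l) = b.repr (MvPolynomial.eval (fun t => algebraMap K L (a t)) F) l := by
      intro l
      conv_rhs => rw [MvPolynomial.eval_eq, map_sum, Finsupp.finset_sum_apply]
      simp only [g, map_sum, MvPolynomial.eval_monomial]
      refine Finset.sum_congr rfl fun s _ => ?_
      rw [← mul_comm (∏ i ∈ s.support, algebraMap K L (a i) ^ s i), ← Finset.prod_congr rfl (fun i _ => map_pow (algebraMap K L) (a i) (s i)),
        ← map_prod, ← Algebra.smul_def, map_smul, Finsupp.smul_apply, smul_eq_mul, mul_comm]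
      rfl
    let z := MvPolynomial.eval v f
    have e3 : MvPolynomial.eval a M.det = Algebra.norm K z := by
      rw [RingHom.map_det, Algebra.norm_eq_matrix_det b, ← b.sum_repr z, map_sum]
      congr 1
      ext p q
      simp only [RingHom.mapMatrix_apply, Matrix.map_apply, M, Matrix.of_apply, map_sum,
        Matrix.sum_apply, MvPolynomial.smul_eq_C_mul, map_mul, MvPolynomial.eval_C]
      refine Finset.sum_congr rfl fun l _ => ?_
      rw [e2, ← e1, Algebra.leftMulMatrix_apply, map_smul, Matrix.smul_apply, smul_eq_mul, mul_comm]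
      rfl
    exact Algebra.norm_eq_zero_iff.mp (e3 ▸ h0)

/-- Over a C₁ field a finite-dimensional central division algebra is trivial. -/
theorem finrank_eq_one_of_isCr {K : Type u} [Field K] (hK : Curves.IsCr K 1) (D : Type v)
    [DivisionRing D] [Algebra K D] [Algebra.IsCentral K D] [FiniteDimensional K D] :
    Module.finrank K D = 1 := by
  classical
  by_cases hfin : Finite K
  · haveI : Finite D := Module.finite_of_finite K
    have : (⊤ : Subalgebra K D) = ⊥ := by
      refine le_antisymm (fun x _ => ?_) bot_le
      rw [← Algebra.IsCentral.center_eq_bot K D, Subalgebra.mem_center_iff]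
      exact fun y => (littleWedderburn D).mul_comm y x
    exact Subalgebra.bot_eq_top_iff_finrank_eq_one.mp this.symm
  haveI : Infinite K := not_finite_iff_infinite.mp hfin
  obtain ⟨E, hE, hgal, hspl⟩ := CSALib.exists_galois_splitting_field (k := K) D
  obtain ⟨n, hn, ⟨φ⟩⟩ := hspl
  have hdim : Module.finrank K D = n ^ 2 := CSALib.card_eq_finrank φ
  by_contra hne
  have hn2 : 1 < n := by
    rcases n with _ | _ | n
    · exact absurd rfl hn
    · exact absurd (by simpa using hdim) hne
    · omega
  let N := Module.finrank K D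
  let b := Module.finBasis K D
  let M : Matrix (Fin n) (Fin n) (MvPolynomial (Fin N) E) :=
    Matrix.of fun p q => ∑ i, φ (1 ⊗ₜ b i) p q • X i
  let G := M.det
  have hG : G.IsHomogeneous n := by
    have := isHomogeneous_det M (d := 1) fun p q => by
      simp only [M, Matrix.of_apply]
      refine MvPolynomial.IsHomogeneous.sum _ _ _ fun i _ => ?_
      rw [MvPolynomial.smul_eq_C_mul]
      exact (MvPolynomial.isHomogeneous_X E _).C_mul _
    rwa [mul_one] at this
  have hev : ∀ x : Fin N → K, MvPolynomial.eval (fun i => algebraMap K E (x i)) G =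
      (φ (1 ⊗ₜ ∑ i, x i • b i)).det := by
    intro x
    rw [RingHom.map_det]
    congr 1
    refine Matrix.ext fun p q => ?_
    simp only [RingHom.mapMatrix_apply, Matrix.map_apply, M, Matrix.of_apply, map_sum,
      MvPolynomial.smul_eq_C_mul, map_mul, MvPolynomial.eval_C, MvPolynomial.eval_X,
      TensorProduct.tmul_sum, Matrix.sum_apply]
    refine Finset.sum_congr rfl fun i _ => ?_
    rw [TensorProduct.tmul_smul, ← algebraMap_smul E (x i), map_smul, Matrix.smul_apply, smul_eq_mul,
      mul_comm]
  have hfix : ∀ (σ : E ≃ₐ[K] E) (a : D), σ (φ (1 ⊗ₜ a)).det = (φ (1 ⊗ₜ a)).det := by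
    intro σ a
    let P := (φ (1 ⊗ₜ[K] a)).charpoly
    have hP : P.map (σ : E →+* E) = P := by
      have h1 := CSALib.charpoly_mulLeft_map φ a
      have h2 := congrArg (Polynomial.map (σ : E →+* E)) h1
      rw [Polynomial.map_map, Polynomial.map_pow, show (σ : E →+* E).comp (algebraMap K E) = algebraMap K E from
        RingHom.ext σ.commutes] at h2
      have h3 : (P.map (σ : E →+* E)) ^ n = P ^ n := h2.symm.trans h1
      refine Polynomial.eq_of_monic_of_associated ((Matrix.charpoly_monic _).map _) (Matrix.charpoly_monic _)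
        (associated_of_dvd_dvd ?_ ?_)
      · exact (IsIntegrallyClosed.pow_dvd_pow_iff hn).1 (by rw [h3])
      · exact (IsIntegrallyClosed.pow_dvd_pow_iff hn).1 (by rw [h3])
    rw [Matrix.det_eq_sign_charpoly_coeff, map_mul, map_pow, map_neg, map_one]
    congr 1
    have := congrArg (fun p => Polynomial.coeff p 0) hP
    rwa [Polynomial.coeff_map] at this
  have hGσ : ∀ σ : E ≃ₐ[K] E, MvPolynomial.map (σ : E →+* E) G = G := by
    intro σ
    refine MvPolynomial.funext_set (fun _ => Set.range (algebraMap K E))
      (fun _ => Set.infinite_range_of_injective (algebraMap K E).injective) fun x hx => ?_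
    choose y hy using fun i => hx i (Set.mem_univ i)
    obtain rfl : x = fun i => algebraMap K E (y i) := funext fun i => (hy i).symm
    rw [hev, ← hfix σ, ← hev, MvPolynomial.eval_map]
    refine Eq.trans ?_ (MvPolynomial.eval₂_comp_left (σ : E →+* E) (RingHom.id E) _ G).symm
    congr 1
    funext i
    exact (σ.commutes (y i)).symm
  have hrange : G ∈ Set.range (MvPolynomial.map (algebraMap K E) : MvPolynomial (Fin N) K → _) := by
    refine RingHom.mem_range.mp (MvPolynomial.mem_range_map_iff_coeffs_subset.mpr ?_)
    intro c hc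
    obtain ⟨s, -, rfl⟩ := MvPolynomial.mem_coeffs_iff.mp hc
    refine (IsGalois.mem_range_algebraMap_iff_fixed _).mpr fun σ => ?_
    conv_rhs => rw [← hGσ σ, MvPolynomial.coeff_map]
    rfl
  obtain ⟨g, hg⟩ := hrange
  have hgh : g.IsHomogeneous n := fun s hs => hG (by
    rw [← hg, MvPolynomial.coeff_map]
    exact fun h => hs ((algebraMap K E).injective (h.trans (map_zero _).symm)))
  obtain ⟨a, ha, h0⟩ := hK N n g hgh (by omega) (by
    rw [pow_one, show N = n ^ 2 from hdim, sq]
    exact (Nat.lt_mul_iff_one_lt_left (by omega)).mpr hn2)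
  have hd0 : (∑ i, a i • b i) ≠ 0 := fun h => ha (funext fun i => by
    have := congrArg (fun z => b.repr z i) h
    simpa [Finsupp.single_apply] using this)
  refine (CSALib.isUnit_iff_det φ _).mp (isUnit_iff_ne_zero.mpr hd0) ?_
  rw [← hev, ← hg, MvPolynomial.eval_map]
  exact ((MvPolynomial.eval₂_comp_left (algebraMap K E) (RingHom.id K) a g).symm).trans
    ((congrArg (algebraMap K E) h0).trans (map_zero _))

end RichLib
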