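import Mathlib
import Groth.Agent.RichLib.FibreProper

/-!
# Immersions, open immersions and isomorphisms in the fibres form constructible sets (EGA IV 9.6.1)
-/

set_option autoImplicit false
universe u

open CategoryTheory CategoryTheory.Limits AlgebraicGeometry Topology TensorProduct

noncomputable section

namespace RichLib.FibreLoci

open RichLib.Strata

section Trace

variable {X Y : Type u} [TopologicalSpace X] [TopologicalSpace Y] (ι : X → Y)
  (hι : IsEmbedding ι) (F Z : Set Y)

include hι in
theorem isOpen_preimage_iff_trace (hr : Set.range ι = F) :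
    IsOpen (ι ⁻¹' Z) ↔ IsOpen (Subtype.val ⁻¹' Z : Set F) := by
  rw [← isOpen_trace_iff ι hι F Z hr.ge]
  have hu : ι ⁻¹' F = Set.univ := Set.eq_univ_of_forall fun x => hr ▸ ⟨x, rfl⟩
  refine ⟨fun h => h.preimage continuous_subtype_val, fun h => ?_⟩
  have h2 := h.preimage (continuous_id.subtype_mk (fun x : X => show x ∈ ι ⁻¹' F from hu ▸ trivial))
  exact h2

include hι in
theorem isLocallyClosed_preimage_iff_trace (hr : Set.range ι = F) :
    IsLocallyClosed (ι ⁻¹' Z) ↔ IsLocallyClosed (Subtype.val ⁻¹' Z : Set F) := by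
  rw [← isLocallyClosed_trace_iff ι hι F Z hr.ge]
  have hu : ι ⁻¹' F = Set.univ := Set.eq_univ_of_forall fun x => hr ▸ ⟨x, rfl⟩
  refine ⟨fun h => h.preimage continuous_subtype_val, fun h => ?_⟩
  have h2 := h.preimage (continuous_id.subtype_mk (fun x : X => show x ∈ ι ⁻¹' F from hu ▸ trivial))
  exact h2

end Trace

theorem isLocallyConstructible_sdiff {X : Type u} [TopologicalSpace X] {A B : Set X}
    (hA : IsLocallyConstructible A) (hB : IsLocallyConstructible B) :
    IsLocallyConstructible (A \ B) :=
  hA.inter (RichLib.FibreRange.isLocallyConstructible_compl hB)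

variable {X Y S : Scheme.{u}} (f : X ⟶ Y) (g : Y ⟶ S)

theorem range_fib {T : Scheme.{u}} (t : T ⟶ S) :
    Set.range (fib f g t).base = (pullback.fst g t).base ⁻¹' Set.range f.base := by
  have h := image_preimage_of_isPullback (IsPullback.of_hasPullback f (pullback.fst g t)) Set.univ
  rwa [Set.preimage_univ, Set.image_univ, Set.image_univ] at h

/-- a qc open with prescribed trace on a noetherian subscheme -/
theorem exists_qc_open {X' X : Scheme.{u}} (i : X' ⟶ X) [IsPreimmersion i] [IsNoetherian X']
    {V : Set X'} (hV : IsOpen V) :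
    ∃ W : X.Opens, IsCompact (W : Set X) ∧ i.base ⁻¹' (W : Set X) = V := by
  obtain ⟨O, hO, rfl⟩ := i.isEmbedding.isInducing.isOpen_iff.mp hV
  choose U hU hyU hUO using fun y : ↥(i.base ⁻¹' O) =>
    X.isBasis_affineOpens.exists_subset_of_mem_open y.2 hO
  obtain ⟨T, hT⟩ := ((TopologicalSpace.NoetherianSpace.isCompact (i.base ⁻¹' O)).image i.continuous).elim_finite_subcover
    U (fun y => by obtain ⟨W, -, hW⟩ := hU y; rw [← hW]; exact W.2)
    (by rintro _ ⟨x, hx, rfl⟩; exact Set.mem_iUnion.mpr ⟨⟨x, hx⟩, hyU ⟨x, hx⟩⟩)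
  refine ⟨⟨⋃ y ∈ T, U y, isOpen_iUnion fun y => isOpen_iUnion fun _ => by
      obtain ⟨W', -, h⟩ := hU y; rw [← h]; exact W'.2⟩,
    T.isCompact_biUnion fun y _ => by obtain ⟨W', hW', h⟩ := hU y; rw [← h]; exact hW'.isCompact, ?_⟩
  refine Set.Subset.antisymm (fun x hx => ?_) fun x hx => hT ⟨x, hx, rfl⟩
  obtain ⟨y, hy, hxy⟩ := Set.mem_iUnion₂.mp hx
  exact hUO y hxy

/-- restriction of a fibre over an open of the target -/
theorem piece_iff (P : MorphismProperty Scheme.{u}) [P.RespectsIso] {W : Scheme.{u}} (ι : W ⟶ Y)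
    {T : Scheme.{u}} (t : T ⟶ S) :
    P (pullback.snd (fib f g t) (pullback.fst (pullback.fst g t) ι)) ↔
      P (fib (pullback.snd f ι) (ι ≫ g) t) := by
  let a := pullback.fst g t
  let m := pullback.fst a ι
  refine iff_of_isPullback P
    ((IsPullback.of_hasPullback a ι).flip.paste_vert (IsPullback.of_hasPullback g t))
    (a := pullback.lift (pullback.fst (fib f g t) m ≫ pullback.fst f a)
      (pullback.snd (fib f g t) m ≫ pullback.snd a ι) (by
        rw [Category.assoc, Category.assoc, pullback.condition (f := f),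
          ← pullback.condition (f := a), pullback.condition_assoc])) ?_
  refine IsPullback.of_right ?_ (pullback.lift_snd _ _ _) (IsPullback.of_hasPullback f ι)
  rw [pullback.lift_fst, ← pullback.condition]
  exact (IsPullback.of_hasPullback _ _).paste_horiz (IsPullback.of_hasPullback f a)

theorem range_fst_fst {W : Scheme.{u}} (ι : W ⟶ Y) {T : Scheme.{u}} (t : T ⟶ S) :
    Set.range (pullback.fst (pullback.fst g t) ι).base = (pullback.fst g t).base ⁻¹' Set.range ι.base :=
  Scheme.Pullback.range_fst _ _

/-- a fibre landing in an open factors through the restriction over it -/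
theorem exists_fac {W : Scheme.{u}} (ι : W ⟶ Y) [IsOpenImmersion ι] {T : Scheme.{u}} (t : T ⟶ S)
    (h : (pullback.fst g t).base ⁻¹' Set.range f.base ⊆ (pullback.fst g t).base ⁻¹' Set.range ι.base) :
    IsIso (pullback.fst (fib f g t) (pullback.fst (pullback.fst g t) ι)) := by
  set j := pullback.fst (fib f g t) (pullback.fst (pullback.fst g t) ι) with hj
  have hr : Set.range j.base = Set.univ := by
    rw [hj, Scheme.Pullback.range_fst, Scheme.Pullback.range_fst, Set.eq_univ_iff_forall]
    intro x
    refine h ?_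
    rw [← range_fib f g t]
    exact ⟨x, rfl⟩
  haveI : Surjective j := ⟨Set.range_eq_univ.mp hr⟩
  exact (isIso_iff_isOpenImmersion_and_surjective j).mpr ⟨inferInstance, ‹_›⟩

theorem isoSpec_inv_appTop (Z : Scheme.{u}) [IsAffine Z] (b : Γ(Z, ⊤)) :
    Z.isoSpec.inv.appTop.hom b = (Scheme.ΓSpecIso Γ(Z, ⊤)).inv.hom b := by
  have h : Z.isoSpec.hom.appTop.hom ((Scheme.ΓSpecIso Γ(Z, ⊤)).inv.hom b) = b := by
    have : (Scheme.ΓSpecIso Γ(Z, ⊤)).inv ≫ Z.isoSpec.hom.appTop = 𝟙 _ := by
      rw [show Z.isoSpec.hom = Z.toSpecΓ from rfl, Scheme.toSpecΓ_appTop, Iso.inv_hom_id]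
    exact congr($(this).hom b)
  conv_lhs => rw [← h]
  rw [← RichLib.LimBC.appTop_comp, Iso.inv_hom_id, Scheme.Hom.id_appTop]
  rfl

theorem exists_residue_iso {R : CommRingCat.{u}} (e : S ≅ Spec R) (s : S) :
    ∃ i : Spec (S.residueField s) ⟶ Spec (CommRingCat.of (e.hom.base s).asIdeal.ResidueField),
      IsIso i ∧ i ≫ Spec.map (CommRingCat.ofHom
        (algebraMap R (e.hom.base s).asIdeal.ResidueField)) ≫ e.inv = S.fromSpecResidueField s := by
  refine ⟨Spec.map (e.hom.residueFieldMap s) ≫
    Spec.map (Scheme.Spec.residueFieldIso R (e.hom.base s)).inv, inferInstance, ?_⟩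
  rw [Category.assoc, Scheme.Spec.map_residueFieldIso_inv_eq_fromSpecResidueField_assoc,
    ← Category.assoc, Iso.comp_inv_eq]
  exact Scheme.Hom.SpecMap_residueFieldMap_fromSpecResidueField e.hom s

theorem isPullback_of_isPushout [IsAffine Y] [IsAffine S] {κ C : CommRingCat.{u}}
    (σ : Γ(S, ⊤) ⟶ κ) (φ : Γ(Y, ⊤) ⟶ C) (ψ : κ ⟶ C) (hpo : IsPushout σ g.appTop ψ φ) :
    IsPullback (Spec.map φ ≫ Y.isoSpec.inv) (Spec.map ψ) g (Spec.map σ ≫ S.isoSpec.inv) :=
  (isPullback_SpecMap_of_isPushout _ _ _ _ hpo).flip.paste_horiz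
    (IsPullback.of_horiz_isIso ⟨(Scheme.isoSpec_inv_naturality g).symm⟩)

theorem appTop_fst_eq_zero_iff [IsAffine Y] {T : Scheme.{u}} {t : T ⟶ S} {C : CommRingCat.{u}}
    {φ : Γ(Y, ⊤) ⟶ C} {v : Spec C ⟶ T}
    (h : IsPullback (Spec.map φ ≫ Y.isoSpec.inv) v g t) (b : Γ(Y, ⊤)) :
    (pullback.fst g t).appTop.hom b = 0 ↔ φ.hom b = 0 := by
  have hinj : ∀ {Z Z' : Scheme.{u}} (i : Z ⟶ Z') [IsIso i], Function.Injective i.appTop.hom := by
    intro Z Z' i _ x y hxy
    have := congrArg (inv i).appTop.hom hxy
    rw [← RichLib.LimBC.appTop_comp, ← RichLib.LimBC.appTop_comp, IsIso.inv_hom_id,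
      Scheme.Hom.id_appTop] at this
    exact this
  rw [← h.isoPullback_inv_fst, RichLib.LimBC.appTop_comp, map_eq_zero_iff _ (hinj _),
    RichLib.LimBC.appTop_comp, isoSpec_inv_appTop]
  rw [show (Spec.map φ).appTop.hom ((Scheme.ΓSpecIso Γ(Y, ⊤)).inv.hom b) =
      (Scheme.ΓSpecIso _).inv.hom (φ.hom b) from (congr($(Scheme.ΓSpecIso_inv_naturality φ).hom b)).symm]
  exact map_eq_zero_iff _ (ConcreteCategory.bijective_of_isIso (Scheme.ΓSpecIso _).inv).1

theorem isPullback_iso_change {T T' Z : Scheme.{u}} {a : Z ⟶ Y} {v : Z ⟶ T} {t : T ⟶ S}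
    (h : IsPullback a v g t) (i : T' ⟶ T) [IsIso i] : IsPullback a (v ≫ inv i) g (i ≫ t) :=
  h.of_iso (Iso.refl _) (Iso.refl _) (asIso i).symm (Iso.refl _) (by simp) (by simp) (by simp) (by simp)

theorem isConstructible_appTop_eq_zero_aux [CompactSpace S] [QuasiSeparatedSpace S] {A B : Type u}
    [CommRing A] [CommRing B] [Algebra A B]
    [Algebra.FinitePresentation A B] (e : S ≅ Spec (CommRingCat.of A)) (b : B) :
    IsConstructible {s : S | (1 : (e.hom.base s).asIdeal.ResidueField) ⊗ₜ[A] b = 0} :=
  ((isConstructible_zeroIn (A := A) b).isLocallyConstructible.preimage_of_isOpenEmbedding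
    e.hom.isOpenEmbedding).isConstructible

/-- sections vanishing in a fibre -/
theorem isConstructible_appTop_eq_zero [IsAffine Y] [IsAffine S] [LocallyOfFinitePresentation g]
    (b : Γ(Y, ⊤)) :
    IsConstructible {s : S | (pullback.fst g (S.fromSpecResidueField s)).appTop.hom b = 0} := by
  have hg : g.appTop.hom.FinitePresentation :=
    (HasRingHomProperty.iff_of_isAffine (P := @LocallyOfFinitePresentation)).mp ‹_›
  algebraize [g.appTop.hom]
  convert isConstructible_appTop_eq_zero_aux (A := Γ(S, ⊤)) (B := Γ(Y, ⊤)) S.isoSpec b using 1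
  ext s
  obtain ⟨i, hi, his⟩ := exists_residue_iso S.isoSpec s
  let κ := (S.isoSpec.hom.base s).asIdeal.ResidueField
  have hY := isPullback_of_isPushout g
    (CommRingCat.ofHom (algebraMap Γ(S, ⊤) κ))
    (CommRingCat.ofHom
      (Algebra.TensorProduct.includeRight : Γ(Y, ⊤) →ₐ[Γ(S, ⊤)] κ ⊗[Γ(S, ⊤)] Γ(Y, ⊤)).toRingHom)
    (CommRingCat.ofHom (Algebra.TensorProduct.includeLeftRingHom : κ →+* κ ⊗[Γ(S, ⊤)] Γ(Y, ⊤)))
    (CommRingCat.isPushout_tensorProduct Γ(S, ⊤) κ Γ(Y, ⊤))
  have hY' := isPullback_iso_change g hY i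
  rw [his] at hY'
  exact (appTop_fst_eq_zero_iff g hY' b)

/-- a closed immersion becomes an isomorphism once the base change kills its kernel -/
theorem isIso_snd_iff {X Y Y' : Scheme.{u}} (f : X ⟶ Y) [IsClosedImmersion f] [IsAffine Y]
    (a : Y' ⟶ Y) : IsIso (pullback.snd f a) ↔ RingHom.ker f.appTop.hom ≤ RingHom.ker a.appTop.hom := by
  constructor
  · intro h b hb
    rw [RingHom.mem_ker] at hb ⊢
    have : a = inv (pullback.snd f a) ≫ pullback.fst f a ≫ f := by
      rw [pullback.condition, IsIso.inv_hom_id_assoc]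
    rw [this, RichLib.LimBC.appTop_comp, RichLib.LimBC.appTop_comp, hb, map_zero, map_zero]
  · intro h
    obtain ⟨haff, hsurj⟩ := IsClosedImmersion.isAffine_surjective_of_isAffine (f := f)
    haveI : IsAffine X := haff
    let l : Γ(X, ⊤) ⟶ Γ(Y', ⊤) :=
      CommRingCat.ofHom (f.appTop.hom.liftOfSurjective hsurj ⟨a.appTop.hom, h⟩)
    let σ : Y' ⟶ X := Y'.toSpecΓ ≫ Spec.map l ≫ X.isoSpec.inv
    have hσ : σ ≫ f = a := by
      have hl : f.appTop ≫ l = a.appTop := CommRingCat.hom_ext (RingHom.ext fun b =>
        RingHom.liftOfRightInverse_comp_apply _ _ (Function.rightInverse_surjInv hsurj) ⟨a.appTop.hom, h⟩ b)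
      simp only [σ, Category.assoc]
      rw [← Scheme.isoSpec_inv_naturality f, ← Category.assoc (Spec.map l), ← Spec.map_comp, hl,
        ← Category.assoc, ← Scheme.toSpecΓ_naturality, Category.assoc,
        show Y.toSpecΓ = Y.isoSpec.hom from rfl, Iso.hom_inv_id, Category.comp_id]
    haveI : IsSplitEpi (pullback.snd f a) :=
      ⟨⟨⟨pullback.lift σ (𝟙 _) (by rw [hσ, Category.id_comp]), pullback.lift_snd _ _ _⟩⟩⟩
    exact isIso_of_mono_of_isSplitEpi _

theorem isConstructible_loc_iso_affine [IsAffine Y] [IsAffine S] [IsClosedImmersion f]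
    [LocallyOfFinitePresentation g] [LocallyOfFinitePresentation f] :
    IsConstructible (loc f g (MorphismProperty.isomorphisms Scheme.{u})) := by
  obtain ⟨haff, hsurj⟩ := IsClosedImmersion.isAffine_surjective_of_isAffine (f := f)
  haveI : IsAffine X := haff
  have hfp : f.appTop.hom.FinitePresentation :=
    (HasRingHomProperty.iff_of_isAffine (P := @LocallyOfFinitePresentation)).mp ‹_›
  have hk : (RingHom.ker f.appTop.hom).FG := by
    algebraize [f.appTop.hom]
    exact Algebra.FinitePresentation.ker_fG_of_surjective (Algebra.ofId Γ(Y, ⊤) Γ(X, ⊤)) hsurj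
  obtain ⟨K, hK⟩ := hk
  have key : loc f g (MorphismProperty.isomorphisms Scheme.{u}) =
      ⋂ b ∈ K, {s : S | (pullback.fst g (S.fromSpecResidueField s)).appTop.hom b = 0} := by
    ext s
    refine (isIso_snd_iff f _).trans ?_
    rw [← hK, Ideal.span_le, Set.mem_iInter₂]
    rfl
  rw [key]
  exact IsConstructible.biInter K.finite_toSet fun b _ => isConstructible_appTop_eq_zero g b

theorem isConstructible_loc_iso_of_isClosedImmersion [IsAffine S] [IsClosedImmersion f]
    [LocallyOfFinitePresentation g] [QuasiCompact g] [LocallyOfFinitePresentation f] :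
    IsConstructible (loc f g (MorphismProperty.isomorphisms Scheme.{u})) := by
  haveI : CompactSpace Y := QuasiCompact.compactSpace_of_compactSpace g
  let 𝒰 := Y.affineCover.finiteSubcover
  have key : loc f g (MorphismProperty.isomorphisms Scheme.{u}) =
      ⋂ k ∈ (Set.univ : Set 𝒰.I₀),
        loc (pullback.snd f (𝒰.f k)) (𝒰.f k ≫ g) (MorphismProperty.isomorphisms Scheme.{u}) := by
    ext s
    rw [Set.mem_iInter₂]
    constructor
    · intro h k _
      exact (piece_iff f g (MorphismProperty.isomorphisms Scheme.{u}) (𝒰.f k) _).mp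
        (MorphismProperty.pullback_snd _ _ h)
    · intro h
      exact IsZariskiLocalAtTarget.of_openCover (𝒰.pullback₁ (pullback.fst g _)) fun k =>
        (piece_iff f g (MorphismProperty.isomorphisms Scheme.{u}) (𝒰.f k) _).mpr (h k trivial)
  rw [key]
  refine IsConstructible.biInter (Set.toFinite _) fun k _ => ?_
  haveI : IsAffine (𝒰.X k) := inferInstanceAs (IsAffine (Spec _))
  exact isConstructible_loc_iso_affine _ _

section Loci

variable [IsAffine S] [LocallyOfFinitePresentation g] [QuasiCompact g] [QuasiSeparated g]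
  [LocallyOfFinitePresentation (f ≫ g)] [QuasiCompact (f ≫ g)] [QuasiSeparated (f ≫ g)]

theorem isConstructible_loc_iso : IsConstructible (loc f g (MorphismProperty.isomorphisms Scheme.{u})) := by
  haveI : LocallyOfFinitePresentation f := Groth.Agent.S12442.result f g
  haveI : QuasiCompact f := .of_comp f g
  haveI : QuasiSeparated f := .of_comp f g
  haveI : CompactSpace Y := QuasiCompact.compactSpace_of_compactSpace g
  refine isConstructible_of_forall_nhd _ fun s => ?_
  by_cases hs : s ∈ loc f g @IsClosedImmersion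
  · obtain ⟨T, ι, _, _, _, hsι, hP⟩ := exists_stratum f g @IsClosedImmersion
      (fun B hB => RichLib.LimBC.exists_at_isClosedImmersion B f hB) hs
    haveI : IsClosedImmersion (fib f g ι) := hP
    exact exists_nhd_of_stratum _ ι hsι (isConstructible_loc_iso_of_isClosedImmersion _ _)
  · refine ⟨_, (isConstructible_loc_closedImmersion f g).compl, hs, Or.inr ?_⟩
    refine Set.disjoint_left.mpr fun t ht ht' => ht ?_
    haveI : IsIso (fib f g (S.fromSpecResidueField t)) := ht'
    exact (inferInstance : IsClosedImmersion (fib f g (S.fromSpecResidueField t)))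

/-- the instances of a restriction over a qc open of the target -/
theorem instances_piece (W : Y.Opens) (hW : IsCompact (W : Set Y)) :
    LocallyOfFinitePresentation (W.ι ≫ g) ∧ QuasiCompact (W.ι ≫ g) ∧ QuasiSeparated (W.ι ≫ g) ∧
    LocallyOfFinitePresentation (pullback.snd f W.ι ≫ W.ι ≫ g) ∧
    QuasiCompact (pullback.snd f W.ι ≫ W.ι ≫ g) ∧ QuasiSeparated (pullback.snd f W.ι ≫ W.ι ≫ g) := by
  haveI : QuasiSeparatedSpace Y := quasiSeparatedSpace_of_quasiSeparated g
  haveI : CompactSpace W.toScheme := isCompact_iff_compactSpace.mp hW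
  haveI : QuasiCompact W.ι := quasiCompact_of_compactSpace _
  rw [← pullback.condition_assoc]
  exact ⟨inferInstance, inferInstance, inferInstance, inferInstance, inferInstance, inferInstance⟩

include g in
theorem isConstructible_range : IsLocallyConstructible (Set.range f.base) := by
  haveI : LocallyOfFinitePresentation f := Groth.Agent.S12442.result f g
  haveI : QuasiCompact f := .of_comp f g
  rw [← Set.image_univ]; exact f.isLocallyConstructible_image IsLocallyConstructible.univ

theorem isNoetherian_fibre (s : S) : IsNoetherian (pullback g (S.fromSpecResidueField s)) := by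
  haveI : LocallyOfFiniteType (pullback.snd g (S.fromSpecResidueField s)) := inferInstance
  haveI := LocallyOfFiniteType.isLocallyNoetherian (pullback.snd g (S.fromSpecResidueField s))
  haveI : CompactSpace ↥(pullback g (S.fromSpecResidueField s)) :=
    QuasiCompact.compactSpace_of_compactSpace (pullback.snd g (S.fromSpecResidueField s))
  exact {}

/-- the points over which a constructible subset of `Y` has empty fibre -/
theorem isConstructible_empty_fibre {E : Set Y} (hE : IsLocallyConstructible E) :
    IsConstructible {s : S | (pullback.fst g (S.fromSpecResidueField s)).base ⁻¹' E = ∅} := by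
  have h : {s : S | (pullback.fst g (S.fromSpecResidueField s)).base ⁻¹' E = ∅} = (g.base '' E)ᶜ := by
    ext s
    rw [Set.mem_ofPred_eq, Set.preimage_eq_empty_iff, range_fst_fromSpec, Set.mem_compl_iff,
      Set.disjoint_left]
    exact ⟨fun h ⟨y, hy, hys⟩ => h hy hys, fun h y hy hys => h ⟨y, hy, hys⟩⟩
  rw [h]
  exact (g.isLocallyConstructible_image hE).isConstructible.compl

theorem isConstructible_loc_openImmersion : IsConstructible (loc f g @IsOpenImmersion) := by
  have hR := isConstructible_range f g
  haveI : CompactSpace Y := QuasiCompact.compactSpace_of_compactSpace g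
  haveI : QuasiSeparatedSpace Y := quasiSeparatedSpace_of_quasiSeparated g
  refine isConstructible_of_forall_nhd _ fun s => ?_
  let OL : Set S := {t | IsOpen (Subtype.val ⁻¹' Set.range f.base : Set ↥(g.base ⁻¹' {t}))}
  have hOL : ∀ t, t ∈ OL ↔ IsOpen (Set.range (fib f g (S.fromSpecResidueField t)).base) := fun t => by
    rw [range_fib, isOpen_preimage_iff_trace _ (pullback.fst g _).isEmbedding _ _
      (range_fst_fromSpec g t)]
    rfl
  by_cases hsO : s ∈ OL
  swap
  · refine ⟨_, (isLocallyConstructible_fibreLoci g hR).2.1.isConstructible.compl, hsO,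
      Or.inr (Set.disjoint_left.mpr fun t ht ht' => ht ((hOL t).mpr ?_))⟩
    haveI : IsOpenImmersion (fib f g (S.fromSpecResidueField t)) := ht'
    exact (fib f g (S.fromSpecResidueField t)).isOpenEmbedding.isOpen_range
  haveI := isNoetherian_fibre g s
  obtain ⟨W, hWc, hW⟩ := exists_qc_open (pullback.fst g (S.fromSpecResidueField s)) ((hOL s).mp hsO)
  obtain ⟨_, _, _, _, _, _⟩ := instances_piece f g W hWc
  let D : Set S := {t | (pullback.fst g (S.fromSpecResidueField t)).base ⁻¹'
    ((Set.range f.base \ W) ∪ ((W : Set Y) \ Set.range f.base)) = ∅}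
  have hWl : IsLocallyConstructible (W : Set Y) := (hWc.isConstructible W.2).isLocallyConstructible
  have hD : IsConstructible D := isConstructible_empty_fibre g ((isLocallyConstructible_sdiff hR hWl).union (isLocallyConstructible_sdiff hWl hR))
  have hDeq : ∀ t, t ∈ D ↔ (pullback.fst g (S.fromSpecResidueField t)).base ⁻¹' Set.range f.base =
      (pullback.fst g (S.fromSpecResidueField t)).base ⁻¹' (W : Set Y) := fun t => by
    refine ⟨fun h => Set.ext fun y => ?_, fun h => Set.eq_empty_iff_forall_notMem.mpr fun y hy => ?_⟩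
    · have := Set.eq_empty_iff_forall_notMem.mp h y
      simp only [Set.mem_preimage, Set.mem_union, Set.mem_sdiff, SetLike.mem_coe] at this ⊢
      tauto
    · have := Set.ext_iff.mp h y
      simp only [Set.mem_preimage, Set.mem_union, Set.mem_sdiff, SetLike.mem_coe] at this hy
      tauto
  have hsD : s ∈ D := (hDeq s).mpr (by rw [hW, range_fib])
  let E := loc (pullback.snd f W.ι) (W.ι ≫ g) (MorphismProperty.isomorphisms Scheme.{u})
  have hE : IsConstructible E := isConstructible_loc_iso _ _
  have key : ∀ t ∈ D, t ∈ loc f g @IsOpenImmersion ↔ t ∈ E := by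
    intro t ht
    let T := S.fromSpecResidueField t
    have h1 := (hDeq t).mp ht
    rw [← W.range_ι] at h1
    haveI := exists_fac f g W.ι T h1.le
    refine Iff.trans ?_ (piece_iff f g (MorphismProperty.isomorphisms Scheme.{u}) W.ι T)
    set m := pullback.fst (pullback.fst g T) W.ι
    set j := pullback.fst (fib f g T) m
    set p := pullback.snd (fib f g T) m
    have hj : fib f g T = inv j ≫ p ≫ m := by rw [IsIso.eq_inv_comp]; exact pullback.condition
    constructor
    · intro (h : IsOpenImmersion (fib f g T))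
      haveI : IsOpenImmersion (p ≫ m) := by
        rw [← pullback.condition]
        infer_instance
      haveI : IsOpenImmersion p := IsOpenImmersion.of_comp p m
      haveI : Surjective p := ⟨fun y => by
        obtain ⟨x, hx⟩ : m.base y ∈ Set.range (fib f g T).base := by
          rw [range_fib, h1, ← range_fst_fst]; exact ⟨y, rfl⟩
        refine ⟨(inv j).base x, m.isOpenEmbedding.injective ?_⟩
        rw [← Scheme.Hom.comp_apply, ← Scheme.Hom.comp_apply, ← hj, hx]⟩
      exact (isIso_iff_isOpenImmersion_and_surjective p).mpr ⟨inferInstance, ‹_›⟩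
    · intro (h : IsIso p)
      show IsOpenImmersion (fib f g T)
      rw [hj]
      infer_instance
  by_cases hsE : s ∈ E
  · exact ⟨D ∩ E, hD.inter hE, ⟨hsD, hsE⟩, Or.inl fun t ht => (key t ht.1).mpr ht.2⟩
  · exact ⟨D ∩ Eᶜ, hD.inter hE.compl, ⟨hsD, hsE⟩,
      Or.inr (Set.disjoint_left.mpr fun t ht ht' => ht.2 ((key t ht.1).mp ht'))⟩

theorem isConstructible_loc_immersion : IsConstructible (loc f g @IsImmersion) := by
  have hR := isConstructible_range f g
  haveI : CompactSpace Y := QuasiCompact.compactSpace_of_compactSpace g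
  haveI : QuasiSeparatedSpace Y := quasiSeparatedSpace_of_quasiSeparated g
  refine isConstructible_of_forall_nhd _ fun s => ?_
  let LL : Set S := {t | IsLocallyClosed (Subtype.val ⁻¹' Set.range f.base : Set ↥(g.base ⁻¹' {t}))}
  have hLL : ∀ t, t ∈ LL ↔ IsLocallyClosed (Set.range (fib f g (S.fromSpecResidueField t)).base) :=
    fun t => by
      rw [range_fib, isLocallyClosed_preimage_iff_trace _ (pullback.fst g _).isEmbedding _ _
        (range_fst_fromSpec g t)]
      rfl
  by_cases hsL : s ∈ LL
  swap
  · refine ⟨_, (isLocallyConstructible_fibreLoci g hR).2.2.isConstructible.compl, hsL,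
      Or.inr (Set.disjoint_left.mpr fun t ht ht' => ht ((hLL t).mpr ?_))⟩
    haveI : IsImmersion (fib f g (S.fromSpecResidueField t)) := ht'
    exact (fib f g (S.fromSpecResidueField t)).isLocallyClosed_range
  haveI := isNoetherian_fibre g s
  let as := pullback.fst g (S.fromSpecResidueField s)
  let fs := fib f g (S.fromSpecResidueField s)
  obtain ⟨W, hWc, hW⟩ := exists_qc_open as (V := coborder (Set.range fs.base))
    (isLocallyClosed_iff_isOpen_coborder.mp ((hLL s).mp hsL))
  obtain ⟨_, _, _, _, _, _⟩ := instances_piece f g W hWc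
  have hWl : IsLocallyConstructible (W : Set Y) := (hWc.isConstructible W.2).isLocallyConstructible
  let R' : Set W.toScheme := W.ι.base ⁻¹' Set.range f.base
  have hR' : IsLocallyConstructible R' := hR.preimage_of_isOpenEmbedding W.ι.isOpenEmbedding
  let D : Set S := {t | (pullback.fst g (S.fromSpecResidueField t)).base ⁻¹' (Set.range f.base \ W) = ∅}
  let D' : Set S := {t | IsClosed (Subtype.val ⁻¹' R' : Set ↥((W.ι ≫ g).base ⁻¹' {t}))}
  have hD : IsConstructible D := isConstructible_empty_fibre g (isLocallyConstructible_sdiff hR hWl)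
  have hD' : IsConstructible D' := (isLocallyConstructible_fibreLoci (W.ι ≫ g) hR').1.isConstructible
  have hD'eq : ∀ t, t ∈ D' ↔ IsClosed
      (Set.range (pullback.snd (fib f g (S.fromSpecResidueField t))
        (pullback.fst (pullback.fst g (S.fromSpecResidueField t)) W.ι)).base) := fun t => by
    set T := S.fromSpecResidueField t
    set m := pullback.fst (pullback.fst g T) W.ι
    have sq : IsPullback (pullback.snd (pullback.fst g T) W.ι) (m ≫ pullback.snd g T) (W.ι ≫ g) T :=
      (IsPullback.of_hasPullback (pullback.fst g T) W.ι).flip.paste_vert (IsPullback.of_hasPullback g T)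
    have hr : Set.range (pullback.snd (pullback.fst g T) W.ι).base = (W.ι ≫ g).base ⁻¹' {t} := by
      rw [← range_fst_fromSpec (W.ι ≫ g) t, ← sq.isoPullback_hom_fst]
      simp only [Scheme.Hom.comp_base, TopCat.coe_comp, Set.range_comp]
      rw [Set.range_eq_univ.mpr sq.isoPullback.hom.surjective, Set.image_univ]
    haveI : IsPreimmersion (pullback.snd (pullback.fst g T) W.ι) :=
      MorphismProperty.of_isPullback (P := @IsPreimmersion) sq.flip inferInstance
    have h3 : Set.range (pullback.snd (fib f g T) m).base =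
        (pullback.snd (pullback.fst g T) W.ι).base ⁻¹' R' := by
      have h4 := image_preimage_of_isPullback (IsPullback.of_hasPullback (fib f g T) m).flip.flip Set.univ
      rw [Set.preimage_univ, Set.image_univ, Set.image_univ] at h4
      rw [h4, range_fib f g T, ← Set.preimage_comp, ← Set.preimage_comp, ← TopCat.coe_comp, ← TopCat.coe_comp,
        ← Scheme.Hom.comp_base, ← Scheme.Hom.comp_base, pullback.condition]
    rw [h3, isClosed_preimage_iff_trace _ (pullback.snd (pullback.fst g T) W.ι).isEmbedding _ _ hr]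
    rfl
  have hsD : s ∈ D := Set.eq_empty_iff_forall_notMem.mpr fun y hy => hy.2 (by
    have : y ∈ Set.range fs.base := by rw [range_fib]; exact hy.1
    exact (hW ▸ subset_coborder this : y ∈ as.base ⁻¹' (W : Set Y)))
  have hsD' : s ∈ D' := (hD'eq s).mpr (by
    set m := pullback.fst as W.ι
    have h4 := image_preimage_of_isPullback (IsPullback.of_hasPullback fs m) Set.univ
    rw [Set.preimage_univ, Set.image_univ, Set.image_univ] at h4
    show IsClosed (Set.range (pullback.snd fs m).base)
    rw [h4]
    have h5 : m.base ⁻¹' Set.range fs.base = m.base ⁻¹' closure (Set.range fs.base) := by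
      refine Set.Subset.antisymm (Set.preimage_mono subset_closure) fun z hz => ?_
      have hzc : m.base z ∈ coborder (Set.range fs.base) := by
        rw [← hW, ← W.range_ι, ← range_fst_fst]; exact ⟨z, rfl⟩
      exact coborder_inter_closure (s := Set.range fs.base) ▸ ⟨hzc, hz⟩
    rw [h5]
    exact isClosed_closure.preimage m.continuous)
  let E := loc (pullback.snd f W.ι) (W.ι ≫ g) @IsClosedImmersion
  have hE : IsConstructible E := isConstructible_loc_closedImmersion _ _
  have key : ∀ t ∈ D ∩ D', t ∈ loc f g @IsImmersion ↔ t ∈ E := by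
    intro t ht
    let T := S.fromSpecResidueField t
    haveI := exists_fac f g W.ι T fun y hy => by
      rw [Set.mem_preimage, W.range_ι]
      by_contra hyW
      exact Set.eq_empty_iff_forall_notMem.mp ht.1 y ⟨hy, hyW⟩
    refine Iff.trans ?_ (piece_iff f g @IsClosedImmersion W.ι T)
    set m := pullback.fst (pullback.fst g T) W.ι
    set j := pullback.fst (fib f g T) m
    set p := pullback.snd (fib f g T) m
    have hj : fib f g T = inv j ≫ p ≫ m := by rw [IsIso.eq_inv_comp]; exact pullback.condition
    constructor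
    · intro (h : IsImmersion (fib f g T))
      haveI : IsImmersion (p ≫ m) := by
        rw [← pullback.condition]
        infer_instance
      haveI : IsImmersion p := IsImmersion.of_comp p m
      exact IsClosedImmersion.of_isPreimmersion _ ((hD'eq t).mp ht.2)
    · intro (h : IsClosedImmersion p)
      show IsImmersion (fib f g T)
      rw [hj]
      infer_instance
  by_cases hsE : s ∈ E
  · exact ⟨D ∩ D' ∩ E, (hD.inter hD').inter hE, ⟨⟨hsD, hsD'⟩, hsE⟩,
      Or.inl fun t ht => (key t ht.1).mpr ht.2⟩
  · exact ⟨D ∩ D' ∩ Eᶜ, (hD.inter hD').inter hE.compl, ⟨⟨hsD, hsD'⟩, hsE⟩,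
      Or.inr (Set.disjoint_left.mpr fun t ht ht' => ht.2 ((key t ht.1).mp ht'))⟩

end Loci

end RichLib.FibreLoci
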