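import Mathlib
import Groth.Agent.RichLib.LimitBaseChange

/-!
# Open maps in limits of schemes (EGA IV 8.3.8, 8.10)
-/

set_option autoImplicit false
universe u

open AlgebraicGeometry CategoryTheory Limits Topology Set

noncomputable section

namespace RichLib.LimOpen

variable {I : Type u} [SmallCategory I] [IsCofiltered I] {S : Scheme.{u}} (A : RichLib.LimBC.Sys I S)

/-- every open subset of the limit is a union of preimages of opens of the stages -/
theorem exists_nhd {U : Set A.c.pt} (hU : IsOpen U) {s : A.c.pt} (hs : s ∈ U) :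
    ∃ (j : I) (V : (A.D.obj j).Opens), A.c.π.app j s ∈ V ∧ (A.c.π.app j) ⁻¹' (V : Set (A.D.obj j)) ⊆ U := by
  haveI : ∀ {a b : I} (f : a ⟶ b), IsAffineHom (A.D.map f) := fun f => A.affine_map f
  obtain ⟨W, ⟨k, V, hV, rfl⟩, hsW, hWU⟩ := TopologicalSpace.Opens.isBasis_iff_nbhd.mp
    (isBasis_preimage_isAffineOpen A.D A.c A.hc) (U := ⟨U, hU⟩) hs
  exact ⟨k, V, hsW, fun t ht => hWU ht⟩

theorem isOpenMap_s (hsur : ∀ j, Function.Surjective (A.c.π.app j)) (ht : ∀ j, IsOpenMap (A.t j)) :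
    IsOpenMap A.s := fun U hU => by
  refine isOpen_iff_forall_mem_open.mpr ?_
  rintro _ ⟨s, hs, rfl⟩
  obtain ⟨j, V, hsV, hVU⟩ := exists_nhd A hU hs
  refine ⟨A.t j '' V, ?_, ht j _ V.2, A.c.π.app j s, hsV, by rw [← Scheme.Hom.comp_apply, A.hs]⟩
  rintro _ ⟨v, hv, rfl⟩
  obtain ⟨x, rfl⟩ := hsur j v
  exact ⟨x, hVU hv, by rw [← Scheme.Hom.comp_apply, A.hs]⟩

theorem isOpenMap_base_change {X : Scheme.{u}} (f : X ⟶ S)
    (h : ∀ j, IsOpenMap (pullback.snd f (A.t j))) : IsOpenMap (pullback.snd f A.s) := fun U hU => by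
  refine isOpen_iff_forall_mem_open.mpr ?_
  rintro _ ⟨s, hs, rfl⟩
  obtain ⟨j, V, hsV, hVU⟩ := exists_nhd (RichLib.LimBC.pb A f) hU hs
  have sq : IsPullback (RichLib.LimBC.pbπ A f j) (pullback.snd f A.s) (pullback.snd f (A.t j))
      (A.c.π.app j) := RichLib.LimBC.isPullback_cone A f j
  let V' : Set ↥(pullback f (A.t j)) := V.1
  refine ⟨pullback.snd f A.s '' ((RichLib.LimBC.pbπ A f j) ⁻¹' V'), ?_, ?_, s, hsV, rfl⟩
  · exact image_mono hVU
  · have := Scheme.image_preimage_eq_of_isPullback sq V'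
    rw [this]
    exact (h j V' V.2).preimage (A.c.π.app j).continuous

end RichLib.LimOpen
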