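import Mathlib
import Groth.Agent.ConsLib.ModLoci
import Groth.Agent.RichLib.ModFlatLimit

/-!
# A module flat at a point descends to a Noetherian model, flat at the image (EGA IV 11.2.7)
-/

set_option autoImplicit false
universe u

open CategoryTheory CategoryTheory.Limits AlgebraicGeometry TopologicalSpace RichLib.LimBC ConsLib

noncomputable section

namespace RichLib.FlatNoeth

attribute [local instance] ConsLib.zAlgebra

/-- a subalgebra over `ULift ℤ` as a subalgebra over `ℤ` -/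
def toZ {A : Type u} [CommRing A] (B : Subalgebra (ULift.{u} ℤ) A) : Subalgebra ℤ A :=
  subalgebraOfSubring B.toSubring

theorem fg_toZ {A : Type u} [CommRing A] (B : Subalgebra (ULift.{u} ℤ) A) (hB : B.FG) : (toZ B).FG := by
  obtain ⟨t, ht⟩ := hB
  refine ⟨t, le_antisymm (Algebra.adjoin_le fun z hz => show z ∈ B from ht ▸ Algebra.subset_adjoin hz)
    fun z hz => ?_⟩
  have hz' : z ∈ Algebra.adjoin (ULift.{u} ℤ) (t : Set A) := ht.ge hz
  induction hz' using Algebra.adjoin_induction with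
  | mem w hw => exact Algebra.subset_adjoin hw
  | algebraMap r =>
    show (Int.castRingHom A) r.down ∈ Algebra.adjoin ℤ (t : Set A)
    exact intCast_mem _ r.down
  | add p q hp hq h1 h2 => exact add_mem (h1 (ht ▸ hp)) (h2 (ht ▸ hq))
  | mul p q hp hq h1 h2 => exact mul_mem (h1 (ht ▸ hp)) (h2 (ht ▸ hq))

/-- a module with a flatness property has a Noetherian model with the same property -/
theorem exists_descent {A : Type u} [CommRing A] {X : Scheme.{u}}
    (f : X ⟶ Spec (CommRingCat.of A)) [LocallyOfFinitePresentation f] [QuasiCompact f] [QuasiSeparated f]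
    (F : X.Modules) [Coh.IsQCoh F] (hF : CohB1.IsFP F) (x : X) :
    (FlatMod.IsFlatOverAt f F x →
      ∃ (A₀ : Subalgebra ℤ A) (_ : A₀.FG) (X₀ : Scheme.{u}) (f₀ : X₀ ⟶ Spec (CommRingCat.of ↥A₀))
        (_ : LocallyOfFiniteType f₀) (_ : QuasiCompact f₀) (F₀ : X₀.Modules) (_ : Coh.IsCoh F₀) (q : X ⟶ X₀)
        (_ : IsPullback q f f₀ (Spec.map (CommRingCat.ofHom A₀.val.toRingHom)))
        (_ : (Scheme.Modules.pullback q).obj F₀ ≅ F),
        FlatMod.IsFlatOverAt f₀ F₀ (q x)) ∧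
    (FlatMod.IsFlatOver f F →
      ∃ (A₀ : Subalgebra ℤ A) (_ : A₀.FG) (X₀ : Scheme.{u}) (f₀ : X₀ ⟶ Spec (CommRingCat.of ↥A₀))
        (_ : LocallyOfFiniteType f₀) (_ : QuasiCompact f₀) (F₀ : X₀.Modules) (_ : Coh.IsCoh F₀) (q : X ⟶ X₀)
        (_ : IsPullback q f f₀ (Spec.map (CommRingCat.ofHom A₀.val.toRingHom)))
        (_ : (Scheme.Modules.pullback q).obj F₀ ≅ F),
        FlatMod.IsFlatOver f₀ F₀) := by
  let A' := zSys A
  haveI : ∀ i j (a : i ⟶ j), IsAffineHom (A'.D.map a) := fun _ _ a => A'.affine_map a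
  haveI : ∀ i, IsNoetherian (A'.D.obj i) := fun i => zSys_obj _ i
  let e : Spec (CommRingCat.of A) ≅ A'.c.pt := (zSysIso _).symm
  obtain ⟨i, ⟨N⟩⟩ := DescFP.exists_model A'.hc (f ≫ e.hom)
  haveI := N.lfp
  haveI := N.qc
  haveI := N.compactSpace
  haveI := N.quasiSeparatedSpace
  let B := pb (ofStage A'.D A'.c A'.hc i) N.p
  haveI : ∀ k l (b : k ⟶ l), IsAffineHom (B.D.map b) := fun _ _ b => B.affine_map b
  haveI hlft : LocallyOfFiniteType N.p := inferInstance
  haveI : ∀ φ : Over i, IsNoetherian (B.D.obj φ) := fun φ =>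
    @ConsLib.isNoetherian_of_ft _ _ (pullback.snd N.p (A'.D.map φ.hom)) (zSys_obj _ φ.left)
      (MorphismProperty.pullback_snd _ _ hlft) (MorphismProperty.pullback_snd _ _ N.qc)
  let eY := N.sq.isoPullback
  let c' : Cone B.D := B.c.extend eY.hom
  have hc' : IsLimit c' := B.hc.ofIsoLimit (Cone.ext eY.symm (fun φ => by
    simp [c', Cone.extend]))
  obtain ⟨φ, G, hG, ⟨eG⟩⟩ := ModDescLib.exists_coh_pullback (c := c') hc' F
    fun y => FlatLib.exists_presentation_nhd hF y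
  haveI : Coh.IsQCoh G := hG.1
  have hGfp : CohB1.IsFP G := QCohLib.isFP_of_isCoh G hG
  let fj : B.D.obj φ ⟶ A'.D.obj φ.left := pullback.snd N.p (A'.D.map φ.hom)
  haveI : LocallyOfFinitePresentation fj := MorphismProperty.pullback_snd _ _ N.lfp
  let q₀ : X ⟶ B.D.obj φ := eY.hom ≫ B.c.π.app φ
  have sq₀ : IsPullback q₀ f fj (A'.c.π.app φ.left) := by
    refine (isPullback_cone (ofStage A'.D A'.c A'.hc i) N.p φ).of_iso eY.symm (Iso.refl _) e.symm (Iso.refl _)
      ?_ ?_ ?_ ?_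
    · exact (Category.comp_id _).trans (Iso.inv_hom_id_assoc _ _).symm
    · have h1 : eY.hom ≫ pullback.snd N.p (A'.c.π.app i) = f ≫ e.hom := N.sq.isoPullback_hom_snd
      exact (Iso.eq_inv_comp eY).mpr ((Category.assoc _ _ _).symm.trans ((Iso.comp_inv_eq e).mpr h1))
    · simp [fj]; rfl
    · exact (Category.comp_id _).trans (Iso.inv_hom_id_assoc _ _).symm
  let Z := ofStage A'.D A'.c A'.hc φ.left
  let eX : X ≅ pullback fj Z.s := sq₀.isoPullback
  have hX₁ : eX.hom ≫ pullback.fst fj Z.s = q₀ := sq₀.isoPullback_hom_fst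
  have hX₂ : eX.hom ≫ pullback.snd fj Z.s = f := sq₀.isoPullback_hom_snd
  have eM : F ≅ (Scheme.Modules.pullback eX.hom).obj ((Scheme.Modules.pullback (pullback.fst fj Z.s)).obj G) :=
    eG.symm ≪≫ (Scheme.Modules.pullbackCongr hX₁.symm).app G ≪≫ ((Scheme.Modules.pullbackComp _ _).app G).symm
  have htrans : ∀ y : X, FlatMod.IsFlatOverAt f F y ↔ FlatMod.IsFlatOverAt (pullback.snd fj Z.s)
      ((Scheme.Modules.pullback (pullback.fst fj Z.s)).obj G) (eX.hom y) := fun y =>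
    RichLib.ModFlat.isFlatOverAt_congr eX.hom (𝟙 _) ((Category.comp_id _).trans hX₂.symm) eM y
  -- the model at a further stage
  have model : ∀ ψ : Over φ.left, ∃ (_ : (toZ ψ.left.unop.1).FG)
      (_ : LocallyOfFiniteType (pullback.snd fj (Z.t ψ))) (_ : QuasiCompact (pullback.snd fj (Z.t ψ)))
      (_ : Coh.IsCoh ((Scheme.Modules.pullback (pullback.fst fj (Z.t ψ))).obj G))
      (_ : IsPullback (eX.hom ≫ pbπ Z fj ψ) f (pullback.snd fj (Z.t ψ))
        (Spec.map (CommRingCat.ofHom (toZ ψ.left.unop.1).val.toRingHom))),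
      Nonempty ((Scheme.Modules.pullback (eX.hom ≫ pbπ Z fj ψ)).obj
        ((Scheme.Modules.pullback (pullback.fst fj (Z.t ψ))).obj G) ≅ F) := fun ψ =>
    ⟨fg_toZ _ ψ.left.unop.2, MorphismProperty.pullback_snd _ _ inferInstance,
      MorphismProperty.pullback_snd _ _ (MorphismProperty.pullback_snd _ _ N.qc), isCoh_pullback _ hG,
      (isPullback_cone Z fj ψ).of_iso eX.symm (Iso.refl _) (Iso.refl _) (Iso.refl _)
        ((Category.comp_id _).trans (Iso.inv_hom_id_assoc _ _).symm)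
        ((Category.comp_id _).trans ((Iso.eq_inv_comp eX).mpr hX₂))
        ((Category.comp_id _).trans (Category.id_comp _).symm)
        ((Category.comp_id _).trans (Category.id_comp _).symm),
      ⟨(Scheme.Modules.pullbackComp _ _).app G ≪≫ (Scheme.Modules.pullbackCongr
        (show (eX.hom ≫ pbπ Z fj ψ) ≫ pullback.fst fj (Z.t ψ) = q₀ by
          rw [Category.assoc, pbπ_fst]; exact hX₁)).app G ≪≫ eG⟩⟩
  refine ⟨fun h => ?_, fun h => ?_⟩
  · obtain ⟨ψ, hψ⟩ := (RichLib.ModFlat.isFlatOverAt_iff_exists_stage Z fj G hGfp (eX.hom x)).mp ((htrans x).mp h)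
    obtain ⟨h1, h2, h3, h4, h5, ⟨e6⟩⟩ := model ψ
    exact ⟨_, h1, _, _, h2, h3, _, h4, _, h5, e6, by rw [Scheme.Hom.comp_apply]; exact hψ⟩
  · haveI : CompactSpace ↥(B.D.obj φ) := inferInstance
    obtain ⟨ψ, hψ⟩ := RichLib.ModFlat.exists_isFlatOver_stage Z fj G hGfp fun y => by
      obtain ⟨z, rfl⟩ := eX.hom.surjective y
      exact (htrans z).mp (h z)
    obtain ⟨h1, h2, h3, h4, h5, ⟨e6⟩⟩ := model ψ
    exact ⟨_, h1, _, _, h2, h3, _, h4, _, h5, e6, hψ⟩

end RichLib.FlatNoeth
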