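import Mathlib

/-!
# Irreducible components under extension of the base field
-/

set_option autoImplicit false
universe u

open TensorProduct CategoryTheory CategoryTheory.Limits AlgebraicGeometry

namespace RichLib.FieldExtComp

/-- a domain tensored with a purely transcendental extension is a domain -/
theorem isDomain_tensor_fractionRing (k D L : Type u) (ι : Type u) [Field k] [CommRing D] [IsDomain D] [Algebra k D]
    [Field L] [Algebra k L] [Algebra (MvPolynomial ι k) L] [IsScalarTower k (MvPolynomial ι k) L]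
    [IsFractionRing (MvPolynomial ι k) L] : IsDomain (L ⊗[k] D) := by
  classical
  let f : (MvPolynomial ι k) ⊗[k] D →ₐ[k] L ⊗[k] D :=
    Algebra.TensorProduct.map (IsScalarTower.toAlgHom k _ L) (AlgHom.id k D)
  have hf : Function.Injective f := fun x y hxy =>
    Module.Flat.rTensor_preserves_injective_linearMap (M := D)
      (IsScalarTower.toAlgHom k (MvPolynomial ι k) L).toLinearMap (IsFractionRing.injective _ L) hxy
  haveI : IsDomain ((MvPolynomial ι k) ⊗[k] D) :=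
    MulEquiv.isDomain (MvPolynomial ι D)
      (((Algebra.TensorProduct.comm k (MvPolynomial ι k) D).toRingEquiv.trans
        (MvPolynomial.algebraTensorAlgEquiv k D).toRingEquiv).toMulEquiv)
  have hclear : ∀ x : L ⊗[k] D, ∃ s : MvPolynomial ι k, s ≠ 0 ∧
      ∃ a, (algebraMap (MvPolynomial ι k) L s ⊗ₜ[k] (1 : D)) * x = f a := by
    intro x
    induction x using TensorProduct.induction_on with
    | zero => exact ⟨1, one_ne_zero, 0, by simp⟩
    | tmul c r =>
      obtain ⟨⟨a, s⟩, h⟩ := IsLocalization.surj (nonZeroDivisors (MvPolynomial ι k)) c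
      exact ⟨s, nonZeroDivisors.ne_zero s.2, a ⊗ₜ r, by
        simp [f, Algebra.TensorProduct.tmul_mul_tmul, mul_comm _ c, h]⟩
    | add x y hx hy =>
      obtain ⟨s, hs, a, ha⟩ := hx
      obtain ⟨t, ht, b, hb⟩ := hy
      refine ⟨s * t, mul_ne_zero hs ht, (t ⊗ₜ 1) * a + (s ⊗ₜ 1) * b, ?_⟩
      rw [map_add f, map_mul f, map_mul f, ← ha, ← hb, mul_add]
      have e1 : (algebraMap (MvPolynomial ι k) L (s * t)) ⊗ₜ[k] (1 : D) = f (s ⊗ₜ 1) * f (t ⊗ₜ 1) := by
        simp [f, Algebra.TensorProduct.tmul_mul_tmul]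
      have e2 : ∀ u, (algebraMap (MvPolynomial ι k) L u) ⊗ₜ[k] (1 : D) = f (u ⊗ₜ 1) := fun u => by simp [f]
      rw [e1, e2, e2]; ring
  haveI : Nontrivial (L ⊗[k] D) := hf.nontrivial
  haveI : NoZeroDivisors (L ⊗[k] D) := ⟨fun {x y} hxy => by
    obtain ⟨s, hs, a, ha⟩ := hclear x
    obtain ⟨t, ht, b, hb⟩ := hclear y
    have hu : ∀ {s : MvPolynomial ι k}, s ≠ 0 →
        IsUnit (algebraMap (MvPolynomial ι k) L s ⊗ₜ[k] (1 : D)) := fun hs =>
      (isUnit_iff_ne_zero.mpr ((map_ne_zero_iff _ (IsFractionRing.injective _ L)).mpr hs)).map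
        (Algebra.TensorProduct.includeLeft : L →ₐ[k] L ⊗[k] D)
    have hab : f (a * b) = 0 := by
      rw [map_mul, ← ha, ← hb, mul_mul_mul_comm, hxy, mul_zero]
    rcases mul_eq_zero.mp (hf (hab.trans (map_zero f).symm)) with h | h
    · left; rw [h, map_zero] at ha; exact (hu hs).mul_right_eq_zero.mp ha
    · right; rw [h, map_zero] at hb; exact (hu ht).mul_right_eq_zero.mp hb⟩
  exact NoZeroDivisors.to_isDomain _

theorem exists_prime_over_aux (k K R : Type u) [Field k] [Field K] [Algebra k K] [CommRing R] [Algebra k R]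
    (L : Type u) [Field L] [Algebra k L] [Algebra L K] [IsScalarTower k L K] [Algebra.IsIntegral L K]
    (P : Ideal (R ⊗[k] K)) (hP : P ∈ minimalPrimes (R ⊗[k] K)) (q : Ideal R) [q.IsPrime]
    (hq : P.comap (algebraMap R (R ⊗[k] K)) ≤ q)
    (hD : IsDomain (L ⊗[k] (R ⧸ P.comap (algebraMap R (R ⊗[k] K))))) :
    ∃ P' : Ideal (R ⊗[k] K), P'.IsPrime ∧ P ≤ P' ∧ P'.comap (algebraMap R (R ⊗[k] K)) = q := by
  haveI := hP.1.1
  set p₀ := P.comap (algebraMap R (R ⊗[k] K))
  let D := R ⧸ p₀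
  haveI := hD
  let ψ : (L ⊗[k] R) →ₐ[k] L ⊗[k] D := Algebra.TensorProduct.map (AlgHom.id k L) (Ideal.Quotient.mkₐ k p₀)
  let I : Ideal (L ⊗[k] R) := RingHom.ker ψ
  haveI : I.IsPrime := RingHom.ker_isPrime _
  have hI : I = p₀.map (Algebra.TensorProduct.includeRight : R →ₐ[k] (L ⊗[k] R)) := by
    show RingHom.ker ψ = _
    rw [Algebra.TensorProduct.lTensor_ker (Ideal.Quotient.mkₐ k p₀) Ideal.Quotient.mk_surjective]
    congr 1
    exact Ideal.mk_ker
  let e : ((L ⊗[k] R) ⊗[L] K) ≃+* R ⊗[k] K :=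
    ((Algebra.TensorProduct.comm L (L ⊗[k] R) K).toRingEquiv.trans
      (Algebra.TensorProduct.cancelBaseChange k L K K R).toRingEquiv).trans
      (Algebra.TensorProduct.comm k K R).toRingEquiv
  have he : ∀ r : R, e (algebraMap (L ⊗[k] R) ((L ⊗[k] R) ⊗[L] K) ((1 : L) ⊗ₜ[k] r)) = algebraMap R (R ⊗[k] K) r := by
    intro r; simp [e]
  let P₁ : Ideal ((L ⊗[k] R) ⊗[L] K) := P.comap e.toRingHom
  haveI : P₁.IsPrime := Ideal.comap_isPrime _ _
  let Q : Ideal (L ⊗[k] R) := P₁.comap (algebraMap (L ⊗[k] R) ((L ⊗[k] R) ⊗[L] K))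
  haveI : Q.IsPrime := Ideal.comap_isPrime _ _
  have hIQ : I ≤ Q := by
    rw [hI, Ideal.map_le_iff_le_comap]
    intro r hr
    show e (algebraMap (L ⊗[k] R) ((L ⊗[k] R) ⊗[L] K) ((1 : L) ⊗ₜ[k] r)) ∈ P
    rw [he]; exact hr
  haveI : P₁.LiesOver Q := ⟨rfl⟩
  have hmin : Q ≤ I := by
    by_contra hne
    obtain ⟨P₂, hle, hP₂, hover⟩ := Ideal.exists_ideal_lt_liesOver_of_lt (R := (L ⊗[k] R)) (S := ((L ⊗[k] R) ⊗[L] K))
      (p := I) (q := Q) P₁ (lt_of_le_not_ge hIQ hne)
    have hP2' : (P₂.comap e.symm.toRingHom).IsPrime := Ideal.comap_isPrime _ _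
    have h3 : P₂.comap e.symm.toRingHom ≤ P := by
      intro x hx
      exact (e.apply_symm_apply x) ▸ (show e (e.symm x) ∈ P from hle.le hx)
    have h4 := hP.2 ⟨hP2', bot_le⟩ h3
    exact hle.not_ge fun x hx => by
      have h5 : e x ∈ P₂.comap e.symm.toRingHom := h4 hx
      exact e.symm_apply_apply x ▸ (show e.symm (e x) ∈ P₂ from h5)
  obtain ⟨⟨Q', hQ'⟩, hQ'q⟩ := PrimeSpectrum.comap_surjective_of_faithfullyFlat
    (A := R) (B := R ⊗[k] L) ⟨q, inferInstance⟩
  let Q₁ : Ideal (L ⊗[k] R) := Q'.comap (Algebra.TensorProduct.comm k L R).toRingHom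
  haveI : Q₁.IsPrime := Ideal.comap_isPrime _ _
  have hQ₁ : Q₁.comap (Algebra.TensorProduct.includeRight : R →ₐ[k] (L ⊗[k] R)) = q := by
    refine Eq.trans ?_ (congrArg PrimeSpectrum.asIdeal hQ'q)
    ext r; simp [Q₁]
  have hQQ₁ : Q ≤ Q₁ := hmin.trans (by
    rw [hI, Ideal.map_le_iff_le_comap]; exact hq.trans hQ₁.ge)
  obtain ⟨P₂, hle, hP₂, hover⟩ := Ideal.exists_ideal_over_prime_of_isIntegral Q₁ P₁ hQQ₁
  refine ⟨P₂.comap e.symm.toRingHom, Ideal.comap_isPrime _ _, fun x hx => ?_, ?_⟩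
  · exact hle (show e (e.symm x) ∈ P by rwa [e.apply_symm_apply])
  · ext r
    show e.symm (algebraMap R (R ⊗[k] K) r) ∈ P₂ ↔ _
    rw [← he, e.symm_apply_apply, ← hQ₁, ← hover]
    rfl

/-- the key step: over a given prime containing the trace of a minimal prime there is a prime
containing that minimal prime -/
theorem exists_prime_over (k K R : Type u) [Field k] [Field K] [Algebra k K] [CommRing R] [Algebra k R]
    (P : Ideal (R ⊗[k] K)) (hP : P ∈ minimalPrimes (R ⊗[k] K)) (q : Ideal R) [q.IsPrime]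
    (hq : P.comap (algebraMap R (R ⊗[k] K)) ≤ q) :
    ∃ P' : Ideal (R ⊗[k] K), P'.IsPrime ∧ P ≤ P' ∧ P'.comap (algebraMap R (R ⊗[k] K)) = q := by
  haveI := hP.1.1
  obtain ⟨s, hs⟩ := exists_isTranscendenceBasis k K
  let L : IntermediateField k K := IntermediateField.adjoin k (Set.range ((↑) : s → K))
  haveI : Algebra.IsAlgebraic L K := hs.isAlgebraic_field
  haveI : Algebra.IsIntegral L K := Algebra.IsAlgebraic.isIntegral
  set p₀ := P.comap (algebraMap R (R ⊗[k] K))
  let D := R ⧸ p₀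
  haveI : IsDomain (L ⊗[k] D) := by
    let e := hs.1.aevalEquivField
    haveI := isDomain_tensor_fractionRing k D (FractionRing (MvPolynomial s k)) s
    exact MulEquiv.isDomain (FractionRing (MvPolynomial s k) ⊗[k] D)
      (Algebra.TensorProduct.congr e.symm (AlgEquiv.refl (R := k) (A₁ := D))).toRingEquiv.toMulEquiv
  exact exists_prime_over_aux k K R L P hP q hq inferInstance

/-- The geometric form of `exists_prime_over`. -/
theorem exists_specializes_over {k : Type u} [Field k] {X : Scheme.{u}} (π : X ⟶ Spec (CommRingCat.of k))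
    (K : Type u) [Field K] [Algebra k K]
    (y : (pullback π (Spec.map (CommRingCat.ofHom (algebraMap k K))) : Scheme.{u}))
    (hy : ∀ y', y' ⤳ y → y' = y) (z : X)
    (hz : (pullback.fst π (Spec.map (CommRingCat.ofHom (algebraMap k K)))).base y ⤳ z) :
    ∃ y', y ⤳ y' ∧ (pullback.fst π (Spec.map (CommRingCat.ofHom (algebraMap k K)))).base y' = z := by
  obtain ⟨U, hU, hzU, -⟩ := exists_isAffineOpen_mem_and_subset (TopologicalSpace.Opens.mem_top z)
  let r : CommRingCat.of k ⟶ Γ(X, U) := Spec.preimage (hU.fromSpec ≫ π)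
  letI : Algebra k Γ(X, U) := r.hom.toAlgebra
  have hr : Spec.map (CommRingCat.ofHom (algebraMap k Γ(X, U))) = hU.fromSpec ≫ π := Spec.map_preimage _
  let g := Spec.map (CommRingCat.ofHom (algebraMap k K))
  let m := pullback.map (Spec.map (CommRingCat.ofHom (algebraMap k Γ(X, U)))) g π g hU.fromSpec (𝟙 _) (𝟙 _)
    (by simp [hr]) (by simp)
  let h := (pullbackSpecIso k Γ(X, U) K).inv ≫ m
  have hh : h ≫ pullback.fst π g =
      Spec.map (CommRingCat.ofHom (algebraMap Γ(X, U) (Γ(X, U) ⊗[k] K))) ≫ hU.fromSpec := by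
    simp only [h, m, Category.assoc, pullback.lift_fst]
    rw [← Category.assoc, pullbackSpecIso_inv_fst]
  have hfy : (pullback.fst π g).base y ∈ U := hz.mem_open U.isOpen hzU
  obtain ⟨v, rfl⟩ : y ∈ Set.range h.base := by
    have hm : y ∈ Set.range m.base := by
      rw [Scheme.Pullback.range_map]
      refine ⟨?_, ?_⟩
      · show (pullback.fst π g).base y ∈ Set.range hU.fromSpec.base
        rw [hU.range_fromSpec]; exact hfy
      · exact ⟨(pullback.snd π g).base y, rfl⟩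
    obtain ⟨w, rfl⟩ := hm
    exact ⟨(pullbackSpecIso k Γ(X, U) K).hom.base w, by
      rw [← Scheme.Hom.comp_apply]; simp [h]⟩
  have hmin : v.asIdeal ∈ minimalPrimes (Γ(X, U) ⊗[k] K) := by
    refine ⟨⟨v.isPrime, bot_le⟩, fun Q hQ hle => ?_⟩
    have hsp : h.base ⟨Q, hQ.1⟩ ⤳ h.base v :=
      ((PrimeSpectrum.le_iff_specializes ⟨Q, hQ.1⟩ v).mp hle).map h.continuous
    have he : (⟨Q, hQ.1⟩ : PrimeSpectrum (Γ(X, U) ⊗[k] K)) = v := h.isOpenEmbedding.injective (hy _ hsp)
    exact (congrArg PrimeSpectrum.asIdeal he).ge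
  let fA := Spec.map (CommRingCat.ofHom (algebraMap Γ(X, U) (Γ(X, U) ⊗[k] K)))
  have hcomp : ∀ w, (pullback.fst π g).base (h.base w) = hU.fromSpec.base (fA.base w) := fun w => by
    rw [← Scheme.Hom.comp_apply, hh]; rfl
  obtain ⟨q, hq⟩ : z ∈ Set.range hU.fromSpec.base := by rw [hU.range_fromSpec]; exact hzU
  have hqle : fA.base v ⤳ q := by
    rw [← hU.fromSpec.isOpenEmbedding.toIsInducing.specializes_iff, hq, ← hcomp]; exact hz
  obtain ⟨P', hP', hle, hover⟩ := exists_prime_over k K Γ(X, U) v.asIdeal hmin q.asIdeal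
    ((PrimeSpectrum.le_iff_specializes (fA.base v) q).mpr hqle)
  refine ⟨h.base ⟨P', hP'⟩, ((PrimeSpectrum.le_iff_specializes v ⟨P', hP'⟩).mp hle).map h.continuous, ?_⟩
  rw [hcomp, ← hq]
  congr 1
  exact PrimeSpectrum.ext hover

end RichLib.FieldExtComp
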