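import Mathlib.RingTheory.Support
import Mathlib.RingTheory.Ideal.AssociatedPrime.Localization
import Mathlib.RingTheory.Spectrum.Prime.Topology
import Mathlib.RingTheory.Spectrum.Prime.Module
import Mathlib.RingTheory.Noetherian.Basic
import Mathlib.RingTheory.Ideal.MinimalPrime.Noetherian

/-!
# Removing embedded components of a module
-/

set_option autoImplicit false
universe u

namespace RichLib

variable {R : Type u} [CommRing R] [IsNoetherianRing R] {M : Type u} [AddCommGroup M] [Module R M]
  [Module.Finite R M]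

theorem embedded :
    ∃ K : Submodule R M,
      IsGreatest {K' : Submodule R M | ∀ U : Set (PrimeSpectrum R), IsOpen U → U ∩ Module.support R M ⊆ closure (Module.support R ↥K') → U ∩ Module.support R M = ∅} K ∧
      Module.support R (M ⧸ K) = Module.support R M ∧
      (∀ p ∈ associatedPrimes R (M ⧸ K), ∀ q ∈ associatedPrimes R (M ⧸ K), p ≤ q → p = q) ∧
      ∀ f : R, (∀ p ∈ associatedPrimes R M, ¬ Minimal (fun x => x ∈ associatedPrimes R M) p → f ∈ p) →
        Function.Bijective (LocalizedModule.map (Submonoid.powers f) K.mkQ) := by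
  classical
  set a := Module.annihilator R M with ha
  have hsupp : ∀ p : PrimeSpectrum R, p ∈ Module.support R M ↔ a ≤ p.asIdeal := fun p => by
    rw [Module.support_eq_zeroLocus]; exact Iff.rfl
  have hfinmin : a.minimalPrimes.Finite := a.finite_minimalPrimes_of_isNoetherianRing R
  have hbelow : ∀ p : PrimeSpectrum R, p ∈ Module.support R M → ∃ q : PrimeSpectrum R,
      q.asIdeal ∈ a.minimalPrimes ∧ q.asIdeal ≤ p.asIdeal := fun p hp => by
    obtain ⟨q, hq, hle⟩ := Ideal.exists_minimalPrimes_le ((hsupp p).mp hp)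
    exact ⟨⟨q, hq.1.1⟩, hq, hle⟩
  let K : Submodule R M :=
    { carrier := {x | ∀ q ∈ a.minimalPrimes, ∃ s ∉ q, s • x = 0}
      zero_mem' := fun q hq => ⟨1, fun h => hq.1.1.ne_top ((Ideal.eq_top_iff_one q).mpr h), smul_zero _⟩
      add_mem' := fun {x y} hx hy q hq => by
        obtain ⟨s, hs, hsx⟩ := hx q hq
        obtain ⟨t, ht, hty⟩ := hy q hq
        exact ⟨s * t, fun h => (hq.1.1.mem_or_mem h).elim hs ht, by
          rw [smul_add, mul_comm s t, mul_smul, hsx, smul_zero, mul_comm, mul_smul, hty, smul_zero, add_zero]⟩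
      smul_mem' := fun r x hx q hq => by
        obtain ⟨s, hs, hsx⟩ := hx q hq
        exact ⟨s, hs, by rw [smul_comm, hsx, smul_zero]⟩ }
  have hclosed : ∀ K' : Submodule R M, closure (Module.support R ↥K') = Module.support R ↥K' := fun K' =>
    Module.isClosed_support.closure_eq
  have hKq : ∀ (K' : Submodule R M) (q : PrimeSpectrum R),
      q ∉ Module.support R ↥K' ↔ ∀ x ∈ K', ∃ s ∉ q.asIdeal, s • x = 0 := fun K' q => by
    rw [Module.notMem_support_iff']
    constructor
    · intro h x hx
      obtain ⟨s, hs, e⟩ := h ⟨x, hx⟩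
      exact ⟨s, hs, congrArg Subtype.val e⟩
    · intro h x
      obtain ⟨s, hs, e⟩ := h x.1 x.2
      exact ⟨s, hs, Subtype.ext e⟩
  have hK : ∀ q : PrimeSpectrum R, q.asIdeal ∈ a.minimalPrimes → q ∉ Module.support R ↥K := fun q hq =>
    (hKq K q).mpr fun x hx => hx q.asIdeal hq
  have hquot : ∀ (q : PrimeSpectrum R), q.asIdeal ∈ a.minimalPrimes → q ∈ Module.support R (M ⧸ K) := by
    intro q hq
    by_contra h
    obtain ⟨m, hm⟩ := Module.mem_support_iff'.mp ((hsupp q).mpr hq.1.2)
    obtain ⟨s, hs, hsm⟩ := Module.notMem_support_iff'.mp h (Submodule.Quotient.mk m)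
    rw [← Submodule.Quotient.mk_smul, Submodule.Quotient.mk_eq_zero] at hsm
    obtain ⟨t, ht, htm⟩ := hsm q.asIdeal hq
    exact hm (t * s) (fun e => (q.isPrime.mem_or_mem e).elim ht hs) (by rw [mul_smul, htm])
  refine ⟨K, ⟨?_, ?_⟩, ?_, ?_, ?_⟩
  · intro U hU hsub
    rw [hclosed] at hsub
    refine Set.eq_empty_of_forall_notMem fun p ⟨hpU, hp⟩ => ?_
    obtain ⟨q, hq, hle⟩ := hbelow p hp
    refine hK q hq (hsub ⟨?_, (hsupp q).mpr hq.1.2⟩)
    exact ((PrimeSpectrum.le_iff_specializes q p).mp hle).mem_open hU hpU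
  · intro K' hK' x hx q hq
    let qq : PrimeSpectrum R := ⟨q, hq.1.1⟩
    refine (hKq K' qq).mp (fun hmem => ?_) x hx
    let U : Set (PrimeSpectrum R) := (⋃ r ∈ {r ∈ a.minimalPrimes | r ≠ q}, PrimeSpectrum.zeroLocus (r : Set R))ᶜ
    have hUo : IsOpen U := ((hfinmin.subset fun r hr => hr.1).isClosed_biUnion
      fun r _ => PrimeSpectrum.isClosed_zeroLocus _).isOpen_compl
    have hqU : qq ∈ U := fun h => by
      obtain ⟨r, ⟨hr, hne⟩, hrq⟩ := Set.mem_iUnion₂.mp h
      exact hne (le_antisymm hrq (hq.2 hr.1 hrq))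
    have := hK' U hUo fun p ⟨hpU, hp⟩ => by
      rw [hclosed]
      obtain ⟨r, hr, hle⟩ := hbelow p hp
      by_cases e : r.asIdeal = q
      · exact Module.mem_support_mono (p := qq) (show q ≤ p.asIdeal from e ▸ hle) hmem
      · exact absurd (Set.mem_biUnion (show r.asIdeal ∈ {r ∈ a.minimalPrimes | r ≠ q} from ⟨hr, e⟩) hle) hpU
    exact (Set.eq_empty_iff_forall_notMem.mp this) qq ⟨hqU, (hsupp qq).mpr hq.1.2⟩
  · refine (Module.support_subset_of_surjective K.mkQ K.mkQ_surjective).antisymm fun p hp => ?_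
    obtain ⟨q, hq, hle⟩ := hbelow p hp
    exact Module.mem_support_mono (p := q) hle (hquot q hq)
  · have hmin : ∀ p ∈ associatedPrimes R (M ⧸ K), p ∈ a.minimalPrimes := by
      intro p hp
      obtain ⟨hpp, x, hx⟩ := Submodule.isAssociatedPrime_iff.mp hp
      obtain ⟨m, rfl⟩ := Submodule.Quotient.mk_surjective K x
      have hmem : ∀ r, r ∈ p ↔ r • m ∈ K := fun r => by
        rw [hx, Submodule.mem_colon_singleton, Submodule.mem_bot, ← Submodule.Quotient.mk_smul,
          Submodule.Quotient.mk_eq_zero]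
      have hm : m ∉ K := fun h => hpp.ne_top ((Ideal.eq_top_iff_one p).mpr ((hmem 1).mpr (by rwa [one_smul])))
      obtain ⟨q, hq, hq'⟩ : ∃ q ∈ a.minimalPrimes, ∀ s ∉ q, s • m ≠ 0 := by
        by_contra h
        push Not at h
        exact hm h
      have hpq : p ≤ q := fun s hs => by
        by_contra hsq
        obtain ⟨t, ht, htm⟩ := (hmem s).mp hs q hq
        exact hq' (t * s) (fun e => (hq.1.1.mem_or_mem e).elim ht hsq) (by rw [mul_smul, htm])
      have hap : a ≤ p := fun r hr => (hmem r).mpr (by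
        rw [Module.mem_annihilator.mp hr m]; exact zero_mem _)
      rwa [show p = q from le_antisymm hpq (hq.2 ⟨hpp, hap⟩ hpq)]
    exact fun p hp q hq hle => le_antisymm hle ((hmin q hq).2 (hmin p hp).1 hle)
  · intro f hf
    have hfr : f ∈ (Module.annihilator R ↥K).radical := by
      rw [← Ideal.sInf_minimalPrimes, Ideal.mem_sInf]
      intro p hp
      have hpK : p ∈ associatedPrimes R ↥K :=
        Module.associatedPrimes.minimalPrimes_annihilator_subset_associatedPrimes R ↥K hp
      have hpM : p ∈ associatedPrimes R M :=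
        associatedPrimes.subset_of_injective (f := K.subtype) K.subtype_injective hpK
      refine hf p hpM fun hmin => ?_
      have hap : a ≤ p := le_trans (fun r hr => Module.mem_annihilator.mpr fun x =>
        Subtype.ext (Module.mem_annihilator.mp hr x.1)) hp.1.2
      obtain ⟨q, hq, hle⟩ := (haveI := hp.1.1; Ideal.exists_minimalPrimes_le (J := p) hap)
      have hqM : q ∈ associatedPrimes R M :=
        Module.associatedPrimes.minimalPrimes_annihilator_subset_associatedPrimes R M hq
      obtain rfl : p = q := le_antisymm (hmin.2 hqM hle) hle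
      refine hK ⟨p, hp.1.1⟩ hq ?_
      rw [Module.support_eq_zeroLocus]
      exact hp.1.2
    obtain ⟨k, hk⟩ := hfr
    refine ⟨(injective_iff_map_eq_zero _).2 fun z hz => ?_, LocalizedModule.map_surjective _ _ K.mkQ_surjective⟩
    induction z using LocalizedModule.induction_on with
    | h m s =>
      rw [LocalizedModule.map_mk] at hz
      rw [← LocalizedModule.zero_mk (1 : Submonoid.powers f)] at hz
      obtain ⟨u, hu⟩ := LocalizedModule.mk_eq.mp hz
      rw [one_smul, smul_zero, smul_zero] at hu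
      have hK' : (u : R) • m ∈ K := by
        rw [← Submodule.Quotient.mk_eq_zero K, Submodule.Quotient.mk_smul]; exact hu
      rw [← LocalizedModule.zero_mk (1 : Submonoid.powers f)]
      refine LocalizedModule.mk_eq.mpr ⟨⟨f ^ k, k, rfl⟩ * u, ?_⟩
      have := congrArg Subtype.val (Module.mem_annihilator.mp hk ⟨_, hK'⟩)
      simpa [Submonoid.smul_def, mul_smul] using this

end RichLib
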