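import Mathlib
import Groth.Prelude.Def_ProCons
import Groth.Prelude.Def_MoreMor
import Groth.Agent.RichLib.FibreImmersion
import Groth.Agent.RichLib.LimitDescentQA

/-!
# More constructible loci of fibres: density, affineness, quasi-affineness
-/

set_option autoImplicit false
universe u

open CategoryTheory CategoryTheory.Limits AlgebraicGeometry Topology

noncomputable section

namespace RichLib.FibreLoci

open RichLib.Strata

theorem isConstructible_subset_closure {X S : Scheme.{u}} (f : X ⟶ S) [CompactSpace S]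
    [QuasiSeparatedSpace S] [CompactSpace X] [QuasiSeparatedSpace X] [LocallyOfFinitePresentation f]
    {Z Z' : Set X} (hZ : IsConstructible Z) (hZ' : IsConstructible Z') :
    IsConstructible {s : S | Z' ∩ f.base ⁻¹' {s} ⊆ closure (Z ∩ f.base ⁻¹' {s})} := by
  haveI : QuasiCompact f := quasiCompact_of_compactSpace f
  refine isConstructible_of_forall_nhd _ fun s => ?_
  obtain ⟨C, K, hC, hsC, hK, hKc, h⟩ := exists_closure_spread f hZ s
  have hKcons : IsConstructible K := by
    rw [← isConstructible_compl]; exact hKc.isConstructible hK.isOpen_compl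
  let E := f.base '' (Z' \ K)
  have hE : IsConstructible E := f.isConstructible_image (hZ'.sdiff hKcons)
  have key : ∀ t ∈ C, Z' ∩ f.base ⁻¹' {t} ⊆ closure (Z ∩ f.base ⁻¹' {t}) ↔ t ∉ E := by
    intro t ht
    constructor
    · rintro hsub ⟨y, ⟨hy, hyK⟩, hyt⟩
      have : y ∈ closure (Z ∩ f.base ⁻¹' {t}) ∩ f.base ⁻¹' {t} := ⟨hsub ⟨hy, hyt⟩, hyt⟩
      rw [h t ht] at this
      exact hyK this.1
    · intro hne y hy
      have : y ∈ K ∩ f.base ⁻¹' {t} := ⟨not_not.mp fun hyK => hne ⟨y, ⟨hy.1, hyK⟩, hy.2⟩, hy.2⟩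
      rw [← h t ht] at this
      exact this.1
  by_cases hs : s ∈ E
  · exact ⟨C ∩ E, hC.inter hE, ⟨hsC, hs⟩, Or.inr (Set.disjoint_left.mpr fun t ht h' =>
      (key t ht.1).mp h' ht.2)⟩
  · exact ⟨C ∩ Eᶜ, hC.inter hE.compl, ⟨hsC, hs⟩, Or.inl fun t ht => (key t ht.1).mpr ht.2⟩

theorem isLocallyConstructible_subset_closure {X S : Scheme.{u}} (f : X ⟶ S)
    [LocallyOfFinitePresentation f] [QuasiCompact f] [QuasiSeparated f] {Z Z' : Set X}
    (hZ : IsLocallyConstructible Z) (hZ' : IsLocallyConstructible Z') :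
    IsLocallyConstructible {s : S | Z' ∩ f.base ⁻¹' {s} ⊆ closure (Z ∩ f.base ⁻¹' {s})} := by
  refine isLocallyConstructible_of_affine _ fun U hU => ?_
  obtain ⟨_, _, _, _⟩ := qcqs_restrict f hU
  haveI : LocallyOfFinitePresentation (f ∣_ U) := IsZariskiLocalAtTarget.restrict ‹_› U
  let i := (f ⁻¹ᵁ U).ι
  convert isConstructible_subset_closure (f ∣_ U)
    (hZ.preimage_of_isOpenEmbedding i.isOpenEmbedding).isConstructible
    (hZ'.preimage_of_isOpenEmbedding i.isOpenEmbedding).isConstructible using 1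
  ext u
  show Z' ∩ f.base ⁻¹' {U.ι.base u} ⊆ closure (Z ∩ f.base ⁻¹' {U.ι.base u}) ↔ _
  rw [Set.mem_ofPred_eq, fibre_restrict f U u, ← Set.preimage_inter, ← Set.preimage_inter,
    ← i.isOpenEmbedding.isOpenMap.preimage_closure_eq_closure_preimage i.continuous]
  exact ⟨fun h => Set.preimage_mono h, fun h x hx => by
    obtain ⟨z, rfl⟩ := fibre_subset f U u hx.2
    exact h hx⟩

/-- a union of constructible neighbourhoods is ind-constructible -/
theorem isIndConstructible_loc {X Y S : Scheme.{u}} (f : X ⟶ Y) (g : Y ⟶ S)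
    (P : MorphismProperty Scheme.{u}) [P.IsStableUnderBaseChange]
    (H : ∀ {T : Scheme.{u}} [IsAffine T] (ι : T ⟶ S) (_ : IsOpenImmersion ι) {J : Type u} [SmallCategory J]
      [IsCofiltered J] (B : RichLib.LimBC.Sys J (pullback g ι)),
      RichLib.LimBC.AtLim B (fib f g ι) P → ∃ j, RichLib.LimBC.At B (fib f g ι) P j) :
    ProCons.IsIndConstructible (loc f g P) := by
  intro x
  obtain ⟨U, hU, hxU⟩ : ∃ U : S.Opens, IsAffineOpen U ∧ x ∈ U := by
    obtain ⟨_, ⟨U, hU, rfl⟩, hxU, -⟩ :=
      S.isBasis_affineOpens.exists_subset_of_mem_open (Set.mem_univ x) isOpen_univ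
    exact ⟨U, hU, hxU⟩
  refine ⟨U, U.2, hxU, {T : Set U | IsLocallyConstructible T ∧ T ⊆ Subtype.val ⁻¹' loc f g P},
    fun T hT => hT.1, Set.Subset.antisymm (fun u hu => ?_) (Set.sUnion_subset fun T hT => hT.2)⟩
  haveI : IsAffine U.toScheme := hU
  have hu' : (u : U.toScheme) ∈ loc (fib f g U.ι) (pullback.snd g U.ι) P := by
    rw [← preimage_loc f g P U.ι]; exact hu
  obtain ⟨T, ι, _, _, _, ⟨w, hw⟩, hP⟩ :=
    exists_stratum (fib f g U.ι) (pullback.snd g U.ι) P (fun B hB => H U.ι inferInstance B hB) hu'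
  haveI : QuasiCompact ι := inferInstance
  refine Set.mem_sUnion.mpr ⟨Set.range ι.base, ⟨?_, ?_⟩, w, hw⟩
  · rw [← Set.image_univ]; exact ι.isLocallyConstructible_image IsLocallyConstructible.univ
  · rintro _ ⟨v, rfl⟩
    have h1 : v ∈ ι.base ⁻¹' loc (fib f g U.ι) (pullback.snd g U.ι) P := by
      rw [preimage_loc (fib f g U.ι) (pullback.snd g U.ι) P ι]
      exact MorphismProperty.pullback_snd _ _ hP
    rw [← preimage_loc f g P U.ι] at h1
    exact h1

theorem isIndConstructible_loc_affineHom {X Y S : Scheme.{u}} (f : X ⟶ Y) (g : Y ⟶ S)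
    [LocallyOfFinitePresentation g] [QuasiCompact g] [QuasiSeparated g]
    [LocallyOfFinitePresentation (f ≫ g)] [QuasiCompact (f ≫ g)] [QuasiSeparated (f ≫ g)] :
    ProCons.IsIndConstructible (loc f g @IsAffineHom) := by
  haveI : QuasiCompact f := .of_comp f g
  haveI : QuasiSeparated f := .of_comp f g
  refine isIndConstructible_loc f g _ fun {T} _ ι _ _ _ _ B hB => ?_
  haveI : CompactSpace ↥(pullback g ι) := QuasiCompact.compactSpace_of_compactSpace (pullback.snd g ι)
  exact RichLib.LimBC.exists_at_isAffineHom B _ hB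

theorem isIndConstructible_loc_quasiAffine {X Y S : Scheme.{u}} (f : X ⟶ Y) (g : Y ⟶ S)
    [LocallyOfFinitePresentation g] [QuasiCompact g] [QuasiSeparated g]
    [LocallyOfFinitePresentation (f ≫ g)] [QuasiCompact (f ≫ g)] [QuasiSeparated (f ≫ g)] :
    ProCons.IsIndConstructible (loc f g RichLib.LimBC.qaProp) := by
  haveI : QuasiCompact f := .of_comp f g
  haveI : QuasiSeparated f := .of_comp f g
  refine isIndConstructible_loc f g _ fun {T} _ ι _ _ _ _ B hB => ?_
  haveI : CompactSpace ↥(pullback g ι) := QuasiCompact.compactSpace_of_compactSpace (pullback.snd g ι)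
  exact RichLib.LimBC.exists_at_isQuasiAffine B _ hB

/-- generators of the unit ideal over the fraction field generate it over a dense open -/
theorem exists_forall_span_map_eq_top {A : Type u} [CommRing A] [IsDomain A] {m : ℕ}
    (P : Finset (MvPolynomial (Fin m) A))
    (hη : Ideal.span ((MvPolynomial.map (algebraMap A (FractionRing A))) '' (P : Set (MvPolynomial (Fin m) A))) = ⊤) :
    ∃ f : A, f ≠ 0 ∧ ∀ p : PrimeSpectrum A, f ∉ p.asIdeal →
      Ideal.span ((MvPolynomial.map (algebraMap A p.asIdeal.ResidueField)) '' (P : Set (MvPolynomial (Fin m) A))) = ⊤ := by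
  let φ : MvPolynomial (Fin m) A →+* MvPolynomial (Fin m) (FractionRing A) :=
    MvPolynomial.map (algebraMap A (FractionRing A))
  letI : Algebra (MvPolynomial (Fin m) A) (MvPolynomial (Fin m) (FractionRing A)) :=
    MvPolynomial.algebraMvPolynomial
  haveI : IsLocalization (Submonoid.map MvPolynomial.C (nonZeroDivisors A))
      (MvPolynomial (Fin m) (FractionRing A)) :=
    MvPolynomial.isLocalization (nonZeroDivisors A) (FractionRing A)
  rw [← Ideal.map_span, Ideal.eq_top_iff_one] at hη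
  obtain ⟨⟨⟨a, ha⟩, ⟨_, f, hf, rfl⟩⟩, h⟩ := (IsLocalization.mem_map_algebraMap_iff
    (Submonoid.map MvPolynomial.C (nonZeroDivisors A)) (MvPolynomial (Fin m) (FractionRing A))).mp hη
  rw [one_mul] at h
  have ha' : MvPolynomial.C f = a :=
    MvPolynomial.map_injective _ (IsFractionRing.injective A (FractionRing A)) h
  refine ⟨f, nonZeroDivisors.ne_zero hf, fun p hp => Ideal.eq_top_of_isUnit_mem
    (x := MvPolynomial.C (algebraMap A p.asIdeal.ResidueField f)) _ ?_ ?_⟩
  · rw [← Ideal.map_span, ← MvPolynomial.map_C, ha']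
    exact Ideal.mem_map_of_mem _ ha
  · refine (isUnit_iff_ne_zero.mpr ?_).map MvPolynomial.C
    rwa [Ne, Ideal.algebraMap_residueField_eq_zero]

end RichLib.FibreLoci
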