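import Mathlib
import Groth.Agent.ProjLib.ProjNil
import Groth.Agent.FlatLib.GenericFree
import Groth.Agent.RichLib.FlatModel

/-!
# A flat module of finite presentation is free on principal strata (EGA IV 8.9.5)
-/

set_option autoImplicit false
universe u

open TensorProduct LinearMap

attribute [local instance] MvPolynomial.algebraMvPolynomial

noncomputable section

namespace RichLib.PrincipalStrata

theorem le_of_le_sup_smul {R M : Type u} [CommRing R] [AddCommGroup M] [Module R M] {I : Ideal R}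
    (hI : IsNilpotent I) {P Q : Submodule R M} (h : Q ≤ P ⊔ I • Q) : Q ≤ P := by
  obtain ⟨n, hn⟩ := hI
  have : ∀ k : ℕ, Q ≤ P ⊔ I ^ k • Q := by
    intro k
    induction k with
    | zero => simp
    | succ k ih =>
      refine h.trans (sup_le le_sup_left ?_)
      refine (Submodule.smul_mono le_rfl ih).trans ?_
      rw [Submodule.smul_sup, ← mul_smul, ← pow_succ']
      exact sup_le (Submodule.smul_le_right.trans le_sup_left) le_sup_right
  refine (this n).trans ?_
  rw [hn, Ideal.zero_eq_bot, Submodule.bot_smul, sup_bot_eq]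

/-- a flat module which is free modulo a nilpotent ideal is free -/
theorem free_of_flat_of_free_mod {R : Type u} [CommRing R] (I : Ideal R) (hI : IsNilpotent I) (M : Type u)
    [AddCommGroup M] [Module R M] [Module.Flat R M] [Module.Free (R ⧸ I) ((R ⧸ I) ⊗[R] M)] :
    Module.Free R M := by
  classical
  haveI : Module.Projective (R ⧸ I) ((R ⧸ I) ⊗[R] M) := inferInstance
  haveI := (ProjLib.projective_quotSMul_iff I M).1 ‹_›
  haveI : Module.Projective R M := ProjLib.projective_of_nilpotent hI M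
  let b := Module.Free.chooseBasis (R ⧸ I) ((R ⧸ I) ⊗[R] M)
  choose v hv using fun i => TensorProduct.mk_surjective R M (R ⧸ I) Ideal.Quotient.mk_surjective (b i)
  let ψ := Finsupp.linearCombination R v
  have hker : ∀ x : M, (1 : R ⧸ I) ⊗ₜ[R] x = 0 → x ∈ I • (⊤ : Submodule R M) := fun x hx => by
    have hx' := congrArg (quotTensorEquivQuotSMul M I) hx
    rw [← (Ideal.Quotient.mk I).map_one, quotTensorEquivQuotSMul_mk_tmul, map_zero, one_smul,
      Submodule.Quotient.mk_eq_zero] at hx'
    exact hx'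
  have himg : ∀ c : _ →₀ R, (1 : R ⧸ I) ⊗ₜ[R] ψ c =
      Finsupp.linearCombination (R ⧸ I) b (c.mapRange (Ideal.Quotient.mk I) (map_zero _)) := fun c => by
    rw [Finsupp.linearCombination_apply, Finsupp.linearCombination_apply,
      Finsupp.sum_mapRange_index (h := fun i (a : R ⧸ I) => a • b i) (fun _ => zero_smul _ _)]
    simp only [Finsupp.sum, TensorProduct.tmul_sum, TensorProduct.tmul_smul]
    refine Finset.sum_congr rfl fun i _ => ?_
    rw [show b i = (1 : R ⧸ I) ⊗ₜ[R] v i from (hv i).symm]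
    rfl
  have hsurj : (⊤ : Submodule R M) ≤ LinearMap.range ψ := by
    refine le_of_le_sup_smul hI fun x _ => ?_
    obtain ⟨c, hc⟩ : ∃ c, Finsupp.linearCombination (R ⧸ I) b c = (1 : R ⧸ I) ⊗ₜ[R] x :=
      ⟨b.repr _, b.linearCombination_repr _⟩
    obtain ⟨c', rfl⟩ := Finsupp.mapRange_surjective (Ideal.Quotient.mk I) (map_zero _) Ideal.Quotient.mk_surjective c
    refine Submodule.mem_sup.mpr ⟨ψ c', ⟨c', rfl⟩, x - ψ c', hker _ ?_, by abel⟩
    rw [TensorProduct.tmul_sub, himg, hc, sub_self]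
  obtain ⟨s, hs⟩ := Module.projective_lifting_property ψ LinearMap.id (LinearMap.range_eq_top.mp (top_le_iff.mp hsurj))
  let π := LinearMap.id - s ∘ₗ ψ
  have hK : ∀ x, ψ x = 0 → x ∈ I • LinearMap.range π := fun x hx => by
    have h0 := himg x
    rw [hx, TensorProduct.tmul_zero, eq_comm] at h0
    have hx0 : ∀ i, x i ∈ I := fun i => by
      have := DFunLike.congr_fun (b.linearIndependent.finsuppLinearCombination_injective
        (h0.trans (map_zero _).symm)) i
      simpa [Ideal.Quotient.eq_zero_iff_mem] using this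
    have hmem : x ∈ I • (⊤ : Submodule R _) := by
      rw [← x.sum_single]
      exact Submodule.sum_mem _ fun i _ => by
        rw [← Finsupp.smul_single_one]
        exact Submodule.smul_mem_smul (hx0 i) Submodule.mem_top
    have := Submodule.mem_map_of_mem (f := π) hmem
    rw [Submodule.map_smul'', Submodule.map_top] at this
    simpa [π, hx] using this
  have hπ : LinearMap.range π ≤ ⊥ := le_of_le_sup_smul hI (by
    rintro _ ⟨x, rfl⟩
    refine Submodule.mem_sup_right (hK _ ?_)
    have := LinearMap.congr_fun hs (ψ x)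
    simp only [LinearMap.comp_apply, LinearMap.id_apply] at this
    simp [π, this])
  refine Module.Free.of_equiv (LinearEquiv.ofBijective ψ ⟨fun x y h => ?_,
    LinearMap.range_eq_top.mp (top_le_iff.mp hsurj)⟩)
  have hz : π (x - y) = 0 := (Submodule.mem_bot R).mp (hπ ⟨_, rfl⟩)
  simpa [π, map_sub, h, sub_eq_zero] using hz

attribute [local instance] Algebra.TensorProduct.rightAlgebra

/-- one stratum -/
theorem exists_free_step {A : Type u} [CommRing A] [IsNoetherianRing A] (B : Type u) [CommRing B] [Algebra A B]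
    [Algebra.FiniteType A B] (M : Type u) [AddCommGroup M] [Module B M] [Module A M] [IsScalarTower A B M]
    [Module.Finite B M] [Module.Flat A M] (I : Ideal A) (hI : I ≠ ⊤) :
    ∃ f : A, f ∉ I ∧ ∀ (L : Type u) [CommRing L] [Algebra A L], IsUnit (algebraMap A L f) →
      (∀ x ∈ I, algebraMap A L x = 0) → Module.Free L (L ⊗[A] M) := by
  classical
  obtain ⟨p, hp⟩ := Ideal.nonempty_minimalPrimes hI
  haveI : p.IsPrime := hp.1.1
  let C := A ⧸ p
  let N := (C ⊗[A] B) ⊗[B] M
  haveI : Module.Finite (C ⊗[A] B) N := Module.Finite.base_change B (C ⊗[A] B) M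
  obtain ⟨c, hc, hfree⟩ : FlatLib.GFree C (C ⊗[A] M) :=
    (FlatLib.gfree_of_finite (R := C) (C ⊗[A] B) N).of_equiv (Algebra.IsPushout.cancelBaseChange A C B (C ⊗[A] B) M)
  obtain ⟨c, rfl⟩ := Ideal.Quotient.mk_surjective c
  have hcp : c ∉ p := fun h => hc (Ideal.Quotient.eq_zero_iff_mem.mpr h)
  have hfin := Ideal.finite_minimalPrimes_of_isNoetherianRing A I
  let S := hfin.toFinset.erase p
  have hh : ∀ q ∈ S, ∃ h ∈ q, h ∉ p := fun q hq => by
    obtain ⟨hne, hq⟩ := Finset.mem_erase.mp hq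
    rw [Set.Finite.mem_toFinset] at hq
    exact Set.not_subset.mp fun hle => hne (le_antisymm hle (hp.2 hq.1 hle))
  choose! h hhq hhp using hh
  let h₀ := ∏ q ∈ S, h q
  have hh₀ : h₀ ∉ p := fun hmem => by
    obtain ⟨q, hq, hqp⟩ := Ideal.IsPrime.prod_mem_iff.mp hmem
    exact hhp q hq hqp
  refine ⟨c * h₀, fun hmem => ?_, fun L _ _ hu hIL => ?_⟩
  · rcases (inferInstance : p.IsPrime).mem_or_mem (hp.1.2 hmem) with h1 | h1
    · exact hcp h1
    · exact hh₀ h1
  rw [map_mul, IsUnit.mul_iff] at hu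
  let J := p.map (algebraMap A L)
  have hle : Ideal.span {h₀} * p ≤ I.radical := by
    rw [← Ideal.sInf_minimalPrimes]
    refine le_sInf fun q hq => ?_
    by_cases hqp : q = p
    · exact hqp ▸ Ideal.mul_le_right
    · refine Ideal.mul_le_left.trans ((Ideal.span_singleton_le_iff_mem q).mpr ?_)
      have hqS : q ∈ S := Finset.mem_erase.mpr ⟨hqp, by rw [Set.Finite.mem_toFinset]; exact hq⟩
      exact q.mem_of_dvd (Finset.dvd_prod_of_mem h hqS) (hhq q hqS)
  obtain ⟨n, hn⟩ := Ideal.exists_radical_pow_le_of_fg I (IsNoetherian.noetherian _)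
  have hJ : IsNilpotent J := by
    refine ⟨n, ?_⟩
    have h1 := Ideal.map_mono (f := algebraMap A L) ((Ideal.pow_right_mono hle n).trans hn)
    rw [Ideal.map_pow, Ideal.map_mul, Ideal.map_span, Set.image_singleton,
      Ideal.span_singleton_eq_top.mpr hu.2, Ideal.top_mul] at h1
    refine le_bot_iff.mp (h1.trans ?_)
    rw [Ideal.map_le_iff_le_comap]
    exact fun x hx => hIL x hx
  letI : Algebra C (L ⧸ J) := (Ideal.Quotient.lift p (algebraMap A (L ⧸ J)) fun x hx =>
    Ideal.Quotient.eq_zero_iff_mem.mpr (Ideal.mem_map_of_mem _ hx)).toAlgebra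
  haveI : IsScalarTower A C (L ⧸ J) := IsScalarTower.of_algebraMap_eq fun _ => rfl
  haveI : Module.Free (L ⧸ J) ((L ⧸ J) ⊗[C] (C ⊗[A] M)) :=
    FlatLib.free_tensor_of_isUnit (L ⧸ J) (hu.1.map (Ideal.Quotient.mk J)) hfree
  haveI : Module.Free (L ⧸ J) ((L ⧸ J) ⊗[L] (L ⊗[A] M)) :=
    Module.Free.of_equiv ((AlgebraTensorModule.cancelBaseChange A C (L ⧸ J) (L ⧸ J) M).trans
      (AlgebraTensorModule.cancelBaseChange A L (L ⧸ J) (L ⧸ J) M).symm)
  exact free_of_flat_of_free_mod J hJ (L ⊗[A] M)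

theorem exists_free_list {A : Type u} [CommRing A] [IsNoetherianRing A] (B : Type u) [CommRing B] [Algebra A B]
    [Algebra.FiniteType A B] (M : Type u) [AddCommGroup M] [Module B M] [Module A M] [IsScalarTower A B M]
    [Module.Finite B M] [Module.Flat A M] (I : Ideal A) :
    ∃ l : List A, I ⊔ Ideal.span {a | a ∈ l} = ⊤ ∧
      ∀ (i : ℕ) (hi : i < l.length) (L : Type u) [CommRing L] [Algebra A L],
        IsUnit (algebraMap A L l[i]) → (∀ x ∈ I, algebraMap A L x = 0) →
        (∀ a ∈ l.take i, algebraMap A L a = 0) → Module.Free L (L ⊗[A] M) := by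
  induction I using WellFoundedGT.induction with
  | ind I ih =>
    by_cases hI : I = ⊤
    · exact ⟨[], by simp [hI], fun i hi => absurd hi (Nat.not_lt_zero i)⟩
    obtain ⟨f, hf, hfree⟩ := exists_free_step B M I hI
    obtain ⟨l, hl, hl'⟩ := ih (I ⊔ Ideal.span {f})
      (left_lt_sup.mpr fun h => hf (h (Ideal.mem_span_singleton_self f)))
    refine ⟨f :: l, ?_, ?_⟩
    · rw [show {a | a ∈ f :: l} = ({f} : Set A) ∪ {a | a ∈ l} by ext; simp, Ideal.span_union, ← sup_assoc]
      exact hl
    intro i hi L _ _ hu hIL hpre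
    match i with
    | 0 => exact hfree L hu hIL
    | i + 1 =>
      refine hl' i (Nat.lt_of_succ_lt_succ hi) L hu (fun x hx => ?_) fun a ha => hpre a (List.mem_cons_of_mem f ha)
      have hle : I ⊔ Ideal.span {f} ≤ RingHom.ker (algebraMap A L) :=
        sup_le (fun y hy => hIL y hy) ((Ideal.span_singleton_le_iff_mem _).mpr (hpre f (List.mem_cons_self ..)))
      exact hle hx

set_option maxHeartbeats 1600000 in
set_option synthInstance.maxHeartbeats 200000 in
open FlatLib in
/-- a flat module of finite presentation is free on principal strata -/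
theorem exists_principal_strata {A B : Type u} [CommRing A] [CommRing B] [Algebra A B]
    [Algebra.FinitePresentation A B] (M : Type u) [AddCommGroup M] [Module B M] [Module A M] [IsScalarTower A B M]
    [Module.FinitePresentation B M] [Module.Flat A M] :
    ∃ l : List A, Ideal.span {a | a ∈ l} = ⊤ ∧
      ∀ (i : ℕ) (hi : i < l.length) (L : Type u) [CommRing L] [Algebra A L],
        IsUnit (algebraMap A L l[i]) → (∀ a ∈ l.take i, algebraMap A L a = 0) →
        Module.Free L (L ⊗[A] M) := by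
  classical
  obtain ⟨σ, hσ, π, hπ, hker⟩ := Algebra.FinitePresentation.iff_quotient_mvPolynomial'.{_, _, u}.mp
    (inferInstance : Algebra.FinitePresentation A B)
  let P := MvPolynomial σ A
  letI : Algebra P B := π.toRingHom.toAlgebra
  haveI : Module.FinitePresentation P B :=
    Module.finitePresentation_of_surjective (Algebra.linearMap P B) hπ hker
  letI : Module P M := Module.compHom M π.toRingHom
  haveI : IsScalarTower P B M := IsScalarTower.of_algebraMap_smul fun _ _ => rfl
  haveI : IsScalarTower A P M := IsScalarTower.of_algebraMap_smul fun a m => by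
    show π (algebraMap A P a) • m = a • m
    rw [π.commutes, algebraMap_smul]
  haveI : Module.FinitePresentation P M := Module.FinitePresentation.trans P M B
  obtain ⟨A₁, M₀, _, _, _, _, hA₁, _, ⟨e⟩, -⟩ := exists_model (σ := σ) (R := A) (M := M) ∅ (by simp)
  haveI : IsNoetherianRing A₁ := isNoetherianRing_of_fg hA₁
  haveI : Finite σ := Finite.of_fintype σ
  haveI : Module.FinitePresentation (MvPolynomial σ A₁) M₀ := Module.finitePresentation_of_finite _ _
  let e' : A ⊗[A₁] M₀ ≃ₗ[A] M := (isBaseChange_inc σ A₁ M₀ A).equiv ≪≫ₗ e.restrictScalars A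
  haveI : Module.Flat A (A ⊗[A₁] M₀) := Module.Flat.of_linearEquiv e'
  obtain ⟨⟨A₂, hA₂⟩, hi⟩ := (RichLib.FlatColimit.flat_iff_exists_stage
    (fun S : {S : Subalgebra A₁ A // S.FG} => S.1) (fun _ _ h => Subalgebra.inclusion h) A
    (RichLib.FlatModel.isDirectedColimitRing_fg A₁ A) (B₀ := MvPolynomial σ A₁) M₀).mp ‹_›
  haveI : Module.Flat A₂ (A₂ ⊗[A₁] M₀) := hi
  haveI : Algebra.FiniteType A₁ A₂ := A₂.fg_iff_finiteType.mp hA₂
  haveI : IsNoetherianRing A₂ := Algebra.FiniteType.isNoetherianRing A₁ A₂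
  haveI : Module.Flat A₂ (BC σ A₁ M₀ A₂) := Module.Flat.of_linearEquiv (isBaseChange_inc σ A₁ M₀ A₂).equiv.symm
  haveI : Module.Finite (MvPolynomial σ A₂) (BC σ A₁ M₀ A₂) :=
    Module.Finite.base_change (MvPolynomial σ A₁) (MvPolynomial σ A₂) M₀
  obtain ⟨l, hl, hl'⟩ := exists_free_list (MvPolynomial σ A₂) (BC σ A₁ M₀ A₂) (⊥ : Ideal A₂)
  refine ⟨l.map (algebraMap A₂ A), ?_, fun i hi L _ _ hu hpre => ?_⟩
  · have : {a | a ∈ l.map (algebraMap A₂ A)} = algebraMap A₂ A '' {a | a ∈ l} := by ext; simp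
    rw [this, ← Ideal.map_span]
    rw [bot_sup_eq] at hl
    rw [hl, Ideal.map_top]
  haveI hT : IsScalarTower A₂ A L := inferInstance
  have hmap : ∀ a : A₂, algebraMap A₂ L a = algebraMap A L (algebraMap A₂ A a) :=
    IsScalarTower.algebraMap_apply A₂ A L
  haveI : Module.Free L (L ⊗[A₂] BC σ A₁ M₀ A₂) := by
    rw [List.length_map] at hi
    refine hl' i hi L (by rw [hmap]; simpa using hu) (fun x hx => by rw [Ideal.mem_bot.mp hx, map_zero]) fun a ha => ?_
    rw [hmap]
    exact hpre _ (by rw [← List.map_take]; exact List.mem_map_of_mem ha)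
  let E₂ : A ⊗[A₂] BC σ A₁ M₀ A₂ ≃ₗ[A] M :=
    AlgebraTensorModule.congr (LinearEquiv.refl A A) (isBaseChange_inc σ A₁ M₀ A₂).equiv.symm ≪≫ₗ
      AlgebraTensorModule.cancelBaseChange A₁ A₂ A A M₀ ≪≫ₗ e'
  let E : L ⊗[A₂] BC σ A₁ M₀ A₂ ≃ₗ[L] L ⊗[A] M :=
    (AlgebraTensorModule.cancelBaseChange A₂ A L L (BC σ A₁ M₀ A₂)).symm ≪≫ₗ
      AlgebraTensorModule.congr (LinearEquiv.refl L L) E₂
  exact Module.Free.of_equiv E

end RichLib.PrincipalStrata
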