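import Mathlib
import Groth.Agent.RichLib.PrincipalStrata

/-!
# A module which is flat at the generic point is generically free (EGA IV 8.9.4, irreducible base)
-/

set_option autoImplicit false
universe u

open TensorProduct LinearMap

attribute [local instance] Algebra.TensorProduct.rightAlgebra

noncomputable section

namespace RichLib.FreeAtMinimal

open FlatLib

theorem eq_bot_or_of_le {A : Type u} [CommRing A] (p : Ideal A) (hp : minimalPrimes A = {p})
    (q : Ideal A) (hq : q.IsPrime) : p ≤ q := by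
  obtain ⟨r, hr, hrq⟩ := Ideal.exists_minimalPrimes_le (I := ⊥) (J := q) bot_le
  rw [show (⊥ : Ideal A).minimalPrimes = minimalPrimes A from rfl, hp, Set.mem_singleton_iff] at hr
  exact hr ▸ hrq

set_option synthInstance.maxHeartbeats 200000 in
set_option maxHeartbeats 1600000 in
theorem exists_free_of_flat {A B : Type u} [CommRing A] [CommRing B] [Algebra A B]
    [Algebra.FinitePresentation A B] (p : Ideal A) [p.IsPrime] (hp : minimalPrimes A = {p})
    (M : Type u) [AddCommGroup M] [Module B M] [Module A M] [IsScalarTower A B M] [Module.FinitePresentation B M]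
    (hflat : Module.Flat (Localization.AtPrime p) (LocalizedModule p.primeCompl M)) :
    ∃ t : A, t ∉ p ∧ Module.Free (Localization.Away t) (LocalizedModule (Submonoid.powers t) M) := by
  classical
  have hflatA : Module.Flat A (LocalizedModule p.primeCompl M) :=
    Module.Flat.trans A (Localization.AtPrime p) _
  have hcrit := (flat_localized_iff (R := A) (S := A) p.primeCompl (LocalizedModule.mkLinearMap p.primeCompl M)).mp hflatA
  -- flatness on the fibre over the generic point
  have hfib : ∀ q : PrimeSpectrum B, q.asIdeal.comap (algebraMap A B) = p → q ∈ flatLocus A B M := fun q hq => by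
    refine (flat_localized_iff q.asIdeal.primeCompl (LocalizedModule.mkLinearMap _ M)).mpr fun P _ _ N x hx => ?_
    obtain ⟨t, ht, htx⟩ := hcrit P N x hx
    exact ⟨algebraMap A B t, fun h => ht (hq.le h), by rw [algebraMap_smul]; exact htx⟩
  obtain ⟨J, hJ⟩ := (PrimeSpectrum.isOpen_iff _).mp (isOpen_flatLocus_fp : IsOpen (flatLocus A B M))
  have hdisj : ¬ Disjoint (Ideal.span J : Set B) (p.primeCompl.map (algebraMap A B) : Set B) := fun hd => by
    obtain ⟨r, hr, hJr, hrd⟩ := Ideal.exists_le_prime_disjoint (Ideal.span J) _ hd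
    have hrp : r.comap (algebraMap A B) = p := le_antisymm
      (fun a ha => by_contra fun hap => Set.disjoint_left.mp hrd ha ⟨a, hap, rfl⟩)
      (eq_bot_or_of_le p hp _ (hr.comap _))
    have : (⟨r, hr⟩ : PrimeSpectrum B) ∈ (flatLocus A B M)ᶜ := by
      rw [hJ]; exact fun z hz => hJr (Ideal.subset_span hz)
    exact this (hfib ⟨r, hr⟩ hrp)
  obtain ⟨_, hsJ, t₀, ht₀, rfl⟩ := Set.not_disjoint_iff.mp hdisj
  let A' := Localization.Away t₀
  -- flatness away from `t₀`
  haveI hflat' : Module.Flat A' (A' ⊗[A] M) := by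
    haveI : IsLocalizedModule (Submonoid.powers t₀) (TensorProduct.mk A A' M 1) :=
      IsLocalization.tensorProduct_isLocalizedModule _ A'
    refine (Module.flat_iff_of_isLocalization A' (Submonoid.powers t₀) _).mpr ?_
    refine (flat_localized_iff (R := A) (S := A) (Submonoid.powers t₀) (TensorProduct.mk A A' M 1)).mpr
      fun P _ _ N x hx => ?_
    let K : Ideal B := LinearMap.ker (LinearMap.toSpanSingleton B _ x)
    by_cases hK : algebraMap A B t₀ ∈ K.radical
    · obtain ⟨n, hn⟩ := hK
      refine ⟨t₀ ^ n, ⟨n, rfl⟩, ?_⟩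
      rw [← algebraMap_smul B (t₀ ^ n) x, map_pow]
      exact hn
    · rw [Ideal.radical_eq_sInf, Ideal.mem_sInf] at hK
      push Not at hK
      obtain ⟨r, ⟨hKr, hr⟩, htr⟩ := hK
      have hmem : (⟨r, hr⟩ : PrimeSpectrum B) ∈ flatLocus A B M := by_contra fun hn => by
        have : (⟨r, hr⟩ : PrimeSpectrum B) ∈ PrimeSpectrum.zeroLocus J := by rw [← hJ]; exact hn
        exact htr (Ideal.span_le.mpr this hsJ)
      obtain ⟨b, hb, hbx⟩ := (flat_localized_iff r.primeCompl (LocalizedModule.mkLinearMap _ M)).mp hmem P N x hx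
      exact absurd (hKr (show b ∈ K from hbx)) hb
  let B' := A' ⊗[A] B
  let M' := B' ⊗[B] M
  haveI : Algebra.FinitePresentation A' B' := inferInstance
  haveI : Module.FinitePresentation B' M' := inferInstance
  haveI : Module.Flat A' M' :=
    Module.Flat.of_linearEquiv (Algebra.IsPushout.cancelBaseChange A A' B B' M)
  obtain ⟨l, hl, hfree⟩ := RichLib.PrincipalStrata.exists_principal_strata (A := A') (B := B') M'
  -- the first member which is not nilpotent
  let π₀ := algebraMap A A'
  have hnil : ∀ z : A', ¬ IsNilpotent z → ∃ a : A, a ∉ p ∧ ∃ n : ℕ, z * π₀ (t₀ ^ n) = π₀ a := fun z hz => by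
    obtain ⟨⟨a, ⟨_, n, rfl⟩⟩, ha⟩ := IsLocalization.surj (Submonoid.powers t₀) z
    refine ⟨a, fun hap => hz ?_, n, ha⟩
    have hanil : IsNilpotent a := by
      rw [← mem_nilradical, nilradical_eq_sInf, Ideal.mem_sInf]
      exact fun {q} hq => eq_bot_or_of_le p hp q hq hap
    have hu : IsUnit (π₀ (t₀ ^ n)) := IsLocalization.map_units A' (⟨t₀ ^ n, n, rfl⟩ : Submonoid.powers t₀)
    obtain ⟨u, hu'⟩ := hu
    have : z = π₀ a * ↑u⁻¹ := by rw [← ha, ← hu', mul_assoc, u.mul_inv, mul_one]
    rw [this]
    exact (Commute.all _ _).isNilpotent_mul_right (hanil.map π₀)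
  have hex : ∃ i, ∃ hi : i < l.length, ¬ IsNilpotent l[i] := by
    by_contra hne
    push Not at hne
    have hle : Ideal.span {a | a ∈ l} ≤ nilradical A' := Ideal.span_le.mpr fun a ha => by
      obtain ⟨i, hi, rfl⟩ := List.mem_iff_getElem.mp ha
      exact hne i hi
    rw [hl] at hle
    obtain ⟨k, hk⟩ := (hle (Submodule.mem_top (x := (1 : A'))) : IsNilpotent (1 : A'))
    rw [one_pow] at hk
    obtain ⟨⟨_, m, rfl⟩, hm⟩ := (IsLocalization.eq_iff_exists (Submonoid.powers t₀) A').mp
      (show π₀ 1 = π₀ 0 by rw [map_one, map_zero, hk])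
    rw [mul_one, mul_zero] at hm
    exact ht₀ ((inferInstance : p.IsPrime).mem_of_pow_mem m (by rw [show t₀ ^ m = 0 from hm]; exact zero_mem p))
  let i := Nat.find hex
  obtain ⟨hi, hnot⟩ := Nat.find_spec hex
  obtain ⟨a, hap, n, ha⟩ := hnil l[i] hnot
  let t := t₀ * a
  have ht : t ∉ p := fun h => ((inferInstance : p.IsPrime).mem_or_mem h).elim ht₀ hap
  let L := Localization.Away t
  have hut : IsUnit (algebraMap A L t₀) ∧ IsUnit (algebraMap A L a) := by
    rw [← IsUnit.mul_iff, ← map_mul]
    exact IsLocalization.Away.algebraMap_isUnit t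
  letI : Algebra A' L := (IsLocalization.Away.lift t₀ hut.1).toAlgebra
  haveI : IsScalarTower A A' L := IsScalarTower.of_algebraMap_eq fun r => (IsLocalization.Away.lift_eq t₀ hut.1 r).symm
  let N : Ideal L := (Ideal.span {z | z ∈ l.take i}).map (algebraMap A' L)
  have hN : IsNilpotent N := by
    refine (Ideal.FG.isNilpotent_iff_le_nilradical ?_).mpr ?_
    · exact Ideal.FG.map ⟨(l.take i).toFinset, by rw [List.coe_toFinset]⟩ _
    · rw [Ideal.map_le_iff_le_comap, Ideal.span_le]
      intro z hz
      obtain ⟨j, hj, rfl⟩ := List.mem_iff_getElem.mp hz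
      rw [List.getElem_take]
      rw [List.length_take, lt_min_iff] at hj
      have := Nat.find_min hex hj.1
      push Not at this
      exact (this hj.2).map _
  have hli : IsUnit (algebraMap A' L l[i]) := by
    have := congrArg (algebraMap A' L) ha
    rw [map_mul, ← IsScalarTower.algebraMap_apply, ← IsScalarTower.algebraMap_apply] at this
    exact (IsUnit.mul_iff.mp (this ▸ hut.2)).1
  haveI : Module.Free (L ⧸ N) ((L ⧸ N) ⊗[A'] M') := hfree i hi (L ⧸ N) (hli.map (Ideal.Quotient.mk N))
    fun z hz => Ideal.Quotient.eq_zero_iff_mem.mpr (Ideal.mem_map_of_mem _ (Ideal.subset_span hz))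
  haveI : Module.Flat L (L ⊗[A'] M') := inferInstance
  haveI : Module.Free (L ⧸ N) ((L ⧸ N) ⊗[L] (L ⊗[A'] M')) :=
    Module.Free.of_equiv (AlgebraTensorModule.cancelBaseChange A' L (L ⧸ N) (L ⧸ N) M').symm
  haveI := RichLib.PrincipalStrata.free_of_flat_of_free_mod N hN (L ⊗[A'] M')
  let E : L ⊗[A'] M' ≃ₗ[L] L ⊗[A] M :=
    AlgebraTensorModule.congr (LinearEquiv.refl L L) (Algebra.IsPushout.cancelBaseChange A A' B B' M) ≪≫ₗ
      AlgebraTensorModule.cancelBaseChange A A' L L M
  haveI : Module.Free L (L ⊗[A] M) := Module.Free.of_equiv E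
  exact ⟨t, ht, Module.Free.of_equiv (LocalizedModule.equivTensorProduct (Submonoid.powers t) M).symm⟩

end RichLib.FreeAtMinimal
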