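import Mathlib.LinearAlgebra.FreeModule.Finite.Quotient
import Mathlib.LinearAlgebra.BilinearForm.Orthogonal
import Mathlib.LinearAlgebra.Dual.Lemmas
import Mathlib.Algebra.Module.Torsion.Free
import Mathlib.Algebra.Module.Torsion.Basic
import Mathlib.Algebra.Module.Projective
import Mathlib.Tactic.LinearCombination

/-!
# Sublattices of positive definite lattices
-/

set_option autoImplicit false

open Module

noncomputable section

namespace RichLib

variable {L : Type} [AddCommGroup L] [Module.Finite ℤ L] [Module.Free ℤ L]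

/-- A multiple of every functional on a sublattice is represented in it. -/
theorem exists_smul_repr (B : LinearMap.BilinForm ℤ L) (hpos : ∀ x, x ≠ 0 → 0 < B x x)
    (A : Submodule ℤ L) (ψ : Dual ℤ A) :
    ∃ (c : ℤ) (a : A), c ≠ 0 ∧ ∀ a' : A, c * ψ a' = B a a' := by
  let b := Free.chooseBasis ℤ A
  let T : A →ₗ[ℤ] Dual ℤ A := (B.compl₂ A.subtype).comp A.subtype
  let g : A →ₗ[ℤ] A := b.toDualEquiv.symm.toLinearMap ∘ₗ T
  have hT : Function.Injective T := (injective_iff_map_eq_zero _).2 fun a ha => by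
    by_contra h
    have h1 : B (a : L) (a : L) = 0 := LinearMap.congr_fun ha a
    exact (hpos a fun e => h (Subtype.ext e)).ne' h1
  have hg : Function.Injective g := b.toDualEquiv.symm.injective.comp hT
  haveI := Submodule.finiteQuotientOfFreeOfRankEq (LinearMap.range g)
    (LinearMap.finrank_range_of_inj hg)
  let Q := A ⧸ LinearMap.range g
  have hmem : ((Nat.card Q : ℤ)) • b.toDualEquiv.symm ψ ∈ LinearMap.range g := by
    rw [← Submodule.Quotient.mk_eq_zero (LinearMap.range g), Submodule.Quotient.mk_smul, natCast_zsmul]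
    exact card_nsmul_eq_zero'
  obtain ⟨a, ha⟩ := hmem
  refine ⟨Nat.card Q, a, by exact_mod_cast Nat.card_pos.ne', fun a' => ?_⟩
  have h2 : T a = (Nat.card Q : ℤ) • ψ := b.toDualEquiv.symm.injective (ha.trans (map_smul _ _ _).symm)
  exact (LinearMap.congr_fun h2 a').symm

/-- Functionals extend from saturated submodules. -/
theorem exists_dual_extend (S : Submodule ℤ L) (hS : ∀ (c : ℤ) (x : L), c ≠ 0 → c • x ∈ S → x ∈ S)
    (ψ : Dual ℤ S) : ∃ φ : Dual ℤ L, φ ∘ₗ S.subtype = ψ := by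
  haveI : Module.IsTorsionFree ℤ (L ⧸ S) := .of_smul_eq_zero fun c q h => by
    induction q using Submodule.Quotient.induction_on with
    | H x =>
      by_cases hc : c = 0
      · exact Or.inl hc
      · rw [← Submodule.Quotient.mk_smul, Submodule.Quotient.mk_eq_zero] at h
        exact Or.inr ((Submodule.Quotient.mk_eq_zero S).mpr (hS c x hc h))
  haveI : Module.Free ℤ (L ⧸ S) := Module.free_of_finite_type_torsion_free'
  obtain ⟨s, hs⟩ := Module.projective_lifting_property S.mkQ (LinearMap.id : (L ⧸ S) →ₗ[ℤ] L ⧸ S) S.mkQ_surjective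
  let p : L →ₗ[ℤ] S := LinearMap.codRestrict S (LinearMap.id - s ∘ₗ S.mkQ) fun x => by
    rw [← Submodule.Quotient.mk_eq_zero S]
    have := LinearMap.congr_fun hs (Submodule.Quotient.mk x)
    simp only [LinearMap.sub_apply, LinearMap.id_apply, LinearMap.comp_apply, Submodule.mkQ_apply,
      Submodule.Quotient.mk_sub] at this ⊢
    rw [this, sub_self]
  refine ⟨ψ ∘ₗ p, LinearMap.ext fun x => congrArg ψ (Subtype.ext ?_)⟩
  simp [p, (Submodule.Quotient.mk_eq_zero S).mpr x.2]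

theorem lattice_orthogonal (B : LinearMap.BilinForm ℤ L) (hsymm : B.IsSymm) (hpos : ∀ x, x ≠ 0 → 0 < B x x)
    (A : Submodule ℤ L) (htf : ∀ (c : ℤ) (x : L), c ≠ 0 → c • x ∈ A → x ∈ A) :
    (∀ x : L, (∃ b ∈ B.orthogonal A, ∀ b' ∈ B.orthogonal A, B x b' = B b b') → x ∈ A ⊔ B.orthogonal A) ∧
      (∀ x : L, (∃ a ∈ A, ∀ a' ∈ A, B x a' = B a a') → x ∈ A ⊔ B.orthogonal A) ∧
      (∀ ψ : Module.Dual ℤ ↥(B.orthogonal A), ∃ φ : Module.Dual ℤ L, φ ∘ₗ (B.orthogonal A).subtype = ψ) ∧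
      (∀ ψ : Module.Dual ℤ ↥A, ∃ φ : Module.Dual ℤ L, φ ∘ₗ A.subtype = ψ) := by
  have hmemO : ∀ x, x ∈ B.orthogonal A ↔ ∀ a ∈ A, B a x = 0 := fun x => LinearMap.BilinForm.mem_orthogonal_iff
  refine ⟨fun x ⟨b, hb, h⟩ => ?_, fun x ⟨a, ha, h⟩ => ?_,
    exists_dual_extend _ fun c x hc hx => ?_, exists_dual_extend A htf⟩
  · suffices hy : x - b ∈ A by
      exact Submodule.mem_sup.mpr ⟨x - b, hy, b, hb, sub_add_cancel x b⟩
    set y := x - b with hy_def
    have hy : ∀ b' ∈ B.orthogonal A, B y b' = 0 := fun b' hb' => by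
      rw [hy_def, map_sub, LinearMap.sub_apply, h b' hb', sub_self]
    obtain ⟨c, a, hc, ha⟩ := exists_smul_repr B hpos A ((B y).comp A.subtype)
    have hz : c • y - (a : L) ∈ B.orthogonal A := (hmemO _).mpr fun a' ha' => by
      have := ha ⟨a', ha'⟩
      simp only [LinearMap.comp_apply, Submodule.coe_subtype] at this
      rw [map_sub, map_smul, smul_eq_mul, hsymm.eq a' y, hsymm.eq a' a, this, sub_self]
    have hzz : B (c • y - (a : L)) (c • y - (a : L)) = 0 := by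
      have h1 := hy _ hz
      have h2 := (hmemO _).mp hz a a.2
      simp only [map_sub, map_smul, LinearMap.sub_apply, LinearMap.smul_apply, smul_eq_mul] at h1 h2 ⊢
      linear_combination c * h1 - h2
    have : c • y = (a : L) := sub_eq_zero.mp (by_contra fun hne => (hpos _ hne).ne' hzz)
    exact htf c y hc (this ▸ a.2)
  · refine Submodule.mem_sup.mpr ⟨a, ha, x - a, (hmemO _).mpr fun a' ha' => ?_, add_sub_cancel a x⟩
    rw [map_sub, hsymm.eq a' x, hsymm.eq a' a, h a' ha', sub_self]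
  · refine (hmemO _).mpr fun a ha => ?_
    have := (hmemO _).mp hx a ha
    rw [map_smul, smul_eq_zero] at this
    exact this.resolve_left hc

variable {L₁ : Type} [AddCommGroup L₁] [Module.Finite ℤ L₁] [Module.Free ℤ L₁]

theorem lattice_coker (B₀ : LinearMap.BilinForm ℤ L) (B₁ : LinearMap.BilinForm ℤ L₁) (h₀s : B₀.IsSymm)
    (h₁p : ∀ x, x ≠ 0 → 0 < B₁ x x) (huni : Function.Bijective B₀)
    (d : L →ₗ[ℤ] L₁) (ds : L₁ →ₗ[ℤ] L) (hadj : ∀ x y, B₁ (d x) y = B₀ x (ds y)) (h₁s : B₁.IsSymm) :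
    ∃ Φ : ↥(Submodule.torsion ℤ (L ⧸ LinearMap.range (ds ∘ₗ d))) ≃ₗ[ℤ]
        (Module.Dual ℤ ↥(LinearMap.range d) ⧸
          LinearMap.range ((B₁.compl₂ (LinearMap.range d).subtype) ∘ₗ (LinearMap.range d).subtype)),
      ∀ (x : L) (hx : Submodule.Quotient.mk x ∈ Submodule.torsion ℤ (L ⧸ LinearMap.range (ds ∘ₗ d)))
        (ψ : Module.Dual ℤ ↥(LinearMap.range d)),
        (∀ y' : L, ψ ⟨d y', LinearMap.mem_range_self d y'⟩ = B₀ x y') →
          Φ ⟨Submodule.Quotient.mk x, hx⟩ = Submodule.Quotient.mk ψ := by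
  set R := LinearMap.range (ds ∘ₗ d)
  set I := LinearMap.range d
  let u := LinearEquiv.ofBijective B₀ huni
  let xo : Dual ℤ I →ₗ[ℤ] L := u.symm.toLinearMap ∘ₗ LinearMap.lcomp ℤ ℤ d.rangeRestrict
  have hxo : ∀ ψ y', B₀ (xo ψ) y' = ψ ⟨d y', LinearMap.mem_range_self d y'⟩ := fun ψ y' =>
    LinearMap.congr_fun (u.apply_symm_apply _) y'
  have huniq : ∀ x x', (∀ y', B₀ x y' = B₀ x' y') → x = x' := fun x x' h => huni.1 (LinearMap.ext h)
  have hBd : ∀ y y', B₀ (ds (d y)) y' = B₁ (d y) (d y') := fun y y' => by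
    rw [h₀s.eq (ds (d y)) y', ← hadj, h₁s.eq]
  have htor : ∀ ψ, R.mkQ (xo ψ) ∈ Submodule.torsion ℤ (L ⧸ R) := fun ψ => by
    obtain ⟨c, ⟨_, y, rfl⟩, hc, ha⟩ := exists_smul_repr B₁ h₁p I ψ
    refine ⟨⟨c, mem_nonZeroDivisors_of_ne_zero hc⟩, (Submodule.Quotient.mk_eq_zero _).mpr ⟨y, ?_⟩⟩
    refine huniq _ _ fun y' => ?_
    change B₀ (ds (d y)) y' = B₀ (c • xo ψ) y'
    rw [map_smul, LinearMap.smul_apply, hxo, smul_eq_mul, hBd, ha ⟨d y', LinearMap.mem_range_self d y'⟩]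
  let F : Dual ℤ I →ₗ[ℤ] Submodule.torsion ℤ (L ⧸ R) := LinearMap.codRestrict _ (R.mkQ ∘ₗ xo) htor
  have hker : LinearMap.ker F = LinearMap.range ((B₁.compl₂ I.subtype) ∘ₗ I.subtype) := by
    ext ψ
    rw [LinearMap.mem_ker, ← Subtype.coe_inj]
    change R.mkQ (xo ψ) = 0 ↔ _
    rw [Submodule.mkQ_apply, Submodule.Quotient.mk_eq_zero]
    constructor
    · rintro ⟨y, hy⟩
      refine ⟨⟨d y, LinearMap.mem_range_self d y⟩, LinearMap.ext fun z => ?_⟩
      obtain ⟨_, y', rfl⟩ := z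
      rw [← hxo ψ y', ← show ds (d y) = xo ψ from hy, hBd]
      rfl
    · rintro ⟨⟨_, y, rfl⟩, rfl⟩
      exact ⟨y, huniq _ _ fun y' => by rw [LinearMap.comp_apply, hBd, hxo]; rfl⟩
  have hsurj : LinearMap.range F = ⊤ := by
    refine LinearMap.range_eq_top.mpr fun t => ?_
    obtain ⟨q, hq⟩ := t
    obtain ⟨x, rfl⟩ := Submodule.Quotient.mk_surjective R q
    obtain ⟨⟨c, hc⟩, hcx⟩ := hq
    obtain ⟨y, hy⟩ := (Submodule.Quotient.mk_eq_zero _).mp hcx
    have hk : LinearMap.ker d ≤ LinearMap.ker (B₀ x) := fun z hz => by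
      rw [LinearMap.mem_ker] at hz ⊢
      have h1 : B₀ (c • x) z = 0 := by
        rw [← show ds (d y) = c • x from hy, hBd, hz, map_zero]
      rw [map_smul, LinearMap.smul_apply, smul_eq_zero] at h1
      exact h1.resolve_left (nonZeroDivisors.ne_zero hc)
    let ψ : Dual ℤ I := (Submodule.liftQ (LinearMap.ker d) (B₀ x) hk) ∘ₗ (d.quotKerEquivRange).symm.toLinearMap
    refine ⟨ψ, Subtype.ext (congrArg R.mkQ (huniq _ _ fun y' => ?_))⟩
    rw [hxo]
    change Submodule.liftQ _ _ hk (d.quotKerEquivRange.symm ⟨d y', _⟩) = _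
    rw [LinearMap.quotKerEquivRange_symm_apply_image]
    rfl
  let Φ₀ := (Submodule.quotEquivOfEq _ _ hker.symm).trans (F.quotKerEquivOfSurjective (LinearMap.range_eq_top.mp hsurj))
  refine ⟨Φ₀.symm, fun x hx ψ hψ => ?_⟩
  rw [LinearEquiv.symm_apply_eq]
  refine Subtype.ext ?_
  change Submodule.Quotient.mk x = R.mkQ (xo ψ)
  rw [huniq (xo ψ) x fun y' => by rw [hxo, hψ]]
  rfl

end RichLib
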