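import Mathlib
import Groth.Agent.RichLib.LimTop

/-!
# Maximal points in limits of schemes (EGA IV 8.4)
-/

set_option autoImplicit false
universe u

open AlgebraicGeometry CategoryTheory Limits Topology Set
open Groth.Agent.ProConsLib

noncomputable section

namespace RichLib.LimMax

/-- every point of a scheme has a maximal generization -/
theorem exists_maximal_specializes (X : Scheme.{u}) (x : X) :
    ∃ z, (∀ w, w ⤳ z → w = z) ∧ z ⤳ x := by
  obtain ⟨z, hz⟩ := QuasiSober.sober (isIrreducible_irreducibleComponent (x := x)) isClosed_irreducibleComponent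
  have hzx : z ⤳ x := by rw [specializes_iff_mem_closure, hz.def]; exact mem_irreducibleComponent
  refine ⟨z, fun w hw => (hw.antisymm ?_).eq, hzx⟩
  rw [specializes_iff_mem_closure, hz.def]
  have h1 : irreducibleComponent x ⊆ closure {w} := by
    rw [← hz.def]
    exact closure_minimal (singleton_subset_iff.mpr hw.mem_closure) isClosed_closure
  exact (irreducibleComponent_mem_irreducibleComponents x).2 isIrreducible_singleton.closure h1
    (subset_closure rfl)

/-- an open subset containing the maximal points is dense -/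
theorem dense_of_maximal {X : Scheme.{u}} {V : Set X} (hV : ∀ m, (∀ w, w ⤳ m → w = m) → m ∈ V) : Dense V :=
  fun x => by
    obtain ⟨z, hz, hzx⟩ := exists_maximal_specializes X x
    exact hzx.mem_closed isClosed_closure (subset_closure (hV z hz))

/-- a dense open subset contains the maximal points if they are finite in number -/
theorem mem_of_dense {X : Scheme.{u}} (hfin : {s : X | ∀ z, z ⤳ s → z = s}.Finite) {V : Set X}
    (hV : IsOpen V) (hd : Dense V) {m : X} (hm : ∀ z, z ⤳ m → z = m) : m ∈ V := by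
  classical
  let C : Set X := ⋃ s ∈ {s : X | ∀ z, z ⤳ s → z = s} \ {m}, closure {s}
  have hC : IsClosed C := (hfin.sdiff).isClosed_biUnion fun s _ => isClosed_closure
  have hmC : m ∈ Cᶜ := fun h => by
    obtain ⟨s, ⟨hs, hne⟩, hms⟩ := mem_iUnion₂.mp h
    exact hne (hm s (specializes_iff_mem_closure.mpr hms))
  obtain ⟨x, hxC, hxV⟩ := hd.inter_open_nonempty _ hC.isOpen_compl ⟨m, hmC⟩
  obtain ⟨z, hz, hzx⟩ := exists_maximal_specializes X x
  obtain rfl : z = m := by
    by_contra hne
    exact hxC (mem_iUnion₂.mpr ⟨z, ⟨hz, hne⟩, hzx.mem_closure⟩)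
  exact hzx.mem_open hV hxV

variable {I : Type u} [SmallCategory I] [IsCofiltered I] (D : I ⥤ Scheme.{u}) (c : Cone D) (hc : IsLimit c)
  [∀ (i j : I) (f : i ⟶ j), IsAffineHom (D.map f)]

include hc in
/-- a compatible family of points of the stages comes from a point of the limit -/
theorem exists_point (i₀ : I) (u : ∀ φ : Over i₀, D.obj φ.left)
    (hu : ∀ {a b : Over i₀} (e : a ⟶ b), D.map e.left (u a) = u b) :
    ∃ z : c.pt, ∀ φ : Over i₀, c.π.app φ.left z = u φ := by
  classical
  obtain ⟨W, hW, hxW, -⟩ := exists_isAffineOpen_mem_and_subset (X := D.obj i₀) (x := u (Over.mk (𝟙 i₀)))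
    (U := ⊤) trivial
  haveI := LimTop.quasiCompact_π D c hc i₀
  haveI : CompactSpace (c.π.app i₀ ⁻¹ᵁ W : c.pt.Opens).toScheme :=
    isCompact_iff_compactSpace.mp (QuasiCompact.isCompact_preimage (f := c.π.app i₀) _ W.2 hW.isCompact)
  let U : c.pt.Opens := c.π.app i₀ ⁻¹ᵁ W
  let K : Over i₀ → Set U.toScheme := fun φ => U.ι ⁻¹' ((c.π.app φ.left) ⁻¹' {u φ})
  have hK : ∀ φ, ProCons.IsProConstructible (K φ) := fun φ =>
    isProConstructible_preimage U.ι (isProConstructible_preimage _ (singleton_isProConstructible _))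
  by_contra hno
  push Not at hno
  have hempty : ⋂ φ, K φ ⊆ (∅ : Set U.toScheme) := fun z hz => by
    obtain ⟨φ, hφ⟩ := hno (U.ι z)
    exact hφ (mem_iInter.mp hz φ)
  obtain ⟨J, hJ⟩ := exists_finset_inter_subset (E := (∅ : Set U.toScheme))
    (isIndConstructible_of_isLocallyConstructible (Topology.IsConstructible.empty.isLocallyConstructible))
    K hK hempty
  obtain ⟨k, hk⟩ := IsCofiltered.inf_objs_exists J
  obtain ⟨z, hz⟩ : u k ∈ Set.range (c.π.app k.left) := by
    rw [LimTop.range_π D c hc k.left]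
    exact mem_iInter₂.mpr fun j φ => ⟨_, hu (Over.homMk φ : Over.mk (φ ≫ k.hom) ⟶ k)⟩
  have hzU : z ∈ U := by
    show c.π.app i₀ z ∈ W
    rw [← LimTop.π_map_apply D c k.hom z, hz]
    exact (hu (Over.homMk k.hom : k ⟶ Over.mk (𝟙 i₀))).symm ▸ hxW
  refine hJ (mem_iInter₂.mpr fun φ hφ => ?_ : (⟨z, hzU⟩ : U.toScheme) ∈ _)
  obtain ⟨e⟩ := hk hφ
  show c.π.app φ.left z = u φ
  rw [← LimTop.π_map_apply D c e.left z, hz, hu e]

/-- the maximal points of a stage -/
abbrev Max (i : I) : Set (D.obj i) := {s | ∀ z, z ⤳ s → z = s}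

variable (hfin : ∀ i, (Max D i).Finite)
  (hsys : ∀ (i j : I) (g : i ⟶ j) (s : D.obj i), s ∈ Max D i → D.map g s ∈ Max D j)

include hc in
theorem maximal_of_forall {s : c.pt} (h : ∀ i, c.π.app i s ∈ Max D i) : ∀ z, z ⤳ s → z = s := fun z hz =>
  LimTop.eq_of_forall D c hc fun i => h i _ (hz.map (c.π.app i).continuous)

include hc hfin hsys in
theorem exists_family (i₀ : I) (P : ∀ φ : Over i₀, Set (D.obj φ.left))
    (hP : ∀ φ, (P φ ∩ Max D φ.left).Nonempty)
    (hPm : ∀ {a b : Over i₀} (e : a ⟶ b) (x : D.obj a.left), x ∈ P a → D.map e.left x ∈ P b) :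
    ∃ z : c.pt, (∀ i, c.π.app i z ∈ Max D i) ∧ ∀ φ : Over i₀, c.π.app φ.left z ∈ P φ := by
  let F : Over i₀ ⥤ Type u :=
  { obj φ := ↥(P φ ∩ Max D φ.left)
    map {a b} e := ↾fun x => ⟨D.map e.left x.1, hPm e _ x.2.1, hsys _ _ e.left _ x.2.2⟩
    map_id a := by
      ext x
      show D.map (𝟙 a : a ⟶ a).left x.1 = x.1
      rw [Over.id_left, D.map_id]
      rfl
    map_comp {a b d} e e' := by
      ext x
      show D.map (e ≫ e').left x.1 = D.map e'.left (D.map e.left x.1)
      rw [Over.comp_left, LimTop.map_comp_apply] }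
  haveI : ∀ φ, Finite (F.obj φ) := fun φ => ((hfin φ.left).subset inter_subset_right).to_subtype
  haveI : ∀ φ, Nonempty (F.obj φ) := fun φ => (hP φ).to_subtype
  obtain ⟨v, hv⟩ := nonempty_sections_of_finite_cofiltered_system F
  obtain ⟨z, hz⟩ := exists_point D c hc i₀ (fun φ => (v φ).1) fun {a b} e => congrArg Subtype.val (hv e)
  refine ⟨z, fun i => ?_, fun φ => hz φ ▸ (v φ).2.1⟩
  obtain ⟨j, a, b, -⟩ := IsCofilteredOrEmpty.cone_objs i i₀
  rw [← LimTop.π_map_apply D c a z]
  exact hsys _ _ a _ (by rw [show c.π.app j z = _ from hz (Over.mk b)]; exact (v (Over.mk b)).2.2)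

include hc hfin hsys in
theorem maximal_iff (s : c.pt) : (∀ z, z ⤳ s → z = s) ↔ ∀ i, c.π.app i s ∈ Max D i := by
  refine ⟨fun h i => ?_, maximal_of_forall D c hc⟩
  obtain ⟨z, hz, hzs⟩ := exists_family D c hc hfin hsys i (fun φ => {x | x ⤳ c.π.app φ.left s})
    (fun φ => by
      obtain ⟨x, hx, hxs⟩ := exists_maximal_specializes (D.obj φ.left) (c.π.app φ.left s)
      exact ⟨x, hxs, hx⟩)
    (fun {a b} e x hx => by
      show D.map e.left x ⤳ c.π.app b.left s
      rw [← LimTop.π_map_apply D c e.left s]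
      exact Specializes.map hx (D.map e.left).continuous)
  have hzs' : z ⤳ s := LimTop.specializes_of_forall D c hc fun j => by
    obtain ⟨k, a, b, -⟩ := IsCofilteredOrEmpty.cone_objs j i
    rw [← LimTop.π_map_apply D c a z, ← LimTop.π_map_apply D c a s]
    exact Specializes.map (hzs (Over.mk b)) (D.map a).continuous
  exact h z hzs' ▸ hz i

end RichLib.LimMax
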