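import Mathlib
import Groth.Agent.RichLib.LimMax

/-!
# Irreducible and connected components in limits of schemes (EGA IV 8.4)
-/

set_option autoImplicit false
universe u

open AlgebraicGeometry CategoryTheory Limits Topology Set
open Groth.Agent.ProConsLib

noncomputable section

namespace RichLib.LimComp

theorem finite_maximal (X : Scheme.{u}) [TopologicalSpace.NoetherianSpace X] :
    {m : X | ∀ z, z ⤳ m → z = m}.Finite := by
  refine (TopologicalSpace.NoetherianSpace.finite_irreducibleComponents (α := X)).preimage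
    (f := fun m => closure ({m} : Set X)) (fun m _ m' _ e => ?_) |>.subset fun m hm => ?_
  · exact (inseparable_iff_closure_eq.mpr e).eq
  · refine ⟨isIrreducible_singleton.closure, fun T hT hle => ?_⟩
    obtain ⟨z, hz⟩ := QuasiSober.sober hT.closure isClosed_closure
    have hzm : z ⤳ m := by
      rw [specializes_iff_mem_closure, hz.def]
      exact subset_closure (hle (subset_closure rfl))
    obtain rfl := hm z hzm
    exact subset_closure.trans hz.def.ge

theorem closure_singleton_mem {X : Scheme.{u}} {m : X} (hm : ∀ z, z ⤳ m → z = m) :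
    closure {m} ∈ irreducibleComponents X := by
  refine ⟨isIrreducible_singleton.closure, fun T hT hle => ?_⟩
  obtain ⟨z, hz⟩ := QuasiSober.sober hT.closure isClosed_closure
  obtain rfl := hm z (by
    rw [specializes_iff_mem_closure, hz.def]
    exact subset_closure (hle (subset_closure rfl)))
  exact subset_closure.trans hz.def.ge

theorem exists_of_mem_irreducibleComponents {X : Scheme.{u}} {T : Set X} (hT : T ∈ irreducibleComponents X) :
    ∃ m, (∀ z, z ⤳ m → z = m) ∧ closure {m} = T := by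
  obtain ⟨m, hm⟩ := QuasiSober.sober hT.1 (isClosed_of_mem_irreducibleComponents T hT)
  refine ⟨m, fun z hz => (hz.antisymm ?_).eq, hm.def⟩
  rw [specializes_iff_mem_closure, hm.def]
  have h1 : T ⊆ closure {z} := by
    rw [← hm.def]
    exact closure_minimal (singleton_subset_iff.mpr hz.mem_closure) isClosed_closure
  exact hT.2 isIrreducible_singleton.closure h1 (subset_closure rfl)

theorem closure_image_closure_singleton {X Y : Scheme.{u}} (f : X ⟶ Y) (a : X) :
    closure (⇑f '' closure {a}) = closure {f a} := by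
  refine subset_antisymm (closure_minimal ?_ isClosed_closure)
    (closure_mono (singleton_subset_iff.mpr ⟨a, subset_closure rfl, rfl⟩))
  rw [← image_singleton]
  exact image_closure_subset_closure_image f.continuous

theorem finite_connected (X : Scheme.{u}) [TopologicalSpace.NoetherianSpace X] :
    (Set.range (connectedComponent : X → Set X)).Finite := by
  refine ((finite_maximal X).image connectedComponent).subset ?_
  rintro _ ⟨x, rfl⟩
  obtain ⟨z, hz, hzx⟩ := LimMax.exists_maximal_specializes X x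
  exact ⟨z, hz, connectedComponent_eq ((isPreconnected_singleton.closure).subset_connectedComponent
    (subset_closure rfl) hzx.mem_closure)⟩ 

theorem isOpen_connected (X : Scheme.{u}) [TopologicalSpace.NoetherianSpace X] (x : X) :
    IsOpen (connectedComponent x) := by
  have h : (connectedComponent x)ᶜ =
      ⋃ C ∈ Set.range (connectedComponent : X → Set X) \ {connectedComponent x}, C := by
    refine subset_antisymm (fun y hy => ?_) (iUnion₂_subset ?_)
    · refine mem_iUnion₂.mpr ⟨connectedComponent y, ⟨⟨y, rfl⟩, fun e => hy ?_⟩, mem_connectedComponent⟩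
      exact (show connectedComponent y = connectedComponent x from e) ▸ mem_connectedComponent
    · rintro _ ⟨⟨y, rfl⟩, hne⟩ z hz hzx
      exact hne ((connectedComponent_eq hz).trans (connectedComponent_eq hzx).symm)
  rw [← isClosed_compl_iff, h]
  exact ((finite_connected X).sdiff).isClosed_biUnion fun C hC => by
    obtain ⟨⟨y, rfl⟩, -⟩ := hC
    exact isClosed_connectedComponent

variable {I : Type u} [SmallCategory I] [IsCofiltered I] (D : I ⥤ Scheme.{u}) (c : Cone D) (hc : IsLimit c)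
  [∀ (i j : I) (f : i ⟶ j), IsAffineHom (D.map f)]

include hc in
theorem eventually_bijOn_irreducible (i₀ : I) [TopologicalSpace.NoetherianSpace c.pt]
    (hd : ∀ (j : I) (_ : j ⟶ i₀), DenseRange (c.π.app j)) :
    ∃ (i : I) (_ : i ⟶ i₀), ∀ (j : I) (_ : j ⟶ i),
      Set.BijOn (fun Y : Set c.pt => closure (⇑(c.π.app j) '' Y : Set (D.obj j)))
        (irreducibleComponents c.pt) (irreducibleComponents (D.obj j)) := by
  classical
  let M := {m : c.pt | ∀ z, z ⤳ m → z = m}
  haveI : Fintype ↥M := (finite_maximal c.pt).fintype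
  have hsep : ∀ p : ↥M × ↥M, ∃ k : I, p.1 = p.2 ∨ ¬ (c.π.app k p.1.1 ⤳ c.π.app k p.2.1) := by
    rintro ⟨a, b⟩
    by_cases hab : a = b
    · exact ⟨i₀, Or.inl hab⟩
    · by_contra hno
      push Not at hno
      exact hab (Subtype.ext (b.2 a.1 (LimTop.specializes_of_forall D c hc fun k => (hno k).2)))
  choose k hk using hsep
  obtain ⟨i, hi⟩ := IsCofiltered.inf_objs_exists (insert i₀ (Finset.univ.image k))
  refine ⟨i, (hi (Finset.mem_insert_self _ _)).some, fun j φ => ?_⟩
  let q : c.pt → D.obj j := fun s => c.π.app j s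
  have hq : ∀ a b : ↥M, q a.1 ⤳ q b.1 → a = b := fun a b hab => by
    rcases hk (a, b) with h | h
    · exact h
    · obtain ⟨e⟩ := hi (Finset.mem_insert_of_mem (Finset.mem_image_of_mem k (Finset.mem_univ (a, b))))
      refine absurd ?_ h
      rw [← LimTop.π_map_apply D c (φ ≫ e) a.1, ← LimTop.π_map_apply D c (φ ≫ e) b.1]
      exact Specializes.map hab (D.map (φ ≫ e)).continuous
  have hcov : ∀ y : D.obj j, ∃ a : ↥M, q a.1 ⤳ y := fun y => by
    have hC : IsClosed (⋃ a : ↥M, closure {q a.1}) := isClosed_iUnion_of_finite fun _ => isClosed_closure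
    have hy : y ∈ ⋃ a : ↥M, closure {q a.1} := by
      refine closure_minimal ?_ hC (hd j (φ ≫ (hi (Finset.mem_insert_self _ _)).some) y)
      rintro _ ⟨s, rfl⟩
      obtain ⟨a, ha, has⟩ := LimMax.exists_maximal_specializes c.pt s
      exact mem_iUnion.mpr ⟨⟨a, ha⟩, (has.map (c.π.app j).continuous).mem_closure⟩
    obtain ⟨a, ha⟩ := mem_iUnion.mp hy
    exact ⟨a, specializes_iff_mem_closure.mpr ha⟩
  have hmax : ∀ a : ↥M, ∀ z, z ⤳ q a.1 → z = q a.1 := fun a z hz => by
    obtain ⟨b, hb⟩ := hcov z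
    obtain rfl := hq b a (hb.trans hz)
    exact (hz.antisymm hb).eq
  refine ⟨?_, ?_, ?_⟩
  · intro T hT
    obtain ⟨a, ha, rfl⟩ := exists_of_mem_irreducibleComponents hT
    show closure (⇑(c.π.app j) '' closure {a}) ∈ irreducibleComponents (D.obj j)
    rw [closure_image_closure_singleton]
    exact closure_singleton_mem (hmax ⟨a, ha⟩)
  · intro T hT T' hT' e
    obtain ⟨a, ha, rfl⟩ := exists_of_mem_irreducibleComponents hT
    obtain ⟨b, hb, rfl⟩ := exists_of_mem_irreducibleComponents hT'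
    simp only [closure_image_closure_singleton] at e
    have h : q a ⤳ q b := specializes_iff_closure_subset.mpr e.ge
    rw [show a = b from congrArg Subtype.val (hq ⟨a, ha⟩ ⟨b, hb⟩ h)]
  · intro T hT
    obtain ⟨y, hy, rfl⟩ := exists_of_mem_irreducibleComponents hT
    obtain ⟨a, ha⟩ := hcov y
    refine ⟨closure {a.1}, closure_singleton_mem a.2, ?_⟩
    show closure (⇑(c.π.app j) '' closure {a.1}) = closure {y}
    rw [closure_image_closure_singleton]
    exact congrArg (fun w => closure ({w} : Set (D.obj j))) (hy _ ha)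

include hc in
theorem eventually_bijOn_connected (i₀ : I) [CompactSpace (D.obj i₀)] [TopologicalSpace.NoetherianSpace c.pt]
    (hd : ∀ (j : I) (_ : j ⟶ i₀), DenseRange (c.π.app j)) :
    ∃ (i : I) (_ : i ⟶ i₀), ∀ (j : I) (_ : j ⟶ i),
      Set.BijOn (fun C : Set c.pt => closure (⇑(c.π.app j) '' C : Set (D.obj j)))
        (Set.range (connectedComponent : c.pt → Set c.pt))
        (Set.range (connectedComponent : D.obj j → Set (D.obj j))) := by
  classical
  let K := Set.range (connectedComponent : c.pt → Set c.pt)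
  haveI : Fintype ↥K := (finite_connected c.pt).fintype
  have hKo : ∀ C : ↥K, IsOpen C.1 := by
    rintro ⟨_, s, rfl⟩
    exact isOpen_connected c.pt s
  choose l a V hV hVC using fun C : ↥K => LimTop.exists_preimage_eq_over D c hc i₀ ⟨C.1, hKo C⟩
    (TopologicalSpace.NoetherianSpace.isCompact _)
  obtain ⟨k, hk⟩ := IsCofiltered.inf_objs_exists (insert i₀ (Finset.univ.image l))
  let b : k ⟶ i₀ := (hk (Finset.mem_insert_self _ _)).some
  let e : ∀ C : ↥K, k ⟶ l C := fun C =>
    (hk (Finset.mem_insert_of_mem (Finset.mem_image_of_mem l (Finset.mem_univ C)))).some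
  let W : ↥K → (D.obj k).Opens := fun C => D.map (e C) ⁻¹ᵁ V C
  have hW : ∀ (C : ↥K) (s : c.pt), c.π.app k s ∈ W C ↔ s ∈ C.1 := fun C s => by
    show D.map (e C) (c.π.app k s) ∈ V C ↔ _
    rw [LimTop.π_map_apply]
    exact iff_of_eq (congrArg (fun U : c.pt.Opens => s ∈ U) (hVC C))
  haveI : CompactSpace (D.obj k) := QuasiCompact.compactSpace_of_compactSpace (D.map b)
  obtain ⟨i, ψ, hi⟩ := LimTop.exists_inter_range_subset' D c hc (i := k)
    (E := ((⨆ C, W C : (D.obj k).Opens) : Set (D.obj k)))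
    (LimTop.isIndConstructible_of_isOpen (⨆ C, W C : (D.obj k).Opens).2) (by
      rintro _ ⟨s, rfl⟩
      exact TopologicalSpace.Opens.mem_iSup.mpr ⟨⟨_, s, rfl⟩, (hW _ s).mpr mem_connectedComponent⟩)
  refine ⟨i, ψ ≫ b, fun j φ => ?_⟩
  let p := c.π.app j
  have hdj : DenseRange p := hd j (φ ≫ ψ ≫ b)
  let U : ↥K → (D.obj j).Opens := fun C => D.map (φ ≫ ψ) ⁻¹ᵁ W C
  have hU : ∀ (C : ↥K) (s : c.pt), p s ∈ U C ↔ s ∈ C.1 := fun C s => by
    show D.map (φ ≫ ψ) (c.π.app j s) ∈ W C ↔ _
    rw [LimTop.π_map_apply]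
    exact hW C s
  have hKeq : ∀ (C C' : ↥K) (s : c.pt), s ∈ C.1 → s ∈ C'.1 → C = C' := by
    rintro ⟨_, x, rfl⟩ ⟨_, x', rfl⟩ s h h'
    exact Subtype.ext ((connectedComponent_eq h).trans (connectedComponent_eq h').symm)
  have hdisj : ∀ (C C' : ↥K) (y : D.obj j), y ∈ U C → y ∈ U C' → C = C' := fun C C' y h h' => by
    obtain ⟨_, ⟨h1, h2⟩, s, rfl⟩ := hdj.inter_open_nonempty ((U C : Set (D.obj j)) ∩ (U C' : Set (D.obj j)))
      ((U C).2.inter (U C').2) ⟨y, h, h'⟩
    exact hKeq C C' s ((hU C s).mp h1) ((hU C' s).mp h2)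
  have hcov : ∀ y : D.obj j, ∃ C, y ∈ U C := fun y => by
    obtain ⟨C, hC⟩ := TopologicalSpace.Opens.mem_iSup.mp
      (hi ⟨D.map φ y, (LimTop.map_comp_apply D φ ψ y).symm⟩)
    exact ⟨C, hC⟩
  have hclopen : ∀ C : ↥K, IsClopen (U C : Set (D.obj j)) := fun C => by
    refine ⟨isOpen_compl_iff.mp (isOpen_iff_forall_mem_open.mpr fun y hy => ?_), (U C).2⟩
    obtain ⟨C', hC'⟩ := hcov y
    refine ⟨U C', fun z hz hzC => hy ?_, (U C').2, hC'⟩
    exact (hdisj C C' z hzC hz) ▸ hC'
  have hcl : ∀ C : ↥K, closure (⇑p '' C.1) = (U C : Set (D.obj j)) := fun C => by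
    refine subset_antisymm (closure_minimal ?_ (hclopen C).1) fun y hy => ?_
    · rintro _ ⟨s, hs, rfl⟩
      exact (hU C s).mpr hs
    · refine mem_closure_iff.mpr fun O hO hyO => ?_
      obtain ⟨_, ⟨h1, h2⟩, s, rfl⟩ := hdj.inter_open_nonempty (O ∩ (U C : Set (D.obj j)))
        (hO.inter (U C).2) ⟨y, hyO, hy⟩
      exact ⟨p s, h1, s, (hU C s).mp h2, rfl⟩
  have hcc : ∀ (C : ↥K) (y : D.obj j), y ∈ U C → connectedComponent y = (U C : Set (D.obj j)) := fun C y hy => by
    refine subset_antisymm ((hclopen C).connectedComponent_subset hy) ?_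
    have hC : _root_.IsPreconnected C.1 := by
      obtain ⟨x, hx⟩ := C.2
      exact hx ▸ isPreconnected_connectedComponent
    have := (hC.image p p.continuous.continuousOn).closure
    rw [hcl C] at this
    exact this.subset_connectedComponent hy
  refine ⟨?_, ?_, ?_⟩
  · intro T hT
    show closure (⇑p '' T) ∈ _
    rw [hcl ⟨T, hT⟩]
    obtain ⟨x, rfl⟩ := hT
    exact ⟨p x, hcc _ _ ((hU ⟨_, x, rfl⟩ x).mpr mem_connectedComponent)⟩
  · intro T hT T' hT' h
    replace h : closure (⇑p '' T) = closure (⇑p '' T') := h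
    rw [hcl ⟨T, hT⟩, hcl ⟨T', hT'⟩] at h
    obtain ⟨x, rfl⟩ := hT
    exact congrArg Subtype.val (hKeq ⟨_, x, rfl⟩ ⟨T', hT'⟩ x mem_connectedComponent
      ((hU ⟨T', hT'⟩ x).mp ((Set.ext_iff.mp h (p x)).mp ((hU ⟨_, x, rfl⟩ x).mpr mem_connectedComponent))))
  · rintro _ ⟨y, rfl⟩
    obtain ⟨C, hC⟩ := hcov y
    exact ⟨C.1, C.2, (hcl C).trans (hcc C y hC).symm⟩

include hc in
/-- for transition maps which are embeddings between Noetherian spaces the projections are eventually dominant -/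
theorem exists_denseRange_of_isEmbedding (i₀ : I) [TopologicalSpace.NoetherianSpace (D.obj i₀)]
    (he : ∀ (i j : I) (φ : i ⟶ j), Topology.IsEmbedding ⇑(D.map φ)) :
    ∃ (i : I) (_ : i ⟶ i₀), ∀ (j : I) (_ : j ⟶ i), DenseRange (c.π.app j) := by
  classical
  let Z : Over i₀ → TopologicalSpace.Closeds (D.obj i₀) := fun φ => ⟨closure (Set.range (D.map φ.hom)), isClosed_closure⟩
  obtain ⟨K, ⟨φ, rfl⟩, hmin⟩ := (wellFounded_lt (α := TopologicalSpace.Closeds (D.obj i₀))).has_min
    (Set.range Z) ⟨_, Over.mk (𝟙 i₀), rfl⟩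
  refine ⟨φ.left, φ.hom, fun j ψ y => ?_⟩
  let χ : j ⟶ i₀ := ψ ≫ φ.hom
  have hmono : ∀ (l : I) (a : l ⟶ j), Z (Over.mk (a ≫ χ)) = Z φ := fun l a => by
    refine eq_of_le_of_not_lt (closure_mono ?_) (hmin _ ⟨_, rfl⟩)
    rintro _ ⟨z, rfl⟩
    exact ⟨D.map (a ≫ ψ) z, by
      show D.map φ.hom (D.map (a ≫ ψ) z) = D.map (a ≫ χ) z
      rw [← LimTop.map_comp_apply, Category.assoc]⟩
  have hy : D.map χ y ∈ closure (Set.range (D.map φ.hom)) :=
    subset_closure ⟨D.map ψ y, (LimTop.map_comp_apply D ψ φ.hom y).symm⟩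
  obtain ⟨ξ, hξmax, hξy⟩ : ∃ ξ : D.obj i₀, (∀ w ∈ closure (Set.range (D.map φ.hom)), w ⤳ ξ → w = ξ) ∧
      ξ ∈ closure (Set.range (D.map φ.hom)) ∧ ξ ⤳ D.map χ y := by
    obtain ⟨T, hT, hTy, hTmax⟩ : ∃ T : Set (D.obj i₀), IsIrreducible T ∧ D.map χ y ∈ T ∧
        Maximal (fun T => IsPreirreducible T ∧ T ⊆ closure (Set.range (D.map φ.hom))) T := by
      obtain ⟨T, hle, hT⟩ := zorn_subset_nonempty
        {T : Set (D.obj i₀) | IsPreirreducible T ∧ T ⊆ closure (Set.range (D.map φ.hom))} (fun C hC hCc hne =>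
          ⟨⋃₀ C, ⟨fun u v hu hv ⟨x, ⟨p, hp, hxp⟩, hxu⟩ ⟨x', ⟨p', hp', hxp'⟩, hxv⟩ => by
            rcases hCc.total hp hp' with h | h
            · obtain ⟨z, hz, hz'⟩ := (hC hp').1 u v hu hv ⟨x, h hxp, hxu⟩ ⟨x', hxp', hxv⟩
              exact ⟨z, ⟨p', hp', hz⟩, hz'⟩
            · obtain ⟨z, hz, hz'⟩ := (hC hp).1 u v hu hv ⟨x, hxp, hxu⟩ ⟨x', h hxp', hxv⟩
              exact ⟨z, ⟨p, hp, hz⟩, hz'⟩,
            sUnion_subset fun p hp => (hC hp).2⟩, fun p hp => subset_sUnion_of_mem hp⟩)
        {D.map χ y} ⟨isPreirreducible_singleton, singleton_subset_iff.mpr hy⟩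
      exact ⟨T, ⟨⟨_, hle rfl⟩, hT.prop.1⟩, hle rfl, hT⟩
    obtain ⟨ξ, hξ⟩ := QuasiSober.sober hT.closure isClosed_closure
    have hTsub : closure T ⊆ closure (Set.range (D.map φ.hom)) := closure_minimal hTmax.prop.2 isClosed_closure
    refine ⟨ξ, fun w hw hwξ => (hwξ.antisymm ?_).eq, hTsub (hξ.def ▸ subset_closure rfl), ?_⟩
    · rw [specializes_iff_mem_closure, hξ.def]
      refine subset_closure (hTmax.2 ⟨(isIrreducible_singleton (x := w)).closure.2,
        closure_minimal (singleton_subset_iff.mpr hw) isClosed_closure⟩ ?_ (subset_closure rfl))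
      refine subset_closure.trans (hξ.def.ge.trans ?_)
      exact closure_minimal (singleton_subset_iff.mpr hwξ.mem_closure) isClosed_closure
    · rw [specializes_iff_mem_closure, hξ.def]
      exact subset_closure hTy
  -- `ξ` lies in the image of every stage below `j`, hence of the limit
  have hξr : ∀ (l : I) (a : l ⟶ j), ξ ∈ Set.range (D.map (a ≫ χ)) := fun l a => by
    have hmem : ξ ∈ closure (Set.range (D.map (a ≫ χ))) := by
      have := congrArg (fun K : TopologicalSpace.Closeds (D.obj i₀) => (K : Set (D.obj i₀))) (hmono l a)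
      exact (Set.ext_iff.mp this ξ).mpr hξy.1
    obtain ⟨w, hw, hwξ⟩ := exists_specializes_of_mem_closure_sch (LimTop.isProConstructible_range _) hmem
    have hw' : w ∈ closure (Set.range (D.map φ.hom)) := by
      obtain ⟨z, rfl⟩ := hw
      exact subset_closure ⟨D.map (a ≫ ψ) z, by rw [← LimTop.map_comp_apply, Category.assoc]⟩
    exact hξmax w hw' hwξ ▸ hw
  obtain ⟨η, hη⟩ := hξr j (𝟙 j)
  rw [Category.id_comp] at hη
  obtain ⟨s, hs⟩ : η ∈ Set.range (c.π.app j) := by
    rw [LimTop.range_π D c hc j]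
    refine mem_iInter₂.mpr fun l a => ?_
    obtain ⟨z, hz⟩ := hξr l a
    refine ⟨z, (he j i₀ χ).injective ?_⟩
    rw [← LimTop.map_comp_apply, hz, hη]
  exact ((he j i₀ χ).isInducing.specializes_iff.mp (hη ▸ hξy.2)).mem_closed isClosed_closure
    (subset_closure ⟨s, hs⟩)

end RichLib.LimComp
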