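import Mathlib
import Groth.Agent.RichLib.LimTop

/-!
# The space of a limit of schemes with affine transition maps is the limit of the spaces
-/

set_option autoImplicit false
universe u

open AlgebraicGeometry CategoryTheory Limits Topology Set
open Groth.Agent.ProConsLib

noncomputable section

namespace RichLib.LimTop

variable {I : Type u} [SmallCategory I] [IsCofiltered I] (D : I ⥤ Scheme.{u}) (c : Cone D) (hc : IsLimit c)
  [∀ (i j : I) (f : i ⟶ j), IsAffineHom (D.map f)]

include hc in
theorem exists_point_of_compatible (x : ∀ i, D.obj i) (hx : ∀ {i j : I} (f : i ⟶ j), D.map f (x i) = x j) :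
    ∃ s : c.pt, ∀ i, c.π.app i s = x i := by
  classical
  obtain ⟨i₀⟩ := IsCofiltered.nonempty (C := I)
  obtain ⟨U, hU, hxU, -⟩ := exists_isAffineOpen_mem_and_subset (X := D.obj i₀) (x := x i₀) (U := ⊤) trivial
  haveI : ∀ {a b : I} (f : a ⟶ b), IsAffineHom (D.map f) := fun f => inferInstance
  haveI := isAffineHom_π_app D c hc i₀
  let W : c.pt.Opens := c.π.app i₀ ⁻¹ᵁ U
  haveI : IsAffine W.toScheme := hU.preimage _
  let F : Over i₀ → Set W.toScheme := fun φ => W.ι ⁻¹' (c.π.app φ.left ⁻¹' {x φ.left})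
  have hF : ∀ φ, ProCons.IsProConstructible (F φ) := fun φ =>
    isProConstructible_preimage W.ι (isProConstructible_preimage (c.π.app φ.left) (singleton_isProConstructible _))
  obtain ⟨w, hw⟩ : (⋂ φ, F φ).Nonempty := by
    rw [Set.nonempty_iff_ne_empty]
    intro hempty
    obtain ⟨J, hJ⟩ := exists_finset_inter_subset (E := (∅ : Set W.toScheme))
      (isIndConstructible_iff_affine.mpr fun V _ => @isOpen_empty _ (constructibleTopology V.toScheme)) F hF hempty.le
    obtain ⟨k, hk⟩ := IsCofiltered.inf_objs_exists J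
    obtain ⟨s, hs⟩ : x k.left ∈ Set.range (c.π.app k.left) := by
      rw [range_π D c hc]
      exact mem_iInter₂.mpr fun j φ => ⟨x j, hx φ⟩
    have hsW : s ∈ W := by
      show c.π.app i₀ s ∈ U
      rw [← π_map_apply D c k.hom s, hs]
      exact (hx k.hom).symm ▸ hxU
    refine hJ (a := (⟨s, hsW⟩ : W.toScheme)) (mem_iInter₂.mpr fun φ hφ => ?_)
    obtain ⟨e⟩ := hk hφ
    show c.π.app φ.left s ∈ ({x φ.left} : Set (D.obj φ.left))
    rw [← π_map_apply D c e.left s, hs, mem_singleton_iff]
    exact hx e.left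
  refine ⟨w.1, fun i => ?_⟩
  obtain ⟨j, a, b, -⟩ := IsCofilteredOrEmpty.cone_objs i i₀
  have h : c.π.app j w.1 = x j := mem_iInter.mp hw (Over.mk b)
  rw [← π_map_apply D c a w.1, h, hx]

include hc in
theorem isLimit_forgetToTop : Nonempty (IsLimit (Scheme.forgetToTop.mapCone c)) := by
  let F := D ⋙ Scheme.forgetToTop
  let L := TopCat.limitCone.{u, u} F
  have hL : IsLimit L := TopCat.limitConeIsLimit.{u, u} F
  let l := hL.lift (Scheme.forgetToTop.mapCone c)
  have hl : ∀ (s : c.pt) i, (l s).val i = c.π.app i s := fun s i =>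
    congrArg (fun g => g s) (hL.fac (Scheme.forgetToTop.mapCone c) i)
  have hbij : Function.Bijective l := by
    refine ⟨fun s t h => eq_of_forall D c hc fun i => ?_, fun u => ?_⟩
    · rw [← hl s i, ← hl t i, h]
    · obtain ⟨s, hs⟩ := exists_point_of_compatible D c hc (fun i => u.val i) (fun f => u.2 f)
      exact ⟨s, Subtype.ext (funext fun i => (hl s i).trans (hs i))⟩
  have hind : IsInducing l := by
    refine ⟨le_antisymm l.hom.2.le_induced fun U hU => ?_⟩
    have : U = l ⁻¹' (⋃ (i : I) (V : (D.obj i).Opens) (_ : c.π.app i ⁻¹ᵁ V ≤ ⟨U, hU⟩),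
        {u : L.pt | u.val i ∈ (V : Set (D.obj i))}) := by
      ext s
      simp only [mem_preimage, mem_iUnion]
      refine ⟨fun hs => ?_, fun ⟨i, V, hV, hs⟩ => hV ?_⟩
      · obtain ⟨i₀⟩ := IsCofiltered.nonempty (C := I)
        obtain ⟨j, -, V, -, hsV, hVU⟩ := exists_basis_over D c hc i₀ (U := ⟨U, hU⟩) hs
        exact ⟨j, V, hVU, show (l s).val j ∈ _ by rw [hl]; exact hsV⟩
      · show c.π.app i s ∈ V
        rw [← hl]; exact hs
    exact ⟨_, isOpen_iUnion fun i => isOpen_iUnion fun V => isOpen_iUnion fun _ =>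
      V.2.preimage ((continuous_apply i).comp continuous_subtype_val), this.symm⟩
  haveI : IsIso l := by
    have h : IsHomeomorph l := isHomeomorph_iff_isEmbedding_surjective.mpr ⟨⟨hind, hbij.1⟩, hbij.2⟩
    exact (TopCat.isIso_iff_isHomeomorph l).mpr h
  exact ⟨hL.ofPointIso (i := this)⟩

end RichLib.LimTop
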