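import Mathlib
import Groth.Agent.RichLib.LimTop

/-!
# More topology of limits of schemes (EGA IV 8.3, 8.4)
-/

set_option autoImplicit false
universe u

open AlgebraicGeometry CategoryTheory Limits Topology Set
open Groth.Agent.ProConsLib

noncomputable section

namespace RichLib.LimTop

variable {I : Type u} [SmallCategory I] [IsCofiltered I] (D : I ⥤ Scheme.{u}) (c : Cone D) (hc : IsLimit c)
  [∀ (i j : I) (f : i ⟶ j), IsAffineHom (D.map f)]

include hc in
/-- local closedness of the preimage of a constructible set holds at some stage -/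
theorem exists_isLocallyClosed_stage {i : I} [CompactSpace (D.obj i)] {Z : Set (D.obj i)}
    (hZ : IsLocallyConstructible Z) (H : IsLocallyClosed ((c.π.app i) ⁻¹' Z)) :
    ∃ (j : I) (φ : j ⟶ i), IsLocallyClosed ((D.map φ) ⁻¹' Z) := by
  classical
  haveI := compactSpace_pt D c hc i
  obtain ⟨U, C, hU, hC, hUC⟩ := H
  have hsub : (c.π.app i) ⁻¹' Z ⊆ U := hUC ▸ inter_subset_left
  -- finitely many basic opens inside `U` cover the locally closed set
  choose j a V hV hsV hVU using fun s : ↥((c.π.app i) ⁻¹' Z) =>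
    exists_basis_over D c hc i (U := ⟨U, hU⟩) (hsub s.2)
  obtain ⟨T, hT⟩ := exists_finset_inter_subset (X := c.pt) (E := (((c.π.app i) ⁻¹' Z)ᶜ : Set c.pt))
    (isIndConstructible_compl_iff.mpr (isProConstructible_preimage (c.π.app i)
      (isProConstructible_of_isLocallyConstructible hZ)))
    (fun s => (((c.π.app (j s)) ⁻¹ᵁ V s : c.pt.Opens) : Set c.pt)ᶜ)
    (fun s => isProConstructible_of_isClosed (TopologicalSpace.Opens.isOpen _).isClosed_compl)
    (fun y hy hyZ => mem_iInter.mp hy ⟨y, hyZ⟩ (hsV ⟨y, hyZ⟩))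
  obtain ⟨k, hk⟩ := IsCofiltered.inf_objs_exists (T.image j ∪ {i})
  let e : ∀ s : ↥T, k ⟶ j s.1 := fun s => (hk (Finset.mem_union_left _ (Finset.mem_image_of_mem j s.2))).some
  let ψ : k ⟶ i := (hk (Finset.mem_union_right _ (Finset.mem_singleton_self i))).some
  let W : (D.obj k).Opens := ⨆ s : ↥T, D.map (e s) ⁻¹ᵁ V s.1
  have hW : IsCompact (W : Set (D.obj k)) := by
    rw [TopologicalSpace.Opens.coe_iSup]
    exact isCompact_iUnion fun s => ((hV s.1).preimage (D.map (e s))).isCompact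
  have hmemW : ∀ s : c.pt, c.π.app k s ∈ W ↔ ∃ t : ↥T, c.π.app (j t.1) s ∈ V t.1 := fun s => by
    rw [TopologicalSpace.Opens.mem_iSup]
    refine exists_congr fun t => ?_
    show D.map (e t) (c.π.app k s) ∈ V t.1 ↔ _
    rw [π_map_apply]
  have hWU : ∀ s : c.pt, c.π.app k s ∈ W → s ∈ U := fun s hs => by
    obtain ⟨t, ht⟩ := (hmemW s).mp hs
    exact hVU t.1 ht
  have hZW : ∀ s : c.pt, c.π.app i s ∈ Z → c.π.app k s ∈ W := fun s hs => by
    rw [hmemW]
    by_contra hne
    push Not at hne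
    exact hT (mem_iInter₂.mpr fun t ht => hne ⟨t, ht⟩) hs
  haveI : CompactSpace (D.obj k) := QuasiCompact.compactSpace_of_compactSpace (D.map ψ)
  have hZk : ProCons.IsProConstructible ((D.map ψ) ⁻¹' Z) :=
    isProConstructible_preimage _ (isProConstructible_of_isLocallyConstructible hZ)
  -- a stage where the set lies in `W`
  obtain ⟨k₁, b₁, hb₁⟩ := exists_inter_range_subset' D c hc (i := k)
    (E := ((D.map ψ) ⁻¹' Z)ᶜ ∪ (W : Set (D.obj k)))
    (isIndConstructible_union (isIndConstructible_compl_iff.mpr hZk) (isIndConstructible_of_isOpen W.2)) (by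
      rintro _ ⟨s, rfl⟩
      by_cases h : c.π.app k s ∈ (D.map ψ) ⁻¹' Z
      · refine Or.inr (hZW s ?_)
        rwa [mem_preimage, π_map_apply] at h
      · exact Or.inl h)
  -- a stage where it is closed in `W`
  haveI : ∀ (φ φ' : Over k) (f : φ ⟶ φ'), IsAffineHom ((opensDiagram D k W).map f) :=
    fun φ φ' f => inferInstance
  haveI : CompactSpace ((opensDiagram D k W).obj (Over.mk (𝟙 k))) :=
    isCompact_iff_compactSpace.mp (QuasiCompact.isCompact_preimage (f := D.map (𝟙 k)) _ W.2 hW)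
  let incl : (opensDiagram D k W).obj (Over.mk (𝟙 k)) ⟶ D.obj k := (D.map (𝟙 k) ⁻¹ᵁ W).ι
  have hincl : ∀ (φ : Over k) (f : φ ⟶ Over.mk (𝟙 k)) (x : (opensDiagram D k W).obj φ),
      incl ((opensDiagram D k W).map f x) = D.map φ.hom ((D.map φ.hom ⁻¹ᵁ W).ι x) := fun φ f x => by
    refine (resLE_apply (D.map f.left) _ _ _ x).trans ?_
    have : f.left = φ.hom := by simpa using Over.w f
    rw [this]
  let Z₀ : Set ↥((opensDiagram D k W).obj (Over.mk (𝟙 k))) := incl ⁻¹' ((D.map ψ) ⁻¹' Z)ᶜ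
  have hZ₀ : IsLocallyConstructible Z₀ := by
    refine isLocallyConstructible_iff_ind_and_pro.mpr ⟨isIndConstructible_preimage incl ?_,
      isProConstructible_preimage incl ?_⟩
    · exact isIndConstructible_compl_iff.mpr hZk
    · exact isProConstructible_compl_iff.mpr (isIndConstructible_preimage _
        (isIndConstructible_of_isLocallyConstructible hZ))
  haveI : ∀ {a b : I} (f : a ⟶ b), IsAffineHom (D.map f) := fun f => inferInstance
  obtain ⟨φ, f, hf⟩ := exists_isOpen_stage (opensDiagram D k W) (opensCone D c k W)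
    (isLimitOpensCone D c hc k W) (i := Over.mk (𝟙 k)) hZ₀ (by
      have heq : ((opensCone D c k W).π.app (Over.mk (𝟙 k))) ⁻¹' Z₀ = (c.π.app k ⁻¹ᵁ W).ι ⁻¹' Cᶜ := by
        ext x
        have hx : incl ((opensCone D c k W).π.app (Over.mk (𝟙 k)) x) = c.π.app k ((c.π.app k ⁻¹ᵁ W).ι x) :=
          resLE_apply _ _ _ _ _
        simp only [Z₀, mem_preimage, mem_compl_iff, hx, π_map_apply]
        have hxU : (c.π.app k ⁻¹ᵁ W).ι x ∈ U := hWU _ x.2
        constructor
        · intro h hC'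
          exact h (show _ ∈ (c.π.app i) ⁻¹' Z by rw [hUC]; exact ⟨hxU, hC'⟩)
        · intro h hZ'
          exact h ((hUC ▸ (hZ' : _ ∈ (c.π.app i) ⁻¹' Z) : _ ∈ U ∩ C)).2
      rw [heq]
      exact hC.isOpen_compl.preimage (c.π.app k ⁻¹ᵁ W).ι.continuous)
  obtain ⟨l, e₁, e₂, he⟩ := IsCofiltered.cospan b₁ φ.hom
  refine ⟨l, e₁ ≫ b₁ ≫ ψ, ?_⟩
  let Wl : (D.obj l).Opens := D.map (e₁ ≫ b₁) ⁻¹ᵁ W
  have hsubW : (D.map (e₁ ≫ b₁ ≫ ψ)) ⁻¹' Z ⊆ (Wl : Set (D.obj l)) := fun y hy => by
    rcases hb₁ ⟨D.map e₁ y, rfl⟩ with h | h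
    · refine absurd ?_ h
      rw [mem_preimage, ← map_comp_apply, ← map_comp_apply]
      exact hy
    · show D.map (e₁ ≫ b₁) y ∈ W
      rw [map_comp_apply]; exact h
  -- the complement inside `W` is open
  let O : Set (D.obj l) := (Wl : Set (D.obj l)) \ (D.map (e₁ ≫ b₁ ≫ ψ)) ⁻¹' Z
  have hO : IsOpen O := by
    have : O = (D.map e₂) ⁻¹' ((D.map φ.hom ⁻¹ᵁ W).ι '' (((opensDiagram D k W).map f) ⁻¹' Z₀)) := by
      ext y
      have hy' : D.map φ.hom (D.map e₂ y) = D.map (e₁ ≫ b₁) y := by rw [he, map_comp_apply]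
      constructor
      · rintro ⟨hyW, hyZ⟩
        refine ⟨⟨D.map e₂ y, show D.map φ.hom (D.map e₂ y) ∈ W by rw [hy']; exact hyW⟩, ?_, rfl⟩
        rw [mem_preimage]
        simp only [Z₀, mem_preimage, mem_compl_iff, hincl]
        intro h
        refine hyZ ?_
        rw [mem_preimage, ← Category.assoc, map_comp_apply D (e₁ ≫ b₁) ψ y, ← hy']
        exact h
      · rintro ⟨x, hx, hxy⟩
        simp only [Z₀, mem_preimage, mem_compl_iff, hincl] at hx
        have hxy' : D.map φ.hom (D.map e₂ y) = D.map φ.hom ((D.map φ.hom ⁻¹ᵁ W).ι x) := congrArg _ hxy.symm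
        refine ⟨?_, fun h => hx ?_⟩
        · show D.map (e₁ ≫ b₁) y ∈ W
          rw [← hy', hxy']
          exact x.2
        · rw [← hxy', hy', ← map_comp_apply, Category.assoc]
          exact h
    rw [this]
    exact ((D.map φ.hom ⁻¹ᵁ W).ι.isOpenEmbedding.isOpenMap _ hf).preimage (D.map e₂).continuous
  exact ⟨Wl, Oᶜ, Wl.2, hO.isClosed_compl, by
    ext y
    exact ⟨fun hy => ⟨hsubW hy, fun h => h.2 hy⟩, fun ⟨h1, h2⟩ => by_contra fun h3 => h2 ⟨h1, h3⟩⟩⟩

end RichLib.LimTop
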