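import Mathlib.RingTheory.LocalRing.LocalSubring
import Mathlib.RingTheory.Spectrum.Prime.Basic

/-!
# Equivalent conditions on localizations of two subrings of a field
-/

set_option autoImplicit false
universe u

open IsLocalRing

noncomputable section

namespace RichLib

variable {R : Type u} [Field R]

theorem ofPrime_le {A : Subring R} {p : Ideal A} [p.IsPrime] {Q : LocalSubring R} (hA : A ≤ Q.toSubring)
    (hp : p = (maximalIdeal Q.toSubring).comap (Subring.inclusion hA)) : LocalSubring.ofPrime A p ≤ Q := by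
  have hu : ∀ s : A, s ∉ p → IsUnit (Subring.inclusion hA s) := fun s hs => by
    rw [hp, Ideal.mem_comap, mem_maximalIdeal, mem_nonunits_iff, not_not] at hs
    exact hs
  let O := (LocalSubring.ofPrime A p).toSubring
  have hle : O ≤ Q.toSubring := by
    intro x hx
    obtain ⟨a, s, e⟩ := IsLocalization.exists_mk'_eq p.primeCompl (⟨x, hx⟩ : O)
    have h2 : x * (s.1.1 : R) = a.1 := by
      have := congrArg Subtype.val (IsLocalization.mk'_spec O a s)
      rw [e] at this
      exact this
    obtain ⟨v, hv⟩ := hu s.1 s.2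
    have hsv : (s.1.1 : R) * ((v⁻¹ : (Q.toSubring)ˣ) : Q.toSubring).1 = 1 := by
      have := congrArg Subtype.val v.mul_inv
      rw [hv] at this
      exact this
    have : x = a.1 * ((v⁻¹ : (Q.toSubring)ˣ) : Q.toSubring).1 := by rw [← h2, mul_assoc, hsv, mul_one]
    rw [this]
    exact mul_mem (hA a.2) (v⁻¹ : (Q.toSubring)ˣ).val.2
  refine ⟨hle, ⟨fun z hz => ?_⟩⟩
  obtain ⟨a, s, rfl⟩ := IsLocalization.exists_mk'_eq p.primeCompl z
  rw [IsLocalization.AtPrime.isUnit_mk'_iff O p]
  intro hap
  replace hap : a ∈ p := hap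
  rw [hp, Ideal.mem_comap, mem_maximalIdeal, mem_nonunits_iff] at hap
  refine hap ?_
  have h1 : Subring.inclusion hle (IsLocalization.mk' O a s) * Subring.inclusion hA s.1 = Subring.inclusion hA a := by
    have := congrArg (Subring.inclusion hle) (IsLocalization.mk'_spec O a s)
    rw [map_mul] at this
    exact this
  rw [← h1]
  exact hz.mul (hu s.1 s.2)

theorem eq_trace {A : Subring R} {p : Ideal A} [p.IsPrime] {Q : LocalSubring R} (hA : A ≤ Q.toSubring)
    (h : LocalSubring.ofPrime A p ≤ Q) : p = (maximalIdeal Q.toSubring).comap (Subring.inclusion hA) := by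
  obtain ⟨hle, hloc⟩ := h
  let O := (LocalSubring.ofPrime A p).toSubring
  ext a
  rw [Ideal.mem_comap, mem_maximalIdeal, mem_nonunits_iff,
    show Subring.inclusion hA a = Subring.inclusion hle (algebraMap A O a) from rfl,
    isUnit_map_iff, ← mem_nonunits_iff, ← mem_maximalIdeal]
  exact (IsLocalization.AtPrime.to_map_mem_maximal_iff O p a).symm

theorem tfae_localizations (A B : Subring R) :
    [ ∀ (Q : LocalSubring R) (hA : A ≤ Q.toSubring) (hB : B ≤ Q.toSubring),
        LocalSubring.ofPrime A ((IsLocalRing.maximalIdeal Q.toSubring).comap (Subring.inclusion hA)) =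
          LocalSubring.ofPrime B ((IsLocalRing.maximalIdeal Q.toSubring).comap (Subring.inclusion hB)),
      ∀ r : PrimeSpectrum ↥(A ⊔ B),
        LocalSubring.ofPrime A (r.asIdeal.comap (Subring.inclusion (le_sup_left : A ≤ A ⊔ B))) =
          LocalSubring.ofPrime B (r.asIdeal.comap (Subring.inclusion (le_sup_right : B ≤ A ⊔ B))),
      ∀ (p : PrimeSpectrum A) (q : PrimeSpectrum B),
        (∃ Q : LocalSubring R, LocalSubring.ofPrime A p.asIdeal ≤ Q ∧ LocalSubring.ofPrime B q.asIdeal ≤ Q) →
          LocalSubring.ofPrime A p.asIdeal = LocalSubring.ofPrime B q.asIdeal,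
      Set.range (fun p : PrimeSpectrum A ↦ LocalSubring.ofPrime A p.asIdeal) ∩
          Set.range (fun q : PrimeSpectrum B ↦ LocalSubring.ofPrime B q.asIdeal) =
        Set.range (fun r : PrimeSpectrum ↥(A ⊔ B) ↦ LocalSubring.ofPrime (A ⊔ B) r.asIdeal) ].TFAE := by
  set C := A ⊔ B
  have hlA : A ≤ C := le_sup_left
  have hlB : B ≤ C := le_sup_right
  have trC : ∀ (r : Ideal C) [r.IsPrime], r =
      (maximalIdeal (LocalSubring.ofPrime C r).toSubring).comap (Subring.inclusion (LocalSubring.le_ofPrime C r)) :=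
    fun r _ => eq_trace _ le_rfl
  have trA : ∀ (r : Ideal C) [r.IsPrime] {A' : Subring R} (hA' : A' ≤ C),
      LocalSubring.ofPrime A' (r.comap (Subring.inclusion hA')) ≤ LocalSubring.ofPrime C r := fun r _ A' hA' => by
    refine ofPrime_le (hA'.trans (LocalSubring.le_ofPrime C r)) ?_
    conv_lhs => rw [trC r, Ideal.comap_comap]
    rfl
  tfae_have 1 → 2 := fun h r => by
    have hh := h (LocalSubring.ofPrime C r.asIdeal) (hlA.trans (LocalSubring.le_ofPrime C r.asIdeal))
      (hlB.trans (LocalSubring.le_ofPrime C r.asIdeal))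
    convert hh using 2
    · exact (congrArg (Ideal.comap _) (trC r.asIdeal)).trans rfl
    · exact (congrArg (Ideal.comap _) (trC r.asIdeal)).trans rfl
  tfae_have 2 → 3 := fun h p q ⟨Q, hp, hq⟩ => by
    have hA : A ≤ Q.toSubring := (LocalSubring.le_ofPrime A p.asIdeal).trans hp.1
    have hB : B ≤ Q.toSubring := (LocalSubring.le_ofPrime B q.asIdeal).trans hq.1
    have hCQ : C ≤ Q.toSubring := sup_le hA hB
    convert h ⟨(maximalIdeal Q.toSubring).comap (Subring.inclusion hCQ), inferInstance⟩ using 2
    · exact (eq_trace hA hp).trans rfl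
    · exact (eq_trace hB hq).trans rfl
  tfae_have 3 → 4 := fun h => by
    refine Set.Subset.antisymm ?_ ?_
    · rintro O ⟨⟨p, rfl⟩, q, hq⟩
      have hq' : LocalSubring.ofPrime B q.asIdeal ≤ LocalSubring.ofPrime A p.asIdeal := hq.le
      have hC : C ≤ (LocalSubring.ofPrime A p.asIdeal).toSubring :=
        sup_le (LocalSubring.le_ofPrime A p.asIdeal) ((LocalSubring.le_ofPrime B q.asIdeal).trans hq'.1)
      refine ⟨⟨(maximalIdeal (LocalSubring.ofPrime A p.asIdeal).toSubring).comap (Subring.inclusion hC),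
        inferInstance⟩, le_antisymm (ofPrime_le hC rfl) ?_⟩
      refine ofPrime_le (hlA.trans (LocalSubring.le_ofPrime C _)) ?_
      refine (eq_trace (LocalSubring.le_ofPrime A p.asIdeal) le_rfl).trans ?_
      refine Eq.trans ?_ (congrArg (Ideal.comap (Subring.inclusion hlA))
        (trC ((maximalIdeal (LocalSubring.ofPrime A p.asIdeal).toSubring).comap (Subring.inclusion hC))))
      rfl
    · rintro O ⟨r, rfl⟩
      let p : PrimeSpectrum A := ⟨r.asIdeal.comap (Subring.inclusion hlA), inferInstance⟩
      let q : PrimeSpectrum B := ⟨r.asIdeal.comap (Subring.inclusion hlB), inferInstance⟩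
      have hpC := trA r.asIdeal hlA
      have hqC := trA r.asIdeal hlB
      have hpq := h p q ⟨_, hpC, hqC⟩
      have hC : C ≤ (LocalSubring.ofPrime A p.asIdeal).toSubring :=
        sup_le (LocalSubring.le_ofPrime A p.asIdeal) (by rw [hpq]; exact LocalSubring.le_ofPrime B q.asIdeal)
      have key : LocalSubring.ofPrime C r.asIdeal = LocalSubring.ofPrime A p.asIdeal := by
        refine le_antisymm (ofPrime_le hC ?_) hpC
        obtain ⟨hle, hloc⟩ := hpC
        ext c
        conv_lhs => rw [trC r.asIdeal]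
        rw [Ideal.mem_comap, Ideal.mem_comap, mem_maximalIdeal, mem_maximalIdeal, mem_nonunits_iff,
          mem_nonunits_iff, show Subring.inclusion (LocalSubring.le_ofPrime C r.asIdeal) c =
            Subring.inclusion hle (Subring.inclusion hC c) from rfl]
        haveI := hloc
        exact not_congr (isUnit_map_iff (Subring.inclusion hle) _)
      exact ⟨⟨p, key.symm⟩, ⟨q, hpq.symm.trans key.symm⟩⟩
  tfae_have 4 → 1 := fun h Q hA hB => by
    have hC : C ≤ Q.toSubring := sup_le hA hB
    let r : PrimeSpectrum C := ⟨(maximalIdeal Q.toSubring).comap (Subring.inclusion hC), inferInstance⟩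
    have hmem : LocalSubring.ofPrime C r.asIdeal ∈ _ ∩ _ := h.ge ⟨r, rfl⟩
    obtain ⟨⟨p, hp⟩, q, hq⟩ := hmem
    have hrQ : LocalSubring.ofPrime C r.asIdeal ≤ Q := ofPrime_le hC rfl
    have ep := eq_trace hA (hp.le.trans hrQ)
    have eq := eq_trace hB (hq.le.trans hrQ)
    simp only [← ep, ← eq]
    exact hp.trans hq.symm
  tfae_finish

end RichLib
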