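import Mathlib

/-!
# A complex of flat modules is exact after tensoring with every module as soon as it is exact after
tensoring with every residue field
-/

set_option autoImplicit false
universe u

open TensorProduct

namespace RichLib.PointwiseTor

variable {A : Type u} [CommRing A]
variable (X : ℕ → Type u) [∀ i, AddCommGroup (X i)] [∀ i, Module A (X i)]
variable (d : ∀ i, X (i + 1) →ₗ[A] X i)

/-- `N ⊗ X` is exact at every positive degree `> n`. -/
def Good (n : ℕ) (N : Type u) [AddCommGroup N] [Module A N] : Prop :=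
  ∀ i, n ≤ i → Function.Exact ((d (i + 1)).lTensor N) ((d i).lTensor N)

theorem comm_apply {P Q X Y : Type u} [AddCommGroup P] [Module A P] [AddCommGroup Q] [Module A Q]
    [AddCommGroup X] [Module A X] [AddCommGroup Y] [Module A Y]
    (f : P →ₗ[A] Q) (g : X →ₗ[A] Y) (z : P ⊗[A] X) :
    g.lTensor Q (f.rTensor X z) = f.rTensor Y (g.lTensor P z) := by
  induction z using TensorProduct.induction_on with
  | zero => simp
  | tmul a b => simp
  | add a b ha hb => simp [map_add, ha, hb]

variable {X d}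

section
variable (hdd : ∀ i, d i ∘ₗ d (i + 1) = 0)
include hdd

theorem dd_apply (N : Type u) [AddCommGroup N] [Module A N] (i : ℕ) (z : N ⊗[A] X (i + 1 + 1)) :
    (d i).lTensor N ((d (i + 1)).lTensor N z) = 0 := by
  rw [← LinearMap.comp_apply, ← LinearMap.lTensor_comp, hdd]; simp

theorem good_of_subsingleton (n : ℕ) (N : Type u) [AddCommGroup N] [Module A N] [Subsingleton N] :
    Good X d n N := by
  intro i _ z
  haveI : Subsingleton (N ⊗[A] X (i + 1)) := inferInstance
  exact ⟨fun _ => ⟨0, Subsingleton.elim _ _⟩, fun ⟨w, hw⟩ => hw ▸ dd_apply hdd N i w⟩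

variable [∀ i, Module.Flat A (X i)] {n : ℕ}
variable {N₁ N₂ N₃ : Type u} [AddCommGroup N₁] [Module A N₁] [AddCommGroup N₂] [Module A N₂]
  [AddCommGroup N₃] [Module A N₃] (f : N₁ →ₗ[A] N₂) (g : N₂ →ₗ[A] N₃)
  (hf : Function.Injective f) (hg : Function.Surjective g) (hfg : Function.Exact f g)
include hf hg hfg

theorem good_middle (h₁ : Good X d n N₁) (h₃ : Good X d n N₃) : Good X d n N₂ := by
  intro i hi z
  refine ⟨fun hz => ?_, fun ⟨w, hw⟩ => hw ▸ dd_apply hdd N₂ i w⟩
  obtain ⟨w'', hw''⟩ := (h₃ i hi (g.rTensor _ z)).1 (by rw [comm_apply, hz, map_zero])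
  obtain ⟨w, rfl⟩ := LinearMap.rTensor_surjective _ hg w''
  obtain ⟨z', hz'⟩ := (rTensor_exact (X (i + 1)) hfg hg (z - (d (i + 1)).lTensor N₂ w)).1 (by
    rw [map_sub, ← comm_apply, hw'', sub_self])
  obtain ⟨w', rfl⟩ := (h₁ i hi z').1 (Module.Flat.rTensor_preserves_injective_linearMap f hf (by
    rw [← comm_apply, hz', map_sub, hz, dd_apply hdd, sub_zero, map_zero]))
  refine ⟨w + f.rTensor _ w', ?_⟩
  rw [map_add, comm_apply, hz', add_sub_cancel]

theorem good_left (h₂ : Good X d n N₂) (h₃ : Good X d n N₃) : Good X d n N₁ := by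
  intro i hi z
  refine ⟨fun hz => ?_, fun ⟨w, hw⟩ => hw ▸ dd_apply hdd N₁ i w⟩
  obtain ⟨w, hw⟩ := (h₂ i hi (f.rTensor _ z)).1 (by rw [comm_apply, hz, map_zero])
  obtain ⟨v'', hv''⟩ := (h₃ (i + 1) (hi.trans i.le_succ) (g.rTensor _ w)).1 (by
    rw [comm_apply, hw, ← LinearMap.comp_apply, ← LinearMap.rTensor_comp, hfg.linearMap_comp_eq_zero]
    simp)
  obtain ⟨v, rfl⟩ := LinearMap.rTensor_surjective _ hg v''
  obtain ⟨w', hw'⟩ := (rTensor_exact (X (i + 1 + 1)) hfg hg (w - (d (i + 1 + 1)).lTensor N₂ v)).1 (by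
    rw [map_sub, ← comm_apply, hv'', sub_self])
  refine ⟨w', Module.Flat.rTensor_preserves_injective_linearMap f hf ?_⟩
  rw [← comm_apply, hw', map_sub, dd_apply hdd, sub_zero, hw]

end

theorem exists_fg_range {N : Type u} [AddCommGroup N] [Module A N] {Y : Type u} [AddCommGroup Y]
    [Module A Y] (z : N ⊗[A] Y) : ∃ P : Submodule A N, P.FG ∧ ∃ z', P.subtype.rTensor Y z' = z := by
  induction z using TensorProduct.induction_on with
  | zero => exact ⟨⊥, Submodule.fg_bot, 0, map_zero _⟩
  | tmul a b =>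
    exact ⟨Submodule.span A {a}, Submodule.fg_span_singleton a,
      ⟨a, Submodule.mem_span_singleton_self a⟩ ⊗ₜ b, by simp⟩
  | add a b ha hb =>
    obtain ⟨P, hP, a', rfl⟩ := ha
    obtain ⟨Q, hQ, b', rfl⟩ := hb
    refine ⟨P ⊔ Q, hP.sup hQ, (Submodule.inclusion (le_sup_left : P ≤ P ⊔ Q)).rTensor Y a' +
      (Submodule.inclusion (le_sup_right : Q ≤ P ⊔ Q)).rTensor Y b', ?_⟩
    rw [map_add, ← LinearMap.comp_apply, ← LinearMap.comp_apply, ← LinearMap.rTensor_comp,
      ← LinearMap.rTensor_comp, Submodule.subtype_comp_inclusion, Submodule.subtype_comp_inclusion]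

variable [∀ i, Module.Flat A (X i)] (hdd : ∀ i, d i ∘ₗ d (i + 1) = 0) {n : ℕ}
include hdd

theorem good_of_fg (N : Type u) [AddCommGroup N] [Module A N]
    (h : ∀ P : Submodule A N, P.FG → Good X d n P) : Good X d n N := by
  intro i hi z
  refine ⟨fun hz => ?_, fun ⟨w, hw⟩ => hw ▸ dd_apply hdd N i w⟩
  obtain ⟨P, hP, z', rfl⟩ := exists_fg_range z
  obtain ⟨w, rfl⟩ := (h P hP i hi z').1 (Module.Flat.rTensor_preserves_injective_linearMap _
    P.subtype_injective (by rw [← comm_apply, hz, map_zero]))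
  exact ⟨P.subtype.rTensor _ w, comm_apply _ _ w⟩

theorem good_congr {N M : Type u} [AddCommGroup N] [Module A N] [AddCommGroup M] [Module A M]
    (e : N ≃ₗ[A] M) (h : Good X d n N) : Good X d n M :=
  good_middle hdd e.toLinearMap (0 : M →ₗ[A] PUnit.{u + 1}) e.injective
    (Function.surjective_to_subsingleton _) ((LinearMap.exact_zero_iff_surjective _ _).2 e.surjective) h
    (good_of_subsingleton hdd n _)

variable [IsNoetherianRing A]

theorem good_of_annihilated {J : Ideal A}
    (h : ∀ q : PrimeSpectrum A, J ≤ q.asIdeal → Good X d n (A ⧸ q.asIdeal))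
    (N : Type u) [AddCommGroup N] [Module A N] [hN : Module.Finite A N]
    (hJ : ∀ a ∈ J, ∀ x : N, a • x = 0) : Good X d n N := by
  revert hJ
  refine IsNoetherianRing.induction_on_isQuotientEquivQuotientPrime A hN
    (motive := fun N _ _ _ => (∀ a ∈ J, ∀ x : N, a • x = 0) → Good X d n N) ?_ ?_ ?_
  · exact fun N _ _ _ _ _ => good_of_subsingleton hdd n N
  · intro N _ _ _ q e hJ
    refine good_congr hdd e.symm (h q fun a ha => ?_)
    rw [← Ideal.Quotient.eq_zero_iff_mem]
    have h1 := congrArg e (hJ a ha (e.symm (Ideal.Quotient.mk q.asIdeal 1)))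
    rw [map_smul, map_zero, e.apply_symm_apply, map_one, Algebra.smul_def, mul_one] at h1
    exact h1
  · intro N₁ _ _ _ N₂ _ _ _ N₃ _ _ _ f g hf hg hfg ih₁ ih₃ hJ
    refine good_middle hdd f g hf hg hfg (ih₁ fun a ha x => hf ?_) (ih₃ fun a ha x => ?_)
    · rw [map_smul, hJ a ha, map_zero]
    · obtain ⟨y, rfl⟩ := hg x
      rw [← map_smul, hJ a ha, map_zero]

/-- **Pointwise criterion**: exactness for all residue fields gives exactness for all modules. -/
theorem good_of_residueField (h : ∀ p : Ideal A, ∀ [p.IsPrime], Good X d n p.ResidueField)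
    (N : Type u) [AddCommGroup N] [Module A N] : Good X d n N := by
  suffices key : ∀ p : Ideal A, ∀ q : PrimeSpectrum A, q.asIdeal = p → Good X d n (A ⧸ p) by
    refine good_of_fg hdd N fun P hP => ?_
    haveI : Module.Finite A P := Module.Finite.iff_fg.mpr hP
    exact good_of_annihilated hdd (J := ⊥) (fun q _ => key _ q rfl) P
      (fun a ha x => by rw [(Submodule.mem_bot A).mp ha, zero_smul])
  intro p
  induction p using IsNoetherian.induction with
  | hgt p ih =>
    rintro q rfl
    set p := q.asIdeal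
    let f : (A ⧸ p) →ₗ[A] p.ResidueField :=
      (Algebra.linearMap (A ⧸ p) p.ResidueField).restrictScalars A
    have hf : Function.Injective f := IsFractionRing.injective (A ⧸ p) p.ResidueField
    refine good_left hdd f (LinearMap.range f).mkQ hf (Submodule.mkQ_surjective _)
      (LinearMap.exact_map_mkQ_range f) (h p) (good_of_fg hdd _ fun P hP => ?_)
    have hs : ∀ x : p.ResidueField ⧸ LinearMap.range f, ∃ s ∉ p, s • x = 0 := by
      intro x
      obtain ⟨y, rfl⟩ := Submodule.mkQ_surjective _ x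
      obtain ⟨⟨a, ⟨t, ht⟩⟩, hy⟩ := IsLocalization.surj (nonZeroDivisors (A ⧸ p)) y
      obtain ⟨s, rfl⟩ := Ideal.Quotient.mk_surjective t
      refine ⟨s, fun hs => nonZeroDivisors.ne_zero ht (Ideal.Quotient.eq_zero_iff_mem.mpr hs), ?_⟩
      rw [← map_smul, Submodule.mkQ_apply, Submodule.Quotient.mk_eq_zero]
      refine ⟨a, ?_⟩
      show algebraMap (A ⧸ p) p.ResidueField a = s • y
      rw [← hy, mul_comm, Algebra.smul_def, IsScalarTower.algebraMap_apply A (A ⧸ p) p.ResidueField]
      rfl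
    obtain ⟨s, hsp, hsP⟩ : ∃ s ∉ p, ∀ x ∈ P, s • x = 0 := by
      classical
      obtain ⟨F, rfl⟩ := hP
      choose t ht htx using hs
      refine ⟨∏ x ∈ F, t x, fun hmem => ?_, fun x hx => ?_⟩
      · obtain ⟨x, -, hx⟩ := (q.isPrime.prod_mem_iff).mp hmem
        exact ht x hx
      · refine Submodule.span_induction ?_ (smul_zero _) ?_ ?_ hx
        · intro y hy
          rw [← Finset.prod_erase_mul _ _ hy, mul_smul, htx, smul_zero]
        · intro a b _ _ ha hb; rw [smul_add, ha, hb, add_zero]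
        · intro a b _ hb; rw [smul_comm, hb, smul_zero]
    haveI : Module.Finite A P := Module.Finite.iff_fg.mpr hP
    have hann : p ⊔ Ideal.span {s} ≤ (⊤ : Ideal A) := le_top
    refine good_of_annihilated hdd (J := p ⊔ Ideal.span {s}) (fun r hr => ih r.asIdeal ?_ r rfl) P ?_
    · refine lt_of_le_of_ne (le_sup_left.trans hr) fun he => hsp ?_
      rw [he]
      exact hr (Ideal.mem_sup_right (Ideal.mem_span_singleton_self s))
    · rintro a ha ⟨x, hx⟩
      obtain ⟨b, hb, c, hc, rfl⟩ := Submodule.mem_sup.mp ha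
      obtain ⟨c, rfl⟩ := Ideal.mem_span_singleton'.mp hc
      apply Subtype.ext
      show (b + c * s) • x = 0
      obtain ⟨y, rfl⟩ := Submodule.mkQ_surjective _ x
      have hb0 : algebraMap A p.ResidueField b = 0 := Ideal.algebraMap_residueField_eq_zero.mpr hb
      rw [add_smul, mul_smul, hsP _ hx, smul_zero, add_zero, ← map_smul, Algebra.smul_def, hb0,
        zero_mul, map_zero]

end RichLib.PointwiseTor
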