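import Mathlib.RingTheory.Ideal.Operations
import Mathlib.RingTheory.Localization.Ideal
import Mathlib.RingTheory.Spectrum.Prime.Basic
import Mathlib.RingTheory.Spectrum.Maximal.Basic

/-!
# Localization away from finitely many primes
-/

set_option autoImplicit false
universe u

namespace RichLib

theorem semiLocal (A : Type u) [CommRing A] (r : ℕ) (p : Fin r → PrimeSpectrum A) :
    Finite (MaximalSpectrum (Localization (⨅ i, (p i).asIdeal.primeCompl))) ∧
      Set.BijOn (fun m : Ideal (Localization (⨅ i, (p i).asIdeal.primeCompl)) =>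
          m.comap (algebraMap A (Localization (⨅ i, (p i).asIdeal.primeCompl))))
        {m | m.IsMaximal}
        {q | q ∈ Set.range (fun i => (p i).asIdeal) ∧
          ∀ j, q ≤ (p j).asIdeal → q = (p j).asIdeal} := by
  classical
  set S : Submonoid A := ⨅ i, (p i).asIdeal.primeCompl with hS
  set L := Localization S
  have hmemS : ∀ a, a ∈ S ↔ ∀ i, a ∉ (p i).asIdeal := fun a => by
    rw [hS, Submonoid.mem_iInf]; rfl
  have hdis : ∀ i, Disjoint (S : Set A) ((p i).asIdeal : Set A) := fun i =>
    Set.disjoint_left.mpr fun a ha => (hmemS a).mp ha i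
  let P : Fin r → Ideal L := fun i => (p i).asIdeal.map (algebraMap A L)
  have hcm : ∀ i, (P i).comap (algebraMap A L) = (p i).asIdeal := fun i =>
    IsLocalization.comap_map_of_isPrime_disjoint S L inferInstance (hdis i)
  have hPp : ∀ i, (P i).IsPrime := fun i =>
    IsLocalization.isPrime_of_isPrime_disjoint S L _ inferInstance (hdis i)
  have hmm : ∀ m : Ideal L, (m.comap (algebraMap A L)).map (algebraMap A L) = m :=
    fun m => IsLocalization.map_under S L m
  have key : ∀ m : Ideal L, m.IsMaximal → ∃ i, m.comap (algebraMap A L) = (p i).asIdeal := by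
    intro m hm
    have hd := ((IsLocalization.isPrime_iff_isPrime_disjoint S L m).mp hm.isPrime).2
    have hsub : ((m.comap (algebraMap A L)) : Set A) ⊆ ⋃ i ∈ (↑(Finset.univ : Finset (Fin r)) : Set (Fin r)), ((p i).asIdeal : Set A) := by
      intro a ha
      by_contra h
      refine Set.disjoint_left.mp hd ((hmemS a).mpr fun i hi => h ?_) ha
      exact Set.mem_biUnion (Finset.mem_coe.mpr (Finset.mem_univ i)) hi
    rcases isEmpty_or_nonempty (Fin r) with hr | ⟨⟨i₀⟩⟩
    · exfalso
      have h0 := hsub (zero_mem _)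
      simp only [Set.mem_iUnion] at h0
      obtain ⟨i, -, -⟩ := h0
      exact hr.elim i
    obtain ⟨i, -, hi⟩ := (Ideal.subset_union_prime i₀ i₀ fun i _ _ _ => (p i).isPrime).mp hsub
    refine ⟨i, ?_⟩
    rw [hm.eq_of_le (hPp i).ne_top ((hmm m).ge.trans (Ideal.map_mono hi)), hcm]
  have hinj : ∀ m m' : Ideal L, m.comap (algebraMap A L) = m'.comap (algebraMap A L) → m = m' :=
    fun m m' h => by rw [← hmm m, h, hmm]
  refine ⟨?_, fun m hm => ?_, fun m _ m' _ => hinj m m', ?_⟩
  · choose g hg using fun m : MaximalSpectrum L => key m.asIdeal m.isMaximal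
    exact Finite.of_injective g fun m m' h => MaximalSpectrum.ext (hinj _ _ (by rw [hg, hg, h]))
  · obtain ⟨i, hi⟩ := key m hm
    refine ⟨⟨i, hi.symm⟩, fun j hj => ?_⟩
    have h1 : m ≤ P j := (hmm m).ge.trans (Ideal.map_mono hj)
    rw [show m = P j from Ideal.IsMaximal.eq_of_le hm (hPp j).ne_top h1]
    exact hcm j
  · rintro q ⟨⟨i, rfl⟩, hmax⟩
    obtain ⟨m, hm, hle⟩ := Ideal.exists_le_maximal (P i) (hPp i).ne_top
    obtain ⟨j, hj⟩ := key m hm
    refine ⟨m, hm, hj.trans (hmax j ?_).symm⟩
    rw [← hj]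
    change (p i).asIdeal ≤ _
    rw [← hcm i]
    exact Ideal.comap_mono hle

end RichLib
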