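import Mathlib
import Groth.Agent.RichLib.PointwiseTor

/-!
# A map of modules which is an isomorphism on all `Tor` with residue fields is an isomorphism
-/

set_option autoImplicit false
universe u

open CategoryTheory CategoryTheory.Limits TensorProduct

namespace RichLib.TorConeIso

variable {A : Type u} [CommRing A]

/-- element form of injectivity and surjectivity of a quasi-isomorphism of short complexes -/
theorem quasiIso_elements {S T : ShortComplex (ModuleCat.{u} A)} (φ : S ⟶ T)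
    [ShortComplex.QuasiIso φ] :
    (∀ (x : S.X₂) (y : T.X₁), S.g.hom x = 0 → φ.τ₂.hom x = T.f.hom y → ∃ x₁, S.f.hom x₁ = x) ∧
    (∀ y : T.X₂, T.g.hom y = 0 →
      ∃ (x : S.X₂) (y₁ : T.X₁), S.g.hom x = 0 ∧ φ.τ₂.hom x + T.f.hom y₁ = y) := by
  let ψ := ShortComplex.leftHomologyMapData φ S.moduleCatLeftHomologyData T.moduleCatLeftHomologyData
  haveI : IsIso ψ.φH := ψ.quasiIso_iff.mp inferInstance
  have hK : ∀ z, (ψ.φK.hom z).val = φ.τ₂.hom z.val := fun z => ConcreteCategory.congr_hom ψ.commi z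
  have hH : ∀ z, ψ.φH.hom (Submodule.Quotient.mk z) = Submodule.Quotient.mk (ψ.φK.hom z) := fun z =>
    ConcreteCategory.congr_hom ψ.commπ z
  obtain ⟨hinj, hsurj⟩ : Function.Bijective ψ.φH.hom :=
    (ConcreteCategory.isIso_iff_bijective ψ.φH).mp inferInstance
  refine ⟨fun x y hx hy => ?_, fun y hy => ?_⟩
  · obtain ⟨x₁, hx₁⟩ := (Submodule.Quotient.mk_eq_zero _).mp (hinj (a₁ := Submodule.Quotient.mk
      (⟨x, hx⟩ : LinearMap.ker S.g.hom)) (a₂ := 0) (by
      rw [map_zero, hH]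
      exact (Submodule.Quotient.mk_eq_zero _).mpr
        ⟨y, Subtype.ext (hy.symm.trans (hK ⟨x, hx⟩).symm)⟩))
    exact ⟨x₁, congrArg Subtype.val hx₁⟩
  · obtain ⟨c, hc⟩ := hsurj (Submodule.Quotient.mk (⟨y, hy⟩ : LinearMap.ker T.g.hom))
    obtain ⟨⟨x, hx⟩, rfl⟩ := Submodule.mkQ_surjective _ c
    rw [Submodule.mkQ_apply, hH] at hc
    obtain ⟨y₁, hy₁⟩ := (Submodule.Quotient.eq _).mp hc
    refine ⟨x, -y₁, hx, ?_⟩
    have h2 : T.f.hom y₁ = (ψ.φK.hom ⟨x, hx⟩).val - y := congrArg Subtype.val hy₁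
    rw [hK] at h2
    rw [map_neg, h2]; abel

section Cone

variable (X X' : ℕ → ModuleCat.{u} A)

/-- the shifted mapping cone -/
def Y : ℕ → ModuleCat.{u} A
  | 0 => ModuleCat.of A PUnit.{u + 1}
  | 1 => X' 0
  | j + 2 => ModuleCat.of A (X j × X' (j + 1))

variable {X X'} (d : ∀ i, X (i + 1) →ₗ[A] X i) (d' : ∀ i, X' (i + 1) →ₗ[A] X' i)
  (φ : ∀ i, X i →ₗ[A] X' i)

/-- the differential of the shifted mapping cone -/
def D : ∀ i, Y X X' (i + 1) →ₗ[A] Y X X' i
  | 0 => 0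
  | 1 => (φ 0).coprod (d' 0)
  | j + 2 => ((-(d j)) ∘ₗ LinearMap.fst A (X (j + 1)) (X' (j + 1 + 1))).prod
      ((φ (j + 1)).coprod (d' (j + 1)))

variable (hd : ∀ i, d i ∘ₗ d (i + 1) = 0) (hd' : ∀ i, d' i ∘ₗ d' (i + 1) = 0)
  (hc : ∀ i, φ i ∘ₗ d i = d' i ∘ₗ φ (i + 1))

include hd hd' hc in
theorem D_D : ∀ i, D d d' φ i ∘ₗ D d d' φ (i + 1) = 0
  | 0 => by show (0 : Y X X' 1 →ₗ[A] Y X X' 0) ∘ₗ _ = 0; exact LinearMap.zero_comp _
  | 1 => by
    apply LinearMap.ext
    rintro ⟨x, y⟩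
    show φ 0 (-(d 0 x)) + d' 0 (φ 1 x + d' 1 y) = 0
    have h1 := LinearMap.congr_fun (hc 0) x
    have h2 := LinearMap.congr_fun (hd' 0) y
    simp only [LinearMap.comp_apply, LinearMap.zero_apply] at h1 h2
    rw [map_neg, map_add, h1, h2]; abel
  | j + 2 => by
    apply LinearMap.ext
    rintro ⟨x, y⟩
    show ((-(d j (-(d (j + 1) x))), φ (j + 1) (-(d (j + 1) x)) + d' (j + 1) (φ (j + 1 + 1) x + d' (j + 1 + 1) y)) :
      X j × X' (j + 1)) = 0
    have h0 := LinearMap.congr_fun (hd j) x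
    have h1 := LinearMap.congr_fun (hc (j + 1)) x
    have h2 := LinearMap.congr_fun (hd' (j + 1)) y
    simp only [LinearMap.comp_apply, LinearMap.zero_apply] at h0 h1 h2
    rw [map_neg, map_neg, map_add, h0, h1, h2, Prod.mk_eq_zero]
    exact ⟨by simp, by abel⟩

variable (N : Type u) [AddCommGroup N] [Module A N]

theorem prod_tmul_decomp {P Q : Type u} [AddCommGroup P] [Module A P] [AddCommGroup Q] [Module A Q]
    (z : N ⊗[A] (P × Q)) :
    (LinearMap.inl A P Q).lTensor N ((LinearMap.fst A P Q).lTensor N z) +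
      (LinearMap.inr A P Q).lTensor N ((LinearMap.snd A P Q).lTensor N z) = z := by
  induction z using TensorProduct.induction_on with
  | zero => simp
  | tmul a b => simp [← TensorProduct.tmul_add]
  | add a b ha hb =>
    conv_rhs => rw [← ha, ← hb]
    simp only [map_add]; abel

theorem coprod_lTensor {P Q T : Type u} [AddCommGroup P] [Module A P] [AddCommGroup Q] [Module A Q]
    [AddCommGroup T] [Module A T] (f : P →ₗ[A] T) (g : Q →ₗ[A] T) (z : N ⊗[A] (P × Q)) :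
    (f.coprod g).lTensor N z =
      f.lTensor N ((LinearMap.fst A P Q).lTensor N z) + g.lTensor N ((LinearMap.snd A P Q).lTensor N z) := by
  induction z using TensorProduct.induction_on with
  | zero => simp
  | tmul a b => simp [← TensorProduct.tmul_add]
  | add a b ha hb => simp only [map_add, ha, hb]; abel

include hc in
theorem lift_cycle (i : ℕ) (z : N ⊗[A] (X i × X' (i + 1)))
    (hs : ∀ y, (d' i).lTensor N y = 0 →
      ∃ x y₁, (d i).lTensor N x = 0 ∧ (φ (i + 1)).lTensor N x + (d' (i + 1)).lTensor N y₁ = y)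
    (hxy : ((φ i).coprod (d' i)).lTensor N z = 0)
    (hx : ∃ x₂, (d i).lTensor N x₂ = (LinearMap.fst A (X i) (X' (i + 1))).lTensor N z) :
    ∃ w, (((-(d i)) ∘ₗ LinearMap.fst A (X (i + 1)) (X' (i + 1 + 1))).prod
      ((φ (i + 1)).coprod (d' (i + 1)))).lTensor N w = z := by
  obtain ⟨x₂, hx₂⟩ := hx
  set x := (LinearMap.fst A (X i) (X' (i + 1))).lTensor N z with hxdef
  set y := (LinearMap.snd A (X i) (X' (i + 1))).lTensor N z with hydef
  have hzz : (LinearMap.inl A (X i) (X' (i + 1))).lTensor N x +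
      (LinearMap.inr A (X i) (X' (i + 1))).lTensor N y = z := prod_tmul_decomp N z
  rw [coprod_lTensor, ← hxdef, ← hydef] at hxy
  obtain ⟨x₃, y₃, hx₃, hy₃⟩ := hs (y + (φ (i + 1)).lTensor N x₂) (by
    rw [map_add, ← LinearMap.comp_apply (g := (φ (i + 1)).lTensor N), ← LinearMap.lTensor_comp, ← hc,
      LinearMap.lTensor_comp, LinearMap.comp_apply, hx₂, add_comm]
    exact hxy)
  refine ⟨(LinearMap.inl A (X (i + 1)) (X' (i + 1 + 1))).lTensor N (x₃ - x₂) +
    (LinearMap.inr A (X (i + 1)) (X' (i + 1 + 1))).lTensor N y₃, ?_⟩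
  have e1 : ((-(d i)) ∘ₗ LinearMap.fst A (X (i + 1)) (X' (i + 1 + 1))).prod
      ((φ (i + 1)).coprod (d' (i + 1))) ∘ₗ LinearMap.inl A (X (i + 1)) (X' (i + 1 + 1)) =
      LinearMap.inl A (X i) (X' (i + 1)) ∘ₗ (-(d i)) + LinearMap.inr A (X i) (X' (i + 1)) ∘ₗ φ (i + 1) := by
    apply LinearMap.ext; intro a; simp
  have e2 : ((-(d i)) ∘ₗ LinearMap.fst A (X (i + 1)) (X' (i + 1 + 1))).prod
      ((φ (i + 1)).coprod (d' (i + 1))) ∘ₗ LinearMap.inr A (X (i + 1)) (X' (i + 1 + 1)) =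
      LinearMap.inr A (X i) (X' (i + 1)) ∘ₗ d' (i + 1) := by
    apply LinearMap.ext; intro a; simp
  rw [map_add, ← LinearMap.comp_apply, ← LinearMap.comp_apply, ← LinearMap.lTensor_comp,
    ← LinearMap.lTensor_comp, e1, e2, LinearMap.lTensor_add, LinearMap.add_apply,
    LinearMap.lTensor_comp, LinearMap.lTensor_comp, LinearMap.lTensor_comp, LinearMap.comp_apply,
    LinearMap.comp_apply, LinearMap.comp_apply, LinearMap.lTensor_neg, LinearMap.neg_apply,
    add_assoc, ← map_add, map_sub, hx₃, hx₂, zero_sub, neg_neg]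
  rw [show (φ (i + 1)).lTensor N (x₃ - x₂) + (d' (i + 1)).lTensor N y₃ = y by
    rw [map_sub, sub_add_eq_add_sub, hy₃, add_sub_cancel_right]]
  exact hzz

theorem fst_zero (i : ℕ) (z : N ⊗[A] (X i × X' (i + 1)))
    (h0i : ∀ y₁, (φ i).lTensor N ((LinearMap.fst A (X i) (X' (i + 1))).lTensor N z) = (d' i).lTensor N y₁ →
      ∃ x₁, (d i).lTensor N x₁ = (LinearMap.fst A (X i) (X' (i + 1))).lTensor N z)
    (hxy : ((φ i).coprod (d' i)).lTensor N z = 0) :
    ∃ x₂, (d i).lTensor N x₂ = (LinearMap.fst A (X i) (X' (i + 1))).lTensor N z := by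
  refine h0i (-(LinearMap.snd A (X i) (X' (i + 1))).lTensor N z) ?_
  rw [coprod_lTensor] at hxy
  rw [map_neg]
  exact eq_neg_of_add_eq_zero_left hxy

include hc in
/-- If `N ⊗ φ` is bijective on homology then the tensored cone is exact. -/
theorem cone_exact
    (hDD : ∀ i, D d d' φ i ∘ₗ D d d' φ (i + 1) = 0)
    (h0s : ∀ y, ∃ x y₁, (φ 0).lTensor N x + (d' 0).lTensor N y₁ = y)
    (h0i : ∀ x y₁, (φ 0).lTensor N x = (d' 0).lTensor N y₁ → ∃ x₁, (d 0).lTensor N x₁ = x)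
    (hs : ∀ i y, (d' i).lTensor N y = 0 →
      ∃ x y₁, (d i).lTensor N x = 0 ∧ (φ (i + 1)).lTensor N x + (d' (i + 1)).lTensor N y₁ = y)
    (hi : ∀ i x y₁, (d i).lTensor N x = 0 → (φ (i + 1)).lTensor N x = (d' (i + 1)).lTensor N y₁ →
      ∃ x₁, (d (i + 1)).lTensor N x₁ = x) :
    RichLib.PointwiseTor.Good (fun i => Y X X' i) (D d d' φ) 0 N := by
  intro i _ z
  refine ⟨fun hz => ?_, fun ⟨w, hw⟩ => hw ▸ RichLib.PointwiseTor.dd_apply
    (X := fun i => Y X X' i) hDD N i w⟩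
  match i, z, hz with
  | 0, z, _ =>
    obtain ⟨x, y₁, h⟩ := h0s z
    refine ⟨(LinearMap.inl A (X 0) (X' 1)).lTensor N x + (LinearMap.inr A (X 0) (X' 1)).lTensor N y₁, ?_⟩
    show ((φ 0).coprod (d' 0)).lTensor N _ = z
    rw [map_add, ← LinearMap.comp_apply, ← LinearMap.comp_apply, ← LinearMap.lTensor_comp,
      ← LinearMap.lTensor_comp, LinearMap.coprod_inl, LinearMap.coprod_inr, h]
  | 1, z, hz =>
    exact lift_cycle d d' φ hc N 0 z (hs 0) hz (fst_zero d d' φ N 0 z (h0i _) hz)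
  | k + 2, z, hz =>
    let z' : N ⊗[A] (X (k + 1) × X' (k + 1 + 1)) := z
    have hz' : (((-(d k)) ∘ₗ LinearMap.fst A (X (k + 1)) (X' (k + 1 + 1))).prod
        ((φ (k + 1)).coprod (d' (k + 1)))).lTensor N z' = 0 := hz
    have h1 := congrArg ((LinearMap.fst A (X k) (X' (k + 1))).lTensor N) hz'
    have h2 := congrArg ((LinearMap.snd A (X k) (X' (k + 1))).lTensor N) hz'
    rw [map_zero, ← LinearMap.comp_apply, ← LinearMap.lTensor_comp] at h1 h2
    rw [LinearMap.snd_prod] at h2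
    rw [LinearMap.fst_prod, LinearMap.lTensor_comp, LinearMap.comp_apply, LinearMap.lTensor_neg,
      LinearMap.neg_apply, neg_eq_zero] at h1
    exact lift_cycle d d' φ hc N (k + 1) z' (hs (k + 1)) h2
      (fst_zero d d' φ N (k + 1) z' (fun y h => hi k _ y h1 h) h2)

end Cone

end RichLib.TorConeIso
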